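import Mathlib

set_option autoImplicit false

namespace Cfsg.Agent.Lib.helper26.AutOrbCount

/-- Weighted orbit count: if every point `x` carries a weight `w x` with
`K ≤ w x * |orbit of x|`, then `K * (number of orbits) ≤ ∑ x, w x`. -/
theorem card_orbits_mul_le {M α : Type*} [Group M] [MulAction M α] [Fintype α] (K : ℕ)
    (w : α → ℕ) (h : ∀ x : α, K ≤ w x * Nat.card (MulAction.orbit M x)) :
    K * Nat.card (MulAction.orbitRel.Quotient M α) ≤ ∑ x, w x := by
  classical
  haveI : Fintype (MulAction.orbitRel.Quotient M α) := Fintype.ofFinite _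
  have hsum : ∑ x, w x
      = ∑ q : MulAction.orbitRel.Quotient M α,
          ∑ x ∈ Finset.univ.filter (fun x : α => (Quotient.mk'' x : MulAction.orbitRel.Quotient M α) = q), w x :=
    (Finset.sum_fiberwise Finset.univ
      (fun x : α => (Quotient.mk'' x : MulAction.orbitRel.Quotient M α)) w).symm
  have hK : K * Nat.card (MulAction.orbitRel.Quotient M α)
      = ∑ _q : MulAction.orbitRel.Quotient M α, K := by
    rw [Finset.sum_const, Finset.card_univ, smul_eq_mul, Nat.card_eq_fintype_card, mul_comm]
  rw [hsum, hK]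
  apply Finset.sum_le_sum
  intro q _
  induction q using Quotient.inductionOn' with
  | _ x₀ =>
    set S := Finset.univ.filter
      (fun x : α => (Quotient.mk'' x : MulAction.orbitRel.Quotient M α) = Quotient.mk'' x₀) with hS
    have hmemS : ∀ x : α, x ∈ S ↔ x ∈ MulAction.orbit M x₀ := by
      intro x
      rw [hS, Finset.mem_filter]
      simp only [Finset.mem_univ, true_and]
      rw [Quotient.eq'']
      exact Iff.rfl
    have hScard : S.card = Nat.card (MulAction.orbit M x₀) := by
      rw [← Nat.card_eq_finsetCard]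
      exact Nat.card_congr (Equiv.subtypeEquivRight hmemS)
    have hx : ∀ x ∈ S, K ≤ w x * S.card := by
      intro x hx
      have h1 : MulAction.orbit M x = MulAction.orbit M x₀ :=
        MulAction.orbit_eq_iff.mpr ((hmemS x).mp hx)
      rw [hScard, ← h1]; exact h x
    have hpos : 0 < S.card := Finset.card_pos.mpr ⟨x₀, (hmemS x₀).mpr (MulAction.mem_orbit_self x₀)⟩
    have h1 : S.card * K ≤ (∑ x ∈ S, w x) * S.card := by
      rw [Finset.sum_mul]
      calc S.card * K = ∑ _x ∈ S, K := by rw [Finset.sum_const, smul_eq_mul]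
        _ ≤ ∑ x ∈ S, w x * S.card := Finset.sum_le_sum hx
    exact Nat.le_of_mul_le_mul_left (by rw [mul_comm (S.card) (∑ x ∈ S, w x)]; exact h1) hpos

/-- A non-central element has at least `minFac |G|` images under `Aut G` (its conjugates). -/
theorem minFac_le_orbit {G : Type*} [Group G] [Finite G] (g : G)
    (hg : g ∉ Subgroup.center G) :
    (Nat.card G).minFac ≤ Nat.card (MulAction.orbit (MulAut G) g) := by
  have hsub : MulAction.orbit (ConjAct G) g ⊆ MulAction.orbit (MulAut G) g := by
    rintro y ⟨x, rfl⟩
    refine ⟨MulAut.conj (ConjAct.ofConjAct x), ?_⟩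
    show (MulAut.conj (ConjAct.ofConjAct x)) g = x • g
    rw [ConjAct.smul_def, MulAut.conj_apply]
  have h1 : (MulAction.orbit (ConjAct G) g).ncard ≤ (MulAction.orbit (MulAut G) g).ncard :=
    Set.ncard_le_ncard hsub (Set.toFinite _)
  have hdvd : (MulAction.orbit (ConjAct G) g).ncard ∣ Nat.card G := by
    rw [← MulAction.index_stabilizer]
    exact Subgroup.index_dvd_card (MulAction.stabilizer (ConjAct G) g)
  have h2 : 1 < (MulAction.orbit (ConjAct G) g).ncard := by
    rw [Set.one_lt_ncard_iff (Set.toFinite _)]
    obtain ⟨x, hx⟩ : ∃ x : G, x * g ≠ g * x := by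
      by_contra hcon
      push Not at hcon
      exact hg (Subgroup.mem_center_iff.mpr hcon)
    refine ⟨g, ConjAct.toConjAct x • g, MulAction.mem_orbit_self g, MulAction.mem_orbit g _, ?_⟩
    intro h
    apply hx
    rw [ConjAct.smul_def, ConjAct.ofConjAct_toConjAct] at h
    calc x * g = x * g * x⁻¹ * x := by group
      _ = g * x := by rw [← h]
  have h3 : (Nat.card G).minFac ≤ (MulAction.orbit (ConjAct G) g).ncard :=
    Nat.minFac_le_of_dvd h2 hdvd
  calc (Nat.card G).minFac ≤ (MulAction.orbit (ConjAct G) g).ncard := h3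
    _ ≤ (MulAction.orbit (MulAut G) g).ncard := h1
    _ = Nat.card (MulAction.orbit (MulAut G) g) := (Nat.card_coe_set_eq _).symm

/-- In a non-abelian finite group, `minFac |G| ^ 2 * |Z(G)| ≤ |G|`. -/
theorem minFac_sq_mul_card_center_le {G : Type*} [Group G] [Finite G]
    (hna : ¬ IsMulCommutative G) :
    (Nat.card G).minFac ^ 2 * Nat.card (Subgroup.center G) ≤ Nat.card G := by
  have hmul : Nat.card (Subgroup.center G) * (Subgroup.center G).index = Nat.card G :=
    Subgroup.card_mul_index _
  have hidvd : (Subgroup.center G).index ∣ Nat.card G := Subgroup.index_dvd_card _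
  have hi0 : (Subgroup.center G).index ≠ 0 := Subgroup.index_ne_zero_of_finite
  have hi1 : (Subgroup.center G).index ≠ 1 := by
    intro h
    rw [Subgroup.index_eq_one] at h
    apply hna
    exact ⟨⟨fun a b => Subgroup.mem_center_iff.mp (h ▸ Subgroup.mem_top b) a⟩⟩
  have hnp : ¬ (Subgroup.center G).index.Prime := by
    intro hprime
    haveI : Fact (Subgroup.center G).index.Prime := ⟨hprime⟩
    have hcard : Nat.card (G ⧸ Subgroup.center G) = (Subgroup.center G).index := rfl
    haveI : IsCyclic (G ⧸ Subgroup.center G) := isCyclic_of_prime_card hcard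
    apply hna
    exact MonoidHom.isMulCommutative_of_isCyclic_of_ker_le_center
      (QuotientGroup.mk' (Subgroup.center G)) (by rw [QuotientGroup.ker_mk'])
  have h1 : (Subgroup.center G).index.minFac ^ 2 ≤ (Subgroup.center G).index :=
    Nat.minFac_sq_le_self (Nat.pos_of_ne_zero hi0) hnp
  have h2 : (Nat.card G).minFac ≤ (Subgroup.center G).index.minFac :=
    Nat.minFac_le_of_dvd (Nat.minFac_prime hi1).two_le ((Nat.minFac_dvd _).trans hidvd)
  calc (Nat.card G).minFac ^ 2 * Nat.card (Subgroup.center G)
      ≤ (Subgroup.center G).index.minFac ^ 2 * Nat.card (Subgroup.center G) :=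
        Nat.mul_le_mul_right _ (Nat.pow_le_pow_left h2 2)
    _ ≤ (Subgroup.center G).index * Nat.card (Subgroup.center G) := Nat.mul_le_mul_right _ h1
    _ = Nat.card G := by rw [mul_comm]; exact hmul

/-- `Aut G` has at most as many orbits on `G` as `G` has conjugacy classes. -/
theorem card_orbits_le_conjClasses {G : Type*} [Group G] [Finite G] :
    Nat.card (MulAction.orbitRel.Quotient (MulAut G) G) ≤ Nat.card (ConjClasses G) := by
  let f : ConjClasses G → MulAction.orbitRel.Quotient (MulAut G) G :=
    Quotient.map' id (fun a b hab => by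
      obtain ⟨x, hx⟩ := isConj_iff.mp hab
      show a ∈ MulAction.orbit (MulAut G) b
      refine ⟨MulAut.conj x⁻¹, ?_⟩
      show (MulAut.conj x⁻¹) b = a
      rw [MulAut.conj_apply, ← hx]; group)
  have hf : Function.Surjective f := by
    intro q
    induction q using Quotient.inductionOn' with
    | _ a => exact ⟨ConjClasses.mk a, rfl⟩
  exact Nat.card_le_card_of_surjective f hf

/-- Counting for S4067, case B: a non-central `u` such that every `g` not commuting with `u` has
at least `minFac |G| ^ 2` images under `Aut G`. -/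
theorem count_caseB {G : Type*} [Group G] [Finite G] (hna : ¬ IsMulCommutative G) (u : G)
    (hu : u ∉ Subgroup.center G)
    (h2 : ∀ g : G, ¬ Commute g u →
      (Nat.card G).minFac ^ 2 ≤ Nat.card (MulAction.orbit (MulAut G) g)) :
    Nat.card (MulAction.orbitRel.Quotient (MulAut G) G) ≤ Nat.card G / (Nat.card G).minFac := by
  classical
  haveI : Fintype G := Fintype.ofFinite G
  have hn1 : Nat.card G ≠ 1 := by
    intro h
    apply hna
    haveI : Subsingleton G := (Nat.card_eq_one_iff_unique.mp h).1
    exact ⟨⟨fun a b => Subsingleton.elim _ _⟩⟩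
  have hp2 : 2 ≤ (Nat.card G).minFac := (Nat.minFac_prime hn1).two_le
  obtain ⟨P, hP⟩ : ∃ P, (Nat.card G).minFac = P + 1 := ⟨(Nat.card G).minFac - 1, by omega⟩
  have hP1 : 1 ≤ P := by omega
  have hz := minFac_sq_mul_card_center_le hna
  -- centralizer of u
  have hc : (Nat.card G).minFac * Nat.card (Subgroup.centralizer ({u} : Set G)) ≤ Nat.card G := by
    have hidx : (Nat.card G).minFac ≤ (Subgroup.centralizer ({u} : Set G)).index := by
      apply Nat.minFac_le_of_dvd _ (Subgroup.index_dvd_card _)
      have h0 : (Subgroup.centralizer ({u} : Set G)).index ≠ 0 := Subgroup.index_ne_zero_of_finite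
      have h1 : (Subgroup.centralizer ({u} : Set G)).index ≠ 1 := by
        rw [Ne, Subgroup.index_eq_one]
        intro htop
        apply hu
        rw [Subgroup.mem_center_iff]
        intro x
        have hx : x ∈ Subgroup.centralizer ({u} : Set G) := htop ▸ Subgroup.mem_top x
        exact (Subgroup.mem_centralizer_singleton_iff.mp hx)
      omega
    calc (Nat.card G).minFac * Nat.card (Subgroup.centralizer ({u} : Set G))
        ≤ (Subgroup.centralizer ({u} : Set G)).index * Nat.card (Subgroup.centralizer ({u} : Set G)) :=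
          Nat.mul_le_mul_right _ hidx
      _ = Nat.card G := by rw [mul_comm]; exact Subgroup.card_mul_index _
  rw [hP] at hz hc h2
  let w : G → ℕ := fun x =>
    1 + P * (if x ∈ Subgroup.centralizer ({u} : Set G) then 1 else 0)
      + (P + 1) * P * (if x ∈ Subgroup.center G then 1 else 0)
  have hw : ∀ x : G, (P + 1) ^ 2 ≤ w x * Nat.card (MulAction.orbit (MulAut G) x) := by
    intro x
    have hpos : 1 ≤ Nat.card (MulAction.orbit (MulAut G) x) := by
      haveI : Nonempty (MulAction.orbit (MulAut G) x) := ⟨⟨x, MulAction.mem_orbit_self x⟩⟩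
      exact Nat.card_pos
    by_cases hxZ : x ∈ Subgroup.center G
    · have hxC : x ∈ Subgroup.centralizer ({u} : Set G) :=
        Subgroup.center_le_centralizer _ hxZ
      have hwx : w x = (P + 1) ^ 2 := by
        simp only [w, if_pos hxZ, if_pos hxC]; ring
      rw [hwx]; nlinarith
    · by_cases hxC : x ∈ Subgroup.centralizer ({u} : Set G)
      · have hwx : w x = P + 1 := by
          simp only [w, if_neg hxZ, if_pos hxC]; ring
        have h3 := minFac_le_orbit x hxZ
        rw [hP] at h3
        rw [hwx]; nlinarith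
      · have hwx : w x = 1 := by
          simp only [w, if_neg hxZ, if_neg hxC]; ring
        rw [hwx, one_mul]
        apply h2
        intro hcomm
        apply hxC
        rw [Subgroup.mem_centralizer_singleton_iff]
        exact hcomm.eq
  have hcount := card_orbits_mul_le (M := MulAut G) ((P + 1) ^ 2) w hw
  have hcardC : (Finset.univ.filter (fun x : G => x ∈ Subgroup.centralizer ({u} : Set G))).card
      = Nat.card (Subgroup.centralizer ({u} : Set G)) :=
    (Nat.subtype_card _ (fun x => by simp)).symm
  have hcardZ : (Finset.univ.filter (fun x : G => x ∈ Subgroup.center G)).card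
      = Nat.card (Subgroup.center G) :=
    (Nat.subtype_card _ (fun x => by simp)).symm
  have hsum : ∑ x, w x = Nat.card G + P * Nat.card (Subgroup.centralizer ({u} : Set G))
      + (P + 1) * P * Nat.card (Subgroup.center G) := by
    have e1 : ∑ _x : G, (1 : ℕ) = Nat.card G := by
      rw [Finset.sum_const, Finset.card_univ, smul_eq_mul, mul_one, Nat.card_eq_fintype_card]
    have e2 : ∑ x : G, (if x ∈ Subgroup.centralizer ({u} : Set G) then 1 else 0)
        = Nat.card (Subgroup.centralizer ({u} : Set G)) := by
      rw [Finset.sum_boole, Nat.cast_id, hcardC]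
    have e3 : ∑ x : G, (if x ∈ Subgroup.center G then 1 else 0)
        = Nat.card (Subgroup.center G) := by
      rw [Finset.sum_boole, Nat.cast_id, hcardZ]
    show ∑ x : G, (1 + P * (if x ∈ Subgroup.centralizer ({u} : Set G) then 1 else 0)
      + (P + 1) * P * (if x ∈ Subgroup.center G then 1 else 0)) = _
    rw [Finset.sum_add_distrib, Finset.sum_add_distrib, ← Finset.mul_sum, ← Finset.mul_sum,
      e1, e2, e3]
  rw [hsum] at hcount
  rw [hP, Nat.le_div_iff_mul_le (by omega : 0 < P + 1)]
  generalize Nat.card (MulAction.orbitRel.Quotient (MulAut G) G) = N at hcount ⊢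
  generalize Nat.card G = n at hcount hz hc ⊢
  generalize Nat.card (Subgroup.centralizer ({u} : Set G)) = c at hcount hc
  generalize Nat.card (Subgroup.center G) = z at hcount hz
  have ha : (P + 1) * ((P + 1) ^ 2 * N) ≤ (P + 1) * (n + P * c + (P + 1) * P * z) :=
    Nat.mul_le_mul_left _ hcount
  have hb : P * ((P + 1) * c) ≤ P * n := Nat.mul_le_mul_left _ hc
  have hd : P * ((P + 1) ^ 2 * z) ≤ P * n := Nat.mul_le_mul_left _ hz
  have he : (3 * P + 1) * n ≤ (P + 1) ^ 2 * n := by
    apply Nat.mul_le_mul_right
    nlinarith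
  have hfin : (P + 1) ^ 2 * (N * (P + 1)) ≤ (P + 1) ^ 2 * n := by nlinarith
  exact Nat.le_of_mul_le_mul_left hfin (by positivity)

/-- Counting for S4067, case A: every non-central element has at least `minFac |G| ^ 2` images
under `Aut G`. -/
theorem count_caseA {G : Type*} [Group G] [Finite G] (hna : ¬ IsMulCommutative G)
    (h2 : ∀ g : G, g ∉ Subgroup.center G →
      (Nat.card G).minFac ^ 2 ≤ Nat.card (MulAction.orbit (MulAut G) g)) :
    Nat.card (MulAction.orbitRel.Quotient (MulAut G) G) ≤ Nat.card G / (Nat.card G).minFac := by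
  obtain ⟨u, hu⟩ : ∃ u : G, u ∉ Subgroup.center G := by
    by_contra hcon
    push Not at hcon
    apply hna
    exact ⟨⟨fun a b => Subgroup.mem_center_iff.mp (hcon b) a⟩⟩
  refine count_caseB hna u hu (fun g hg => h2 g (fun hgZ => hg ?_))
  exact (Subgroup.mem_center_iff.mp hgZ u).symm

end Cfsg.Agent.Lib.helper26.AutOrbCount
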