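import Mathlib
import Cfsg.Agent.Lib.helper26.AutOrbA

set_option autoImplicit false

namespace Cfsg.Agent.Lib.helper26.AutOrbD

open Subgroup
open scoped commutatorElement

theorem comm_commute {G : Type*} [Group G] (hDZ : commutator G ≤ Subgroup.center G)
    (x y w : G) : Commute w ⁅x, y⁆ :=
  Subgroup.mem_center_iff.mp (hDZ (by
    rw [commutator_def]
    exact Subgroup.commutator_mem_commutator (Subgroup.mem_top _) (Subgroup.mem_top _))) w

theorem comm_mul_right {G : Type*} [Group G] (hDZ : commutator G ≤ Subgroup.center G)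
    (x y y' : G) : ⁅x, y * y'⁆ = ⁅x, y⁆ * ⁅x, y'⁆ := by
  have h1 : ⁅x, y * y'⁆ = (⁅y * y', x⁆)⁻¹ := (commutatorElement_inv _ _).symm
  rw [h1, AutOrbA.comm_mul hDZ, mul_inv_rev, commutatorElement_inv, commutatorElement_inv]
  exact (comm_commute hDZ x y ⁅x, y'⁆).eq

/-- `x ↦ ⁅x, y⁆` as a homomorphism (commutators central). -/
def commL {G : Type*} [Group G] (hDZ : commutator G ≤ Subgroup.center G) (y : G) : G →* G where
  toFun x := ⁅x, y⁆
  map_one' := by rw [commutatorElement_eq_one_iff_commute]; exact Commute.one_left y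
  map_mul' x x' := AutOrbA.comm_mul hDZ x x' y

/-- `y ↦ ⁅x, y⁆` as a homomorphism (commutators central). -/
def commR {G : Type*} [Group G] (hDZ : commutator G ≤ Subgroup.center G) (x : G) : G →* G where
  toFun y := ⁅x, y⁆
  map_one' := by rw [commutatorElement_eq_one_iff_commute]; exact Commute.one_right x
  map_mul' y y' := comm_mul_right hDZ x y y'

theorem commL_apply {G : Type*} [Group G] (hDZ : commutator G ≤ Subgroup.center G) (x y : G) :
    commL hDZ y x = ⁅x, y⁆ := rfl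

theorem commR_apply {G : Type*} [Group G] (hDZ : commutator G ≤ Subgroup.center G) (x y : G) :
    commR hDZ x y = ⁅x, y⁆ := rfl

theorem comm_zpow_right {G : Type*} [Group G] (hDZ : commutator G ≤ Subgroup.center G)
    (x y : G) (k : ℤ) : ⁅x, y ^ k⁆ = ⁅x, y⁆ ^ k := by
  rw [← commR_apply hDZ, map_zpow, commR_apply]

theorem comm_pow_right {G : Type*} [Group G] (hDZ : commutator G ≤ Subgroup.center G)
    (x y : G) (k : ℕ) : ⁅x, y ^ k⁆ = ⁅x, y⁆ ^ k := by
  rw [← commR_apply hDZ, map_pow, commR_apply]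

theorem comm_zpow_left {G : Type*} [Group G] (hDZ : commutator G ≤ Subgroup.center G)
    (x y : G) (k : ℤ) : ⁅x ^ k, y⁆ = ⁅x, y⁆ ^ k := by
  rw [← commL_apply hDZ, map_zpow, commL_apply]

theorem aux_mul {G : Type*} [Group G] (x y a b α β ν : G) (hα : ∀ w : G, w * α = α * w)
    (hν : ∀ w : G, w * ν = ν * w) (hay : a * y = ν * y * a) :
    x * a * α * (y * b * β) = x * y * (a * b) * (α * ν * β) := by
  calc x * a * α * (y * b * β) = x * a * (α * (y * b)) * β := by group
    _ = x * a * ((y * b) * α) * β := by rw [← hα (y * b)]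
    _ = x * (a * y) * b * α * β := by group
    _ = x * (ν * y * a) * b * α * β := by rw [hay]
    _ = (x * ν) * (y * a * b * α * β) := by group
    _ = (ν * x) * (y * a * b * α * β) := by rw [hν x]
    _ = ν * (x * y * a * b * α * β) := by group
    _ = (x * y * a * b * α * β) * ν := (hν _).symm
    _ = x * y * (a * b) * α * (β * ν) := by group
    _ = x * y * (a * b) * α * (ν * β) := by rw [hν β]
    _ = x * y * (a * b) * (α * ν * β) := by group

/-- (D) for S4067: transvection automorphisms. -/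
theorem caseB_odd_orbit {G : Type*} [Group G] [Finite G] {p : ℕ} (hp : p.Prime) (hp2 : p ≠ 2)
    (hD : Nat.card (commutator G) = p) (hDZ : commutator G ≤ Subgroup.center G) (u : G)
    (hu : u ∉ Subgroup.center G) (hup : u ^ p = 1) (g : G) (hg : ¬ Commute g u) :
    p ^ 2 ≤ Nat.card (MulAction.orbit (MulAut G) g) := by
  haveI : Fact p.Prime := ⟨hp⟩
  obtain ⟨q, hq⟩ : ∃ q, p = 2 * q + 1 := by
    rcases hp.eq_two_or_odd' with h | h
    · exact absurd h hp2
    · obtain ⟨q, hq⟩ := h; exact ⟨q, hq⟩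
  have hmemD : ∀ x y : G, ⁅x, y⁆ ∈ commutator G := fun x y => by
    rw [commutator_def]
    exact Subgroup.commutator_mem_commutator (Subgroup.mem_top _) (Subgroup.mem_top _)
  have hDp : ∀ d ∈ commutator G, d ^ p = 1 := by
    intro d hd
    have h1 : (⟨d, hd⟩ : commutator G) ^ Nat.card (commutator G) = 1 := pow_card_eq_one'
    rw [hD] at h1
    have := congrArg Subtype.val h1
    simpa using this
  have hinvq : ∀ d ∈ commutator G, d ^ (2 * q) = d⁻¹ := by
    intro d hd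
    apply eq_inv_of_mul_eq_one_left
    rw [← pow_succ, ← hq]; exact hDp d hd
  obtain ⟨c, hc⟩ : ∃ c : G, c = ⁅g, u⁆ := ⟨_, rfl⟩
  have hc1 : c ≠ 1 := by
    intro h; rw [hc] at h; exact hg (commutatorElement_eq_one_iff_commute.mp h)
  have hcD : c ∈ commutator G := by rw [hc]; exact hmemD g u
  have hordc : orderOf c = p := orderOf_eq_prime (hDp c hcD) hc1
  have hcc : ∀ (k : ℤ) (w : G), w * c ^ k = c ^ k * w := fun k w => by
    rw [hc]; exact ((comm_commute hDZ g u w).zpow_right k).eq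
  let κ : G →* commutator G :=
    { toFun := fun x => ⟨⁅x, u⁆, hmemD x u⟩
      map_one' := by
        apply Subtype.ext
        show ⁅(1 : G), u⁆ = 1
        rw [commutatorElement_eq_one_iff_commute]; exact Commute.one_left u
      map_mul' := fun x x' => by
        apply Subtype.ext
        show ⁅x * x', u⁆ = ⁅x, u⁆ * ⁅x', u⁆
        exact AutOrbA.comm_mul hDZ x x' u }
  have hκ : ∀ x : G, ((κ x : commutator G) : G) = ⁅x, u⁆ := fun x => rfl
  obtain ⟨C, hC⟩ : ∃ C : commutator G, C = κ g := ⟨_, rfl⟩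
  have hCc : (C : G) = c := by rw [hC, hκ, hc]
  have hC1 : C ≠ 1 := by
    intro h; apply hc1; rw [← hCc, h]; rfl
  have hgen : ∀ d : commutator G, d ∈ Subgroup.zpowers C := by
    intro d
    rw [zpowers_eq_top_of_prime_card hD hC1]
    exact Subgroup.mem_top d
  have hordC : orderOf C = p := by
    rw [orderOf_eq_card_of_forall_mem_zpowers hgen, hD]
  -- the transvections
  have hT : ∀ t : ℕ, ∃ φ : MulAut G, φ g = g * u ^ t * ⁅g, u ^ t⁆ ^ q := by
    intro t
    have hord : orderOf (u ^ t) ∣ orderOf C := by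
      rw [hordC]; apply orderOf_dvd_of_pow_eq_one
      rw [← pow_mul, mul_comm, pow_mul, hup, one_pow]
    obtain ⟨θ, hθ⟩ : ∃ θ : commutator G →* G, θ C = u ^ t :=
      ⟨monoidHomOfForallMemZpowers hgen hord, monoidHomOfForallMemZpowers_apply_gen hgen hord⟩
    obtain ⟨W, hW⟩ : ∃ W : G →* G, ∀ x, W x = θ (κ x) := ⟨θ.comp κ, fun x => rfl⟩
    have hWpow : ∀ x : G, ∃ i : ℤ, ⁅x, u⁆ = c ^ i ∧ W x = (u ^ t) ^ i := by
      intro x
      obtain ⟨i, hi⟩ := Subgroup.mem_zpowers_iff.mp (hgen (κ x))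
      refine ⟨i, ?_, ?_⟩
      · rw [← hκ x, ← hi, Subgroup.coe_zpow, hCc]
      · rw [hW, ← hi, map_zpow, hθ]
    have hWu : ∀ x : G, Commute (W x) u := by
      intro x
      obtain ⟨i, -, hi⟩ := hWpow x
      rw [hi]
      exact ((Commute.refl u).pow_left t).zpow_left i
    have hsymm : ∀ x y : G, ⁅x, W y⁆ = ⁅y, W x⁆ := by
      intro x y
      obtain ⟨i, hi1, hi2⟩ := hWpow x
      obtain ⟨j, hj1, hj2⟩ := hWpow y
      rw [hj2, hi2, comm_zpow_right hDZ, comm_zpow_right hDZ, comm_pow_right hDZ,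
        comm_pow_right hDZ, hi1, hj1]
      rw [← zpow_natCast, ← zpow_natCast, ← zpow_mul, ← zpow_mul, ← zpow_mul, ← zpow_mul]
      congr 1; ring
    let T : G →* G :=
      { toFun := fun x => x * W x * ⁅x, W x⁆ ^ q
        map_one' := by simp
        map_mul' := fun x y => by
          show x * y * W (x * y) * ⁅x * y, W (x * y)⁆ ^ q
            = x * W x * ⁅x, W x⁆ ^ q * (y * W y * ⁅y, W y⁆ ^ q)
          have hN : ⁅y, W x⁆ ∈ commutator G := hmemD _ _
          have hcomm1 : ⁅x * y, W x * W y⁆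
              = (⁅x, W x⁆ * ⁅y, W x⁆) * (⁅y, W x⁆ * ⁅y, W y⁆) := by
            rw [AutOrbA.comm_mul hDZ, comm_mul_right hDZ, comm_mul_right hDZ, hsymm x y]
          have hpow : (⁅x, W x⁆ * ⁅y, W x⁆ * (⁅y, W x⁆ * ⁅y, W y⁆)) ^ q
              = ⁅x, W x⁆ ^ q * (⁅y, W x⁆)⁻¹ * ⁅y, W y⁆ ^ q := by
            have c1 : Commute (⁅x, W x⁆ * ⁅y, W x⁆) (⁅y, W x⁆ * ⁅y, W y⁆) :=
              (comm_commute hDZ y (W x) _).mul_right (comm_commute hDZ y (W y) _)
            have cAN : Commute ⁅x, W x⁆ ⁅y, W x⁆ := comm_commute hDZ y (W x) _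
            have cNB : Commute ⁅y, W x⁆ ⁅y, W y⁆ := comm_commute hDZ y (W y) _
            rw [c1.mul_pow, cAN.mul_pow, cNB.mul_pow]
            have e : ⁅y, W x⁆ ^ q * ⁅y, W x⁆ ^ q = (⁅y, W x⁆)⁻¹ := by
              rw [← pow_add, ← two_mul]; exact hinvq _ hN
            calc ⁅x, W x⁆ ^ q * ⁅y, W x⁆ ^ q * (⁅y, W x⁆ ^ q * ⁅y, W y⁆ ^ q)
                = ⁅x, W x⁆ ^ q * (⁅y, W x⁆ ^ q * ⁅y, W x⁆ ^ q) * ⁅y, W y⁆ ^ q := by group
              _ = ⁅x, W x⁆ ^ q * (⁅y, W x⁆)⁻¹ * ⁅y, W y⁆ ^ q := by rw [e]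
          rw [map_mul, hcomm1, hpow]
          symm
          apply aux_mul
          · intro w; exact ((comm_commute hDZ x (W x) w).pow_right q).eq
          · intro w; exact ((comm_commute hDZ y (W x) w).inv_right).eq
          · rw [commutatorElement_inv, commutatorElement_def]; group }
    have hTdef : ∀ x : G, T x = x * W x * ⁅x, W x⁆ ^ q := fun x => rfl
    have hinj : Function.Injective T := by
      rw [injective_iff_map_eq_one]
      intro x hx
      rw [hTdef] at hx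
      have hxu : Commute x u := by
        have h1 : x = (W x * ⁅x, W x⁆ ^ q)⁻¹ := by
          apply eq_inv_of_mul_eq_one_left
          rw [← mul_assoc]; exact hx
        rw [h1]
        exact ((hWu x).mul_left ((comm_commute hDZ x (W x) u).pow_right q).symm).inv_left
      have hκx : κ x = 1 := by
        apply Subtype.ext
        rw [hκ]
        exact commutatorElement_eq_one_iff_commute.mpr hxu
      have hWx : W x = 1 := by rw [hW, hκx, map_one]
      rw [hWx] at hx
      simpa using hx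
    have hbij : Function.Bijective T := Finite.injective_iff_bijective.mp hinj
    refine ⟨MulEquiv.ofBijective T hbij, ?_⟩
    show T g = g * u ^ t * ⁅g, u ^ t⁆ ^ q
    have hWg : W g = u ^ t := by rw [hW, ← hC, hθ]
    rw [hTdef, hWg]
  -- the orbit contains g * u^t * c^m
  have hmem : ∀ (t : ℕ) (m : ℤ), g * u ^ t * c ^ m ∈ MulAction.orbit (MulAut G) g := by
    intro t m
    obtain ⟨φ, hφ⟩ := hT t
    have hz : ⁅g, u ^ t⁆ ^ q = c ^ ((t * q : ℕ) : ℤ) := by
      rw [comm_pow_right hDZ, ← hc, ← pow_mul, zpow_natCast]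
    obtain ⟨j, hj⟩ : ∃ j : ℤ, j = ((t * q : ℕ) : ℤ) - m := ⟨_, rfl⟩
    refine MulAction.mem_orbit_iff.mpr ⟨MulAut.conj (u ^ j) * φ, ?_⟩
    rw [MulAut.smul_def, MulAut.mul_apply, hφ, MulAut.conj_apply, hz]
    have h2 : ⁅u ^ j, g⁆ = c ^ (-j) := by
      rw [comm_zpow_left hDZ, ← commutatorElement_inv g u, ← hc, inv_zpow, zpow_neg]
    have h3 : u ^ j * u ^ t * (u ^ j)⁻¹ = u ^ t := by
      have hcm : Commute (u ^ j) (u ^ t) := ((Commute.refl u).zpow_left j).pow_right t
      rw [hcm.eq, mul_inv_cancel_right]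
    calc u ^ j * (g * u ^ t * c ^ ((t * q : ℕ) : ℤ)) * (u ^ j)⁻¹
        = u ^ j * (c ^ ((t * q : ℕ) : ℤ) * (g * u ^ t)) * (u ^ j)⁻¹ := by
          rw [hcc _ (g * u ^ t)]
      _ = (u ^ j * c ^ ((t * q : ℕ) : ℤ)) * (g * u ^ t) * (u ^ j)⁻¹ := by group
      _ = (c ^ ((t * q : ℕ) : ℤ) * u ^ j) * (g * u ^ t) * (u ^ j)⁻¹ := by rw [hcc _ (u ^ j)]
      _ = c ^ ((t * q : ℕ) : ℤ) * (⁅u ^ j, g⁆ * g * (u ^ j * u ^ t * (u ^ j)⁻¹)) := by
          rw [commutatorElement_def]; group
      _ = c ^ ((t * q : ℕ) : ℤ) * (c ^ (-j) * g * u ^ t) := by rw [h2, h3]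
      _ = (c ^ ((t * q : ℕ) : ℤ) * c ^ (-j)) * (g * u ^ t) := by group
      _ = c ^ m * (g * u ^ t) := by
          rw [← zpow_add]; congr 2; rw [hj]; ring
      _ = g * u ^ t * c ^ m := (hcc m (g * u ^ t)).symm
  have hkey : ∀ (t m : ℕ), ⁅g, g * u ^ t * c ^ m⁆ = c ^ t := by
    intro t m
    rw [comm_mul_right hDZ, comm_mul_right hDZ, comm_pow_right hDZ, comm_pow_right hDZ]
    have h1 : ⁅g, g⁆ = 1 := commutatorElement_self g
    have h2 : ⁅g, c⁆ = 1 := by
      rw [commutatorElement_eq_one_iff_commute, hc]; exact comm_commute hDZ g u g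
    rw [h1, h2, one_pow, one_mul, mul_one, ← hc]
  let F : Fin p × Fin p → MulAction.orbit (MulAut G) g := fun tm =>
    ⟨g * u ^ (tm.1 : ℕ) * c ^ (tm.2 : ℕ), by
      have := hmem tm.1 ((tm.2 : ℕ) : ℤ)
      rwa [zpow_natCast] at this⟩
  have hF : Function.Injective F := by
    rintro ⟨t, m⟩ ⟨s, n⟩ h
    have h' : g * u ^ (t : ℕ) * c ^ (m : ℕ) = g * u ^ (s : ℕ) * c ^ (n : ℕ) :=
      congrArg Subtype.val h
    have hts : (t : ℕ) = s := by
      have h3 : ⁅g, g * u ^ (t : ℕ) * c ^ (m : ℕ)⁆ = ⁅g, g * u ^ (s : ℕ) * c ^ (n : ℕ)⁆ := by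
        rw [h']
      rw [hkey, hkey] at h3
      have ht : (t : ℕ) ∈ Set.Iio (orderOf c) := by rw [hordc]; exact t.2
      have hs : (s : ℕ) ∈ Set.Iio (orderOf c) := by rw [hordc]; exact s.2
      exact pow_injOn_Iio_orderOf ht hs h3
    have hmn : (m : ℕ) = n := by
      rw [hts] at h'
      have h4 := mul_left_cancel h'
      have hm : (m : ℕ) ∈ Set.Iio (orderOf c) := by rw [hordc]; exact m.2
      have hn : (n : ℕ) ∈ Set.Iio (orderOf c) := by rw [hordc]; exact n.2
      exact pow_injOn_Iio_orderOf hm hn h4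
    exact Prod.ext (Fin.ext hts) (Fin.ext hmn)
  calc p ^ 2 = Nat.card (Fin p × Fin p) := by rw [Nat.card_prod, Nat.card_fin, sq]
    _ ≤ Nat.card (MulAction.orbit (MulAut G) g) := Nat.card_le_card_of_injective F hF

end Cfsg.Agent.Lib.helper26.AutOrbD
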