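import Mathlib
import Cfsg.Agent.S0121
import Cfsg.Agent.Lib.helper26.OmegaAut
import Cfsg.Agent.Lib.helper26.Alperin
import Cfsg.Agent.Lib.helper26.FusionIso

set_option autoImplicit false

namespace Cfsg.Agent.Lib.helper26

open Cfsg Cfsg.FusionSystem
open scoped commutatorElement

/-- the small exponent: `p` for odd `p` and `4` for `p = 2` -/
def qq (p : ℕ) : ℕ := if p = 2 then 4 else p

theorem qq_two : qq 2 = 4 := by simp [qq]

theorem qq_odd {p : ℕ} (hp : p ≠ 2) : qq p = p := by simp [qq, hp]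

/-- Every finite `p`-group has a characteristic subgroup `B` of exponent dividing `p` (dividing `4`
when `p = 2`) on which every nontrivial `p'`-automorphism acts nontrivially. -/
theorem crit_small {P : Type*} [Group P] [Finite P] {p : ℕ} [Fact p.Prime] (hP : IsPGroup p P) :
    ∃ B : Subgroup P, B.Characteristic ∧ (∀ x ∈ B, x ^ qq p = 1) ∧
      ∀ (a : MulAut P), Nat.Coprime (orderOf a) p → (∀ x ∈ B, a x = x) → a = 1 := by
  have hpp : p.Prime := Fact.out
  obtain ⟨H, hHchar, hfr, hcomm, hcen⟩ := Cfsg.Agent.S0093.result hP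
  haveI := hHchar
  have hcH : ∀ x y : H, ⁅x, y⁆ ∈ Subgroup.center H := by
    intro x y
    rw [Subgroup.mem_center_iff]
    intro g
    have h1 : ⁅(x : P), (y : P)⁆ ∈ ⁅H, (⊤ : Subgroup P)⁆ :=
      Subgroup.commutator_mem_commutator x.2 (Subgroup.mem_top _)
    have h2 := (hcomm h1).2
    apply Subtype.ext
    exact Subgroup.mem_centralizer_iff.mp h2 (g : P) g.2
  have hpH : ∀ x : H, x ^ p ∈ Subgroup.center H := by
    intro x
    rw [Subgroup.mem_center_iff]
    intro g
    have h1 : x ^ p ∈ frattini H := (Cfsg.Agent.S0012.result p (hP.to_subgroup H)).2 x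
    have h2 : ((x ^ p : H) : P) ∈ Subgroup.centralizer (H : Set P) := hfr ⟨x ^ p, h1, rfl⟩
    apply Subtype.ext
    exact Subgroup.mem_centralizer_iff.mp h2 (g : P) g.2
  have hmul : ∀ x y : H, (x * y) ^ qq p = x ^ qq p * y ^ qq p := by
    intro x y
    have hcp : ⁅y, x⁆ ^ p = 1 := by
      rw [← Cfsg.Agent.S0096.comm_pow y x hcH p, commutatorElement_eq_one_iff_mul_comm]
      exact ((Subgroup.mem_center_iff.mp (hpH y)) x).symm
    by_cases hp2 : p = 2
    · subst hp2
      rw [qq_two, Cfsg.Agent.S0096.mul_pow_class_two x y hcH 4,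
        show Nat.choose 4 2 = 2 * 3 by decide, pow_mul, hcp, one_pow, one_mul]
    · rw [qq_odd hp2]
      have h2lt : 2 < p := lt_of_le_of_ne hpp.two_le (Ne.symm hp2)
      obtain ⟨c, hcm⟩ := hpp.dvd_choose_self (by norm_num : (2 : ℕ) ≠ 0) h2lt
      rw [Cfsg.Agent.S0096.mul_pow_class_two x y hcH p, hcm, pow_mul, hcp, one_pow, one_mul]
  let φ : H →* H :=
    { toFun := fun x => x ^ qq p
      map_one' := one_pow _
      map_mul' := hmul }
  have haH : ∀ (α : MulAut P) (y : P), y ∈ H → α y ∈ H := by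
    intro α y hy
    have := hHchar.fixed α
    rw [← this] at hy
    exact hy
  refine ⟨φ.ker.map H.subtype, ?_, ?_, ?_⟩
  · rw [Subgroup.characteristic_iff_map_le]
    intro α
    rintro _ ⟨_, ⟨h, hh, rfl⟩, rfl⟩
    refine ⟨⟨α h, haH α _ h.2⟩, ?_, rfl⟩
    have hh1 : φ h = 1 := MonoidHom.mem_ker.1 hh
    have hh' : (h : P) ^ qq p = 1 := congrArg Subtype.val hh1
    refine MonoidHom.mem_ker.2 (Subtype.ext ?_)
    show (α (h : P)) ^ qq p = 1
    rw [← map_pow, hh', map_one]
  · rintro _ ⟨h, hh, rfl⟩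
    exact congrArg Subtype.val (MonoidHom.mem_ker.1 hh)
  · intro a ha hfix
    apply Cfsg.Agent.S0121.result hP H hHchar hfr hcomm hcen a ha
    have hmemB : ∀ y : P, y ∈ H → y ^ qq p = 1 → y ∈ φ.ker.map H.subtype := by
      intro y hy hyq
      exact ⟨⟨y, hy⟩, MonoidHom.mem_ker.2 (Subtype.ext hyq), rfl⟩
    refine aut_trivial_small_on hP H a (haH a) (haH a⁻¹) (orderOf a) ha (pow_orderOf_eq_one a) ?_
    rintro y hy (hyp | ⟨hp2, hy4⟩)
    · apply hfix
      apply hmemB y hy
      by_cases hp2 : p = 2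
      · subst hp2
        rw [qq_two, show 4 = 2 * 2 by norm_num, pow_mul, hyp, one_pow]
      · rw [qq_odd hp2]
        exact hyp
    · apply hfix
      apply hmemB y hy
      subst hp2
      rw [qq_two]
      exact hy4

/-- the cyclic group generated by a nontrivial element of small order has order `p` or `4` -/
theorem card_small {G : Type*} [Group G] {p : ℕ} [Fact p.Prime] (x : G) (hx : x ^ qq p = 1)
    (hx1 : x ≠ 1) : Nat.card (Subgroup.zpowers x) = p ∨ Nat.card (Subgroup.zpowers x) = 4 := by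
  have hpp : p.Prime := Fact.out
  rw [Nat.card_zpowers]
  have hdvd := orderOf_dvd_of_pow_eq_one hx
  have hne : orderOf x ≠ 1 := fun h => hx1 (orderOf_eq_one_iff.1 h)
  by_cases hp2 : p = 2
  · subst hp2
    rw [qq_two, show 4 = 2 ^ 2 by norm_num] at hdvd
    obtain ⟨k, hk, hk2⟩ := (Nat.dvd_prime_pow Nat.prime_two).1 hdvd
    interval_cases k
    · exact absurd hk2 hne
    · left
      rw [hk2]
      norm_num
    · right
      rw [hk2]
      norm_num
  · rw [qq_odd hp2] at hdvd
    rcases (Nat.dvd_prime hpp).1 hdvd with h | h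
    · exact absurd h hne
    · exact Or.inl h

/-- restriction of an automorphism to an invariant subgroup -/
def restrictAut {R : Type*} [Group R] (a : MulAut R) (X : Subgroup R) (hX : ∀ y ∈ X, a y ∈ X)
    (hX' : ∀ y ∈ X, a⁻¹ y ∈ X) : MulAut X :=
  { toFun := fun y => ⟨a y, hX _ y.2⟩
    invFun := fun y => ⟨a⁻¹ y, hX' _ y.2⟩
    left_inv := fun y => Subtype.ext (by simp)
    right_inv := fun y => Subtype.ext (by simp)
    map_mul' := fun y z => Subtype.ext (by simp) }

theorem restrictAut_apply {R : Type*} [Group R] (a : MulAut R) (X : Subgroup R)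
    (hX : ∀ y ∈ X, a y ∈ X) (hX' : ∀ y ∈ X, a⁻¹ y ∈ X) (y : X) :
    ((restrictAut a X hX hX' y : X) : R) = a y := rfl

theorem restrictAut_pow {R : Type*} [Group R] (a : MulAut R) (X : Subgroup R)
    (hX : ∀ y ∈ X, a y ∈ X) (hX' : ∀ y ∈ X, a⁻¹ y ∈ X) (j : ℕ) (y : X) :
    ((((restrictAut a X hX hX') ^ j) y : X) : R) = (a ^ j) y := by
  induction j generalizing y with
  | zero => rfl
  | succ j ih =>
    rw [pow_succ', pow_succ', MulAut.mul_apply, MulAut.mul_apply, restrictAut_apply, ih]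

theorem restrictAut_pow_eq_one {R : Type*} [Group R] (a : MulAut R) (X : Subgroup R)
    (hX : ∀ y ∈ X, a y ∈ X) (hX' : ∀ y ∈ X, a⁻¹ y ∈ X) {m : ℕ} (ham : a ^ m = 1) :
    (restrictAut a X hX hX') ^ m = 1 := by
  ext y
  rw [restrictAut_pow, ham]
  rfl

/-- the subgroup of a group `A` of automorphisms stabilizing an `A`-invariant chain `L` -/
def chainStab {R : Type*} [Group R] (A : Subgroup (MulAut R)) (L : ℕ → Subgroup R)
    (hL : ∀ i, ∀ a ∈ A, ∀ x ∈ L i, a x ∈ L i) : Subgroup A where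
  carrier := {a | ∀ i, ∀ x ∈ L (i + 1), x⁻¹ * (a : MulAut R) x ∈ L i}
  one_mem' := by
    intro i x _
    show x⁻¹ * x ∈ L i
    rw [inv_mul_cancel]
    exact one_mem _
  mul_mem' := by
    intro a b ha hb i x hx
    have h1 := hb i x hx
    have h2 := ha i _ (hL (i + 1) b b.2 x hx)
    have h3 : x⁻¹ * ((a * b : A) : MulAut R) x =
        (x⁻¹ * (b : MulAut R) x) * (((b : MulAut R) x)⁻¹ * (a : MulAut R) ((b : MulAut R) x)) := by
      rw [Subgroup.coe_mul, MulAut.mul_apply]
      group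
    show x⁻¹ * ((a * b : A) : MulAut R) x ∈ L i
    rw [h3]
    exact mul_mem h1 h2
  inv_mem' := by
    intro a ha i x hx
    have hy := hL (i + 1) (a⁻¹ : A) (a⁻¹).2 x hx
    have h1 := ha i _ hy
    have h2 := inv_mem h1
    have h3 : (((a⁻¹ : A) : MulAut R) x)⁻¹ * (a : MulAut R) (((a⁻¹ : A) : MulAut R) x) =
        (x⁻¹ * ((a⁻¹ : A) : MulAut R) x)⁻¹ := by
      rw [Subgroup.coe_inv, MulAut.apply_inv_self]
      group
    rw [h3, inv_inv] at h2
    exact h2

theorem chainStab_normal {R : Type*} [Group R] (A : Subgroup (MulAut R)) (L : ℕ → Subgroup R)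
    (hL : ∀ i, ∀ a ∈ A, ∀ x ∈ L i, a x ∈ L i) : (chainStab A L hL).Normal := by
  constructor
  intro a ha g i x hx
  have hy := hL (i + 1) (g⁻¹ : A) (g⁻¹).2 x hx
  have h1 := ha i _ hy
  have h2 := hL i g g.2 _ h1
  have h3 : (g : MulAut R) ((((g⁻¹ : A) : MulAut R) x)⁻¹ *
      (a : MulAut R) (((g⁻¹ : A) : MulAut R) x)) = x⁻¹ * ((g * a * g⁻¹ : A) : MulAut R) x := by
    rw [map_mul, map_inv, Subgroup.coe_inv, MulAut.apply_inv_self]
    rfl
  rw [h3] at h2
  exact h2

theorem chainStab_fix {R : Type*} [Group R] {p : ℕ} (hR : IsPGroup p R) (A : Subgroup (MulAut R))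
    (L : ℕ → Subgroup R) (hL : ∀ i, ∀ a ∈ A, ∀ x ∈ L i, a x ∈ L i) (h0 : L 0 = ⊥) (a : A)
    (ha : a ∈ chainStab A L hL) (m : ℕ) (hm : m.Coprime p) (ham : (a : MulAut R) ^ m = 1) :
    ∀ i, ∀ x ∈ L i, (a : MulAut R) x = x := by
  intro i
  induction i with
  | zero =>
    intro x hx
    rw [h0, Subgroup.mem_bot] at hx
    rw [hx, map_one]
  | succ i ih =>
    intro x hx
    have h1 := ha i x hx
    have h2 := ih _ h1
    have hpow : ∀ k : ℕ, ((a : MulAut R) ^ k) x = x * (x⁻¹ * (a : MulAut R) x) ^ k := by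
      intro k
      induction k with
      | zero => simp
      | succ k ihk =>
        rw [pow_succ', MulAut.mul_apply, ihk, map_mul, map_pow, h2, pow_succ']
        rw [← mul_assoc x, mul_inv_cancel_left]
    have hzm : (x⁻¹ * (a : MulAut R) x) ^ m = 1 := by
      have := hpow m
      rw [ham, MulAut.one_apply] at this
      exact (mul_eq_left.1 this.symm)
    obtain ⟨j, hj⟩ := hR (x⁻¹ * (a : MulAut R) x)
    have h3 : orderOf (x⁻¹ * (a : MulAut R) x) = 1 :=
      Nat.eq_one_of_dvd_coprimes (Nat.Coprime.pow_right j hm) (orderOf_dvd_of_pow_eq_one hzm)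
        (orderOf_dvd_of_pow_eq_one hj)
    rw [orderOf_eq_one_iff] at h3
    exact (inv_mul_eq_one.1 h3).symm

variable {Ω : Type*} [Group Ω] {S : Subgroup Ω}

/-- A saturated fusion system all of whose automorphism groups have no nontrivial `p'`-elements is
the inner fusion system. -/
theorem inner_of_pprime_trivial [Finite S] {p : ℕ} [Fact p.Prime] (hS : IsPGroup p S)
    (F : FusionSystem S) (hF : F.IsSaturated p)
    (h : ∀ (W : Subgroup Ω), W ≤ S → ∀ γ : MulAut W, γ ∈ F.autGroup W → ∀ m : ℕ, m.Coprime p →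
      γ ^ m = 1 → γ = 1) :
    ∀ P : Subgroup Ω, F.Hom P = (innerFusionSystem S).Hom P := by
  intro P
  apply Set.Subset.antisymm
  · have hall := alperin_induction hS F hF
      (fun U φ => φ ∈ (innerFusionSystem S).Hom U) ?_ ?_ ?_
    · exact fun φ hφ => hall P φ hφ
    · intro U V φ h' hφ hP
      exact restrict_mem (innerFusionSystem S) hP h'
    · intro U V φ ψ h' hφ hψ hP hP'
      exact (innerFusionSystem S).comp_mem hP hP' h'
    · intro W hfn _ α hα
      have hW := hfn.1
      obtain ⟨-, R, hR⟩ := fullyAutomized_of_fullyNormalized hS F hF hfn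
      have hfinW : Finite W := finite_of_le hW
      have hpg : IsPGroup p (F.autGroup W) := by
        intro a
        obtain ⟨k, m, hpm, hord⟩ := Nat.exists_eq_pow_mul_and_not_dvd (orderOf_pos a).ne' p
          (Fact.out : p.Prime).ne_one
        refine ⟨k, ?_⟩
        have hγm : (a ^ p ^ k) ^ m = 1 := by rw [← pow_mul, ← hord, pow_orderOf_eq_one]
        have hγ : ((a ^ p ^ k : F.autGroup W) : MulAut W) = 1 := by
          apply h W hW _ (a ^ p ^ k).2 m
          · exact ((Nat.Prime.coprime_iff_not_dvd Fact.out).2 hpm).symm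
          · have := congrArg Subtype.val hγm
            simpa using this
        exact Subtype.ext hγ
      have htop : (⊤ : Subgroup (F.autGroup W)) = R := R.is_maximal' (hpg.to_subgroup ⊤) le_top
      have hαA : α ∈ F.autGroup W := (mem_autGroup_iff F hW α).2 hα
      have hmem : (⟨α, hαA⟩ : F.autGroup W) ∈ (R : Subgroup _) := by rw [← htop]; trivial
      rw [hR] at hmem
      have h2 : α ∈ autInducedBy S W := Subgroup.mem_subgroupOf.1 hmem
      obtain ⟨g, hg, hgα⟩ := (mem_autInducedBy_iff _ _ _).1 h2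
      exact ⟨hW, g, hg, fun x => hgα x⟩
  · rintro φ ⟨hP, g, hg, hgφ⟩
    have : φ = conjHom P g := by
      ext x; exact hgφ x
    rw [this]; exact F.conj_mem hP hg

end Cfsg.Agent.Lib.helper26
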