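import Mathlib
import Cfsg.Agent.Lib.helper26.Small
import Cfsg.Agent.Lib.helper26.Centric

set_option autoImplicit false

namespace Cfsg.Agent.Lib.helper26

open Cfsg Cfsg.FusionSystem

/-- The stabilizer of an invariant chain from `⊥` to `⊤` of a finite `p`-group is a `p`-group. -/
theorem chainStab_isPGroup {R : Type*} [Group R] [Finite R] {p : ℕ} [Fact p.Prime]
    (hR : IsPGroup p R) (A : Subgroup (MulAut R)) (L : ℕ → Subgroup R)
    (hL : ∀ i, ∀ a ∈ A, ∀ x ∈ L i, a x ∈ L i) (h0 : L 0 = ⊥) (n : ℕ) (hn : L n = ⊤) :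
    IsPGroup p (chainStab A L hL) := by
  have hpp : p.Prime := Fact.out
  rintro ⟨a, ha⟩
  have ho : orderOf a ≠ 0 := (orderOf_pos a).ne'
  obtain ⟨j, m, hm, hjm⟩ := Nat.exists_eq_pow_mul_and_not_dvd ho p hpp.ne_one
  have hcop : m.Coprime p := ((Nat.Prime.coprime_iff_not_dvd hpp).2 hm).symm
  have hb : a ^ p ^ j ∈ chainStab A L hL := (chainStab A L hL).pow_mem ha _
  have hbm : (a ^ p ^ j) ^ m = 1 := by
    rw [← pow_mul, ← hjm, pow_orderOf_eq_one]
  have hbm' : ((a ^ p ^ j : A) : MulAut R) ^ m = 1 := by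
    have := congrArg Subtype.val hbm
    simpa using this
  have hfix := chainStab_fix hR A L hL h0 (a ^ p ^ j) hb m hcop hbm' n
  have hb1 : a ^ p ^ j = 1 := by
    apply Subtype.ext
    ext x
    rw [hfix x (by rw [hn]; exact Subgroup.mem_top _)]
    rfl
  exact ⟨j, Subtype.ext hb1⟩

/-- An automorphism in `A` centralizing an `A`-invariant subgroup `X` and the quotient by it lies in
`O_p(A)`. -/
theorem mem_pCore_of_stab {R : Type*} [Group R] [Finite R] {p : ℕ} [Fact p.Prime]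
    (hR : IsPGroup p R) (A : Subgroup (MulAut R)) (X : Subgroup R)
    (hX : ∀ a ∈ A, ∀ x ∈ X, a x ∈ X) (a : A) (h1 : ∀ x ∈ X, (a : MulAut R) x = x)
    (h2 : ∀ x, x⁻¹ * (a : MulAut R) x ∈ X) : a ∈ pCore p A := by
  obtain ⟨L, hLdef⟩ : ∃ L : ℕ → Subgroup R, L = fun i => if i = 0 then ⊥ else if i = 1 then X else ⊤ :=
    ⟨_, rfl⟩
  have hL0 : L 0 = ⊥ := by rw [hLdef]; simp
  have hL1 : L 1 = X := by rw [hLdef]; simp
  have hL2 : ∀ i, 2 ≤ i → L i = ⊤ := by
    intro i hi
    rw [hLdef]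
    have h0 : i ≠ 0 := by omega
    have h1 : i ≠ 1 := by omega
    simp [h0, h1]
  have hL : ∀ i, ∀ a ∈ A, ∀ x ∈ L i, a x ∈ L i := by
    intro i b hb x hx
    rcases Nat.lt_or_ge i 2 with hi | hi
    · interval_cases i
      · rw [hL0, Subgroup.mem_bot] at hx
        rw [hx, map_one]
        exact one_mem _
      · rw [hL1] at hx ⊢
        exact hX b hb x hx
    · rw [hL2 i hi]
      exact Subgroup.mem_top _
  have hmem : a ∈ chainStab A L hL := by
    intro i x hx
    rcases Nat.lt_or_ge i 2 with hi | hi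
    · interval_cases i
      · rw [hL1] at hx
        rw [h1 x hx, inv_mul_cancel]
        exact one_mem _
      · rw [hL1]
        exact h2 x
    · rw [hL2 i hi]
      exact Subgroup.mem_top _
  exact le_pCore (chainStab_normal A L hL) (chainStab_isPGroup hR A L hL hL0 2 (hL2 2 le_rfl)) hmem

variable {Ω : Type*} [Group Ω] {S : Subgroup Ω}

/-- An automorphism of `W` in the system centralizing `W ∩ T` and `W / (W ∩ T)`, for `T` strongly
closed, lies in `O_p(Aut_F(W))`. -/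
theorem stab_mem_pCore [Finite S] {p : ℕ} [Fact p.Prime] (hS : IsPGroup p S) (F : FusionSystem S)
    {W T : Subgroup Ω} (hW : W ≤ S) (hT : F.StronglyClosed T) (a : MulAut W)
    (ha : a ∈ F.autGroup W) (h1 : ∀ x : W, (x : Ω) ∈ T → a x = x)
    (h2 : ∀ x : W, (x : Ω)⁻¹ * ((a x : W) : Ω) ∈ T) :
    a ∈ (pCore p (F.autGroup W)).map (F.autGroup W).subtype := by
  haveI : Finite W := finite_of_le hW
  have hWp : IsPGroup p W := hS.to_le hW
  have hX : ∀ b ∈ F.autGroup W, ∀ x ∈ T.subgroupOf W, b x ∈ T.subgroupOf W := by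
    intro b hb x hx
    rw [Subgroup.mem_subgroupOf] at hx ⊢
    have hb' := (mem_autGroup_iff F hW b).1 hb
    exact hT.2 (W ⊓ T) inf_le_right _ (restrict_mem F hb' inf_le_left) ⟨x, x.2, hx⟩
  have h3 := mem_pCore_of_stab hWp (F.autGroup W) (T.subgroupOf W) hX ⟨a, ha⟩
    (fun x hx => h1 x (Subgroup.mem_subgroupOf.1 hx))
    (fun x => Subgroup.mem_subgroupOf.2 (h2 x))
  exact ⟨⟨a, ha⟩, h3, rfl⟩

end Cfsg.Agent.Lib.helper26
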