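import Mathlib
import Cfsg.Agent.Lib.helper26.FusionIso

set_option autoImplicit false

namespace Cfsg.Agent.Lib.helper26

/-! ### Two transvection groups on an abelian `p`-group generate an inversion -/

section InvCore

variable {P : Type*} [Group P]

theorem pow_apply_stab (κ : MulAut P) (y : P) (h : κ (y⁻¹ * κ y) = y⁻¹ * κ y) (k : ℕ) :
    (κ ^ k) y = y * (y⁻¹ * κ y) ^ k := by
  induction k with
  | zero => simp
  | succ k ih =>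
    have h3 : (κ ^ (k + 1)) y = κ ((κ ^ k) y) := by rw [pow_succ']; rfl
    rw [h3, ih, map_mul, map_pow, h, pow_succ', ← mul_assoc, mul_inv_cancel_left]

theorem stab_pow_eq_one (κ : MulAut P) (X : Subgroup P) (h1 : ∀ x ∈ X, κ x = x)
    (h2 : ∀ y, y⁻¹ * κ y ∈ X) (M : ℕ) (hM : ∀ x ∈ X, x ^ M = 1) : κ ^ M = 1 := by
  ext y
  rw [pow_apply_stab κ y (h1 _ (h2 y)) M, hM _ (h2 y), mul_one]
  rfl

theorem pow_apply_transv {α : MulAut P} {e f : P} {a : ℤ} (h1 : α e = e) (h2 : α f = f * e ^ a)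
    (k : ℕ) : (α ^ k) f = f * e ^ ((k : ℤ) * a) := by
  induction k with
  | zero => simp
  | succ k ih =>
    have h3 : (α ^ (k + 1)) f = α ((α ^ k) f) := by rw [pow_succ']; rfl
    rw [h3, ih, map_mul, map_zpow, h1, h2, mul_assoc, ← zpow_add]
    congr 2
    push_cast
    ring

theorem pow_apply_fix' {α : MulAut P} {e : P} (h1 : α e = e) (k : ℕ) : (α ^ k) e = e := by
  induction k with
  | zero => simp
  | succ k ih =>
    have h3 : (α ^ (k + 1)) e = α ((α ^ k) e) := by rw [pow_succ']; rfl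
    rw [h3, ih, h1]

theorem zpow_pow_eq_one' {e : P} {p : ℕ} (he : e ^ p = 1) (m : ℤ) : (e ^ m) ^ p = 1 := by
  rw [← zpow_natCast, ← zpow_mul, mul_comm, zpow_mul, zpow_natCast, he, one_zpow]

theorem zpow_eq_one_of_dvd' {e : P} {p : ℕ} (he : e ^ p = 1) {m : ℤ} (hm : (p : ℤ) ∣ m) :
    e ^ m = 1 := by
  obtain ⟨k, rfl⟩ := hm
  rw [zpow_mul, zpow_natCast, he, one_zpow]

theorem mem_of_zpow_mem' {e : P} {p : ℕ} [Fact p.Prime] (he : e ^ p = 1) {K : Subgroup P} {m : ℤ}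
    (hm : ¬ (p : ℤ) ∣ m) (hx : e ^ m ∈ K) : e ∈ K := by
  have hp := (Fact.out : p.Prime)
  have hco : IsCoprime (p : ℤ) m :=
    (Nat.prime_iff_prime_int.1 hp).irreducible.coprime_iff_not_dvd.2 hm
  obtain ⟨u, v, huv⟩ := hco
  have : e = (e ^ (p : ℤ)) ^ u * (e ^ m) ^ v := by
    rw [← zpow_mul, ← zpow_mul, ← zpow_add, mul_comm (p : ℤ) u, mul_comm m v, huv, zpow_one]
  rw [this, zpow_natCast, he, one_zpow, one_mul]
  exact Subgroup.zpow_mem _ hx _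

theorem exists_fixSub (X : Set P) :
    ∃ T : Subgroup (MulAut P), ∀ α, α ∈ T ↔ ∀ x ∈ X, α x = x :=
  ⟨{ carrier := {α | ∀ x ∈ X, α x = x}
     mul_mem' := by
       intro α β ha hb x hx
       rw [MulAut.mul_apply, hb x hx, ha x hx]
     one_mem' := fun x _ => rfl
     inv_mem' := by
       intro α ha x hx
       have h1 : α⁻¹ (α x) = x := by rw [MulAut.inv_apply_self]
       rwa [ha x hx] at h1 }, fun α => Iff.rfl⟩

theorem core_lemma [Finite P] (hcomm : ∀ a b : P, a * b = b * a) {p : ℕ} [Fact p.Prime]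
    (hp2 : p ≠ 2) (Z Z' : Subgroup P) (e₁ e₂ : P) (he₁p : e₁ ^ p = 1)
    (he₂p : e₂ ^ p = 1) (he₁Z : e₁ ∈ Z) (he₂Z' : e₂ ∈ Z')
    (U U' : Subgroup (MulAut P))
    (u1 : ∀ α ∈ U, ∀ y, y⁻¹ * α y ∈ Subgroup.zpowers e₁)
    (u2 : ∀ α ∈ U, ∀ z ∈ Z, α z = z)
    (u3 : ∀ y, y ∉ Z → ∃ α ∈ U, α y ≠ y)
    (u1' : ∀ β ∈ U', ∀ y, y⁻¹ * β y ∈ Subgroup.zpowers e₂)
    (u2' : ∀ β ∈ U', ∀ z ∈ Z', β z = z)
    (u3' : ∀ y, y ∉ Z' → ∃ β ∈ U', β y ≠ y)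
    (hUp : IsPGroup p U) (hU'p : IsPGroup p U')
    (hmax : ∀ Q : Subgroup (MulAut P), IsPGroup p Q → Q ≤ U ⊔ U' → U ≤ Q → Q = U)
    (hmax' : ∀ Q : Subgroup (MulAut P), IsPGroup p Q → Q ≤ U ⊔ U' → U' ≤ Q → Q = U')
    (hne : U ≠ U') (hPp : IsPGroup p P)
    (hZZ' : Z' ≤ Z → Z ≤ Z') (hZ'Z : Z ≤ Z' → Z' ≤ Z)
    (hdec : ∀ y₀, y₀ ∉ Z → ∀ y, ∃ a ∈ Z, ∃ i : ℤ, y = a * y₀ ^ i) :
    ∃ τ ∈ U ⊔ U', (∀ z ∈ Z, τ z ∈ Z ∧ z⁻¹ * τ z ∈ Subgroup.zpowers e₁) ∧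
      (∀ w ∈ Subgroup.zpowers e₁, τ w = w⁻¹) ∧ (∀ α ∈ U, τ * α = α * τ) ∧
      (∀ z ∈ Z, τ z = z ↔ z ∈ Z') := by
  have hp : p.Prime := Fact.out
  obtain ⟨N, hN⟩ := IsPGroup.iff_card.1 hPp
  have hexpP : ∀ y : P, y ^ (p ^ N) = 1 := fun y => by rw [← hN]; exact pow_card_eq_one'
  -- the subgroup `W = ⟨e₁, e₂⟩`
  obtain ⟨W, hWmem⟩ : ∃ W : Subgroup P, ∀ w, w ∈ W ↔ ∃ m n : ℤ, w = e₁ ^ m * e₂ ^ n :=
    ⟨{ carrier := {w | ∃ m n : ℤ, w = e₁ ^ m * e₂ ^ n}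
       mul_mem' := by
         rintro _ _ ⟨m, n, rfl⟩ ⟨m', n', rfl⟩
         refine ⟨m + m', n + n', ?_⟩
         rw [zpow_add, zpow_add]
         calc e₁ ^ m * e₂ ^ n * (e₁ ^ m' * e₂ ^ n')
             = e₁ ^ m * (e₂ ^ n * e₁ ^ m') * e₂ ^ n' := by group
           _ = e₁ ^ m * (e₁ ^ m' * e₂ ^ n) * e₂ ^ n' := by rw [hcomm (e₂ ^ n)]
           _ = e₁ ^ m * e₁ ^ m' * (e₂ ^ n * e₂ ^ n') := by group
       one_mem' := ⟨0, 0, by simp⟩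
       inv_mem' := by
         rintro _ ⟨m, n, rfl⟩
         refine ⟨-m, -n, ?_⟩
         rw [mul_inv_rev, zpow_neg, zpow_neg]
         exact hcomm _ _ }, fun w => Iff.rfl⟩
  have he₁W : e₁ ∈ W := (hWmem _).2 ⟨1, 0, by simp⟩
  have he₂W : e₂ ∈ W := (hWmem _).2 ⟨0, 1, by simp⟩
  have hz1W : Subgroup.zpowers e₁ ≤ W := (Subgroup.zpowers_le).2 he₁W
  have hz2W : Subgroup.zpowers e₂ ≤ W := (Subgroup.zpowers_le).2 he₂W
  have hWexp : ∀ w ∈ W, w ^ p = 1 := by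
    intro w hw
    obtain ⟨m, n, rfl⟩ := (hWmem _).1 hw
    rw [(show Commute (e₁ ^ m) (e₂ ^ n) from hcomm _ _).mul_pow, zpow_pow_eq_one' he₁p,
      zpow_pow_eq_one' he₂p, one_mul]
  obtain ⟨T, hTmem⟩ : ∃ T : Subgroup (MulAut P), ∀ α, α ∈ T ↔ ∀ y, y⁻¹ * α y ∈ W :=
    ⟨{ carrier := {α | ∀ y, y⁻¹ * α y ∈ W}
       mul_mem' := by
         intro α β ha hb y
         have e : y⁻¹ * (α * β) y = (y⁻¹ * β y) * ((β y)⁻¹ * α (β y)) := by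
           rw [MulAut.mul_apply]; group
         rw [e]; exact W.mul_mem (hb y) (ha (β y))
       one_mem' := fun y => by
         rw [MulAut.one_apply, inv_mul_cancel]; exact W.one_mem
       inv_mem' := by
         intro α ha y
         have e : y⁻¹ * α⁻¹ y = ((α⁻¹ y)⁻¹ * α (α⁻¹ y))⁻¹ := by
           rw [MulAut.apply_inv_self]; group
         rw [e]; exact W.inv_mem (ha _) }, fun α => Iff.rfl⟩
  obtain ⟨TD, hTDmem⟩ := exists_fixSub ((Z : Set P) ∩ (Z' : Set P))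
  obtain ⟨FW, hFWmem⟩ := exists_fixSub (W : Set P)
  have hL_T : U ⊔ U' ≤ T := by
    apply sup_le
    · intro α hα; exact (hTmem α).2 fun y => hz1W (u1 α hα y)
    · intro β hβ; exact (hTmem β).2 fun y => hz2W (u1' β hβ y)
  have hL_TD : U ⊔ U' ≤ TD := by
    apply sup_le
    · intro α hα; exact (hTDmem α).2 fun z hz => u2 α hα z hz.1
    · intro β hβ; exact (hTDmem β).2 fun z hz => u2' β hβ z hz.2
  have hLW : ∀ α ∈ U ⊔ U', ∀ w ∈ W, α w ∈ W := by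
    intro α hα w hw
    have h1 := (hTmem α).1 (hL_T hα) w
    have e : α w = w * (w⁻¹ * α w) := by group
    rw [e]; exact W.mul_mem hw h1
  -- `Z' ≰ Z`
  have hy₀ : ∃ y₀ ∈ Z', y₀ ∉ Z := by
    by_contra hcon
    push Not at hcon
    have hle : Z' ≤ Z := hcon
    have hle' : Z ≤ Z' := hZZ' hle
    have hLp : IsPGroup p (U ⊔ U' : Subgroup (MulAut P)) := by
      rintro ⟨κ, hκ⟩
      refine ⟨N, Subtype.ext ?_⟩
      rw [Subgroup.coe_pow, Subgroup.coe_one]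
      apply stab_pow_eq_one κ Z _ _ (p ^ N) (fun x _ => hexpP x)
      · intro z hz
        exact (hTDmem κ).1 (hL_TD hκ) z ⟨hz, hle' hz⟩
      · intro y
        obtain ⟨m, n, hmn⟩ := (hWmem _).1 ((hTmem κ).1 (hL_T hκ) y)
        rw [hmn]
        exact Z.mul_mem (Z.zpow_mem he₁Z m) (Z.zpow_mem (hle he₂Z') n)
    have h1 := hmax _ hLp le_rfl le_sup_left
    have h2 := hmax' _ hLp le_rfl le_sup_right
    exact hne (h1.symm.trans h2)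
  obtain ⟨y₀, hy₀Z', hy₀Z⟩ := hy₀
  have hfixall : ∀ κ : MulAut P, (∀ z ∈ Z, κ z = z) → (∀ z ∈ Z', κ z = z) → κ = 1 := by
    intro κ h1 h2
    ext y
    obtain ⟨a, ha, i, rfl⟩ := hdec y₀ hy₀Z y
    rw [map_mul, map_zpow, h1 a ha, h2 y₀ hy₀Z']
    rfl
  -- the kernel of the action on `W` is trivial
  have hK : ∀ κ ∈ U ⊔ U', (∀ w ∈ W, κ w = w) → κ = 1 := by
    intro κ hκ hκW
    obtain ⟨K, hKdef⟩ : ∃ K : Subgroup (MulAut P), K = (U ⊔ U') ⊓ FW := ⟨_, rfl⟩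
    have hKL : K ≤ U ⊔ U' := by rw [hKdef]; exact inf_le_left
    have hKp : IsPGroup p K := by
      rintro ⟨c, hc⟩
      rw [hKdef] at hc
      refine ⟨1, Subtype.ext ?_⟩
      rw [Subgroup.coe_pow, Subgroup.coe_one, pow_one]
      exact stab_pow_eq_one c W ((hFWmem c).1 hc.2) ((hTmem c).1 (hL_T hc.1)) p hWexp
    have hKnorm : ∀ u ∈ U ⊔ U', ∀ c ∈ K, u * c * u⁻¹ ∈ K := by
      intro u hu c hc
      rw [hKdef] at hc ⊢
      refine ⟨Subgroup.mul_mem _ (Subgroup.mul_mem _ hu hc.1) (Subgroup.inv_mem _ hu),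
        (hFWmem _).2 fun w hw => ?_⟩
      have h1 : u⁻¹ w ∈ W := hLW _ (Subgroup.inv_mem _ hu) w hw
      rw [MulAut.mul_apply, MulAut.mul_apply, (hFWmem c).1 hc.2 _ h1, MulAut.apply_inv_self]
    have hKN : ∀ u ∈ U ⊔ U', u ∈ Subgroup.normalizer (K : Set (MulAut P)) := by
      intro u hu
      apply mem_normalizer_of_two_sided
      · exact fun c hc => hKnorm u hu c hc
      · intro c hc
        have := hKnorm u⁻¹ (Subgroup.inv_mem _ hu) c hc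
        rwa [inv_inv] at this
    have hKU : K ≤ U := by
      have h1 : IsPGroup p (K ⊔ U : Subgroup (MulAut P)) :=
        IsPGroup.to_sup_of_normal_left' hKp hUp (fun u hu => hKN u (Subgroup.mem_sup_left hu))
      have h2 := hmax _ h1 (sup_le hKL le_sup_left) le_sup_right
      rw [← h2]; exact le_sup_left
    have hKU' : K ≤ U' := by
      have h1 : IsPGroup p (K ⊔ U' : Subgroup (MulAut P)) :=
        IsPGroup.to_sup_of_normal_left' hKp hU'p (fun u hu => hKN u (Subgroup.mem_sup_right hu))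
      have h2 := hmax' _ h1 (sup_le hKL le_sup_right) le_sup_right
      rw [← h2]; exact le_sup_left
    have hκK : κ ∈ K := by rw [hKdef]; exact ⟨hκ, (hFWmem κ).2 hκW⟩
    exact hfixall κ (fun z hz => u2 κ (hKU hκK) z hz) (fun z hz => u2' κ (hKU' hκK) z hz)
  have hZ'ne : ¬ Z ≤ Z' := fun h => hy₀Z (hZ'Z h hy₀Z')
  obtain ⟨y₁, hy₁Z, hy₁Z'⟩ : ∃ y₁ ∈ Z, y₁ ∉ Z' := by
    by_contra hcon
    push Not at hcon
    exact hZ'ne hcon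
  have he₂Z : e₂ ∉ Z := by
    intro h
    obtain ⟨α, hα, hαy⟩ := u3 y₀ hy₀Z
    apply hαy
    have h1 : α = 1 := hK α (Subgroup.mem_sup_left hα) (fun w hw => by
      obtain ⟨m, n, rfl⟩ := (hWmem _).1 hw
      exact u2 α hα _ (Z.mul_mem (Z.zpow_mem he₁Z m) (Z.zpow_mem h n)))
    rw [h1]; rfl
  have he₁Z' : e₁ ∉ Z' := by
    intro h
    obtain ⟨β, hβ, hβy⟩ := u3' y₁ hy₁Z'
    apply hβy
    have h1 : β = 1 := hK β (Subgroup.mem_sup_right hβ) (fun w hw => by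
      obtain ⟨m, n, rfl⟩ := (hWmem _).1 hw
      exact u2' β hβ _ (Z'.mul_mem (Z'.zpow_mem h m) (Z'.zpow_mem he₂Z' n)))
    rw [h1]; rfl
  -- transvections
  obtain ⟨τ₁, hτ₁U, hτ₁e₂⟩ := u3 e₂ he₂Z
  obtain ⟨τ₂, hτ₂U', hτ₂e₁⟩ := u3' e₁ he₁Z'
  obtain ⟨a, ha⟩ := Subgroup.mem_zpowers_iff.1 (u1 τ₁ hτ₁U e₂)
  obtain ⟨b, hb⟩ := Subgroup.mem_zpowers_iff.1 (u1' τ₂ hτ₂U' e₁)
  have hτ₁e₂' : τ₁ e₂ = e₂ * e₁ ^ a := by rw [ha]; group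
  have hτ₂e₁' : τ₂ e₁ = e₁ * e₂ ^ b := by rw [hb]; group
  have hτ₁e₁ : τ₁ e₁ = e₁ := u2 τ₁ hτ₁U e₁ he₁Z
  have hτ₂e₂ : τ₂ e₂ = e₂ := u2' τ₂ hτ₂U' e₂ he₂Z'
  have hpa : ¬ (p : ℤ) ∣ a := by
    intro h
    apply hτ₁e₂
    rw [hτ₁e₂', zpow_eq_one_of_dvd' he₁p h, mul_one]
  have hpb : ¬ (p : ℤ) ∣ b := by
    intro h
    apply hτ₂e₁
    rw [hτ₂e₁', zpow_eq_one_of_dvd' he₂p h, mul_one]
  have hpp : (0 : ℤ) < p := by exact_mod_cast hp.pos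
  obtain ⟨i, ci, hi⟩ : ∃ i : ℕ, ∃ c : ℤ, (i : ℤ) * a = 1 + p * c := by
    have hco : IsCoprime (p : ℤ) a :=
      (Nat.prime_iff_prime_int.1 hp).irreducible.coprime_iff_not_dvd.2 hpa
    obtain ⟨u, v, huv⟩ := hco
    have h := Int.emod_add_mul_ediv v p
    refine ⟨(v % p).toNat, -u - (v / p) * a, ?_⟩
    rw [Int.toNat_of_nonneg (Int.emod_nonneg v hpp.ne')]
    linear_combination a * h + huv
  obtain ⟨j, cj, hj⟩ : ∃ j : ℕ, ∃ c : ℤ, (j : ℤ) * b = -1 + p * c := by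
    have hco : IsCoprime (p : ℤ) b :=
      (Nat.prime_iff_prime_int.1 hp).irreducible.coprime_iff_not_dvd.2 hpb
    obtain ⟨u, v, huv⟩ := hco
    have h := Int.emod_add_mul_ediv (-v) p
    refine ⟨((-v) % p).toNat, u - ((-v) / p) * b, ?_⟩
    rw [Int.toNat_of_nonneg (Int.emod_nonneg (-v) hpp.ne')]
    linear_combination b * h - huv
  have hE₁ : (τ₁ ^ i) e₁ = e₁ := pow_apply_fix' hτ₁e₁ i
  have hE₂ : (τ₁ ^ i) e₂ = e₂ * e₁ := by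
    rw [pow_apply_transv hτ₁e₁ hτ₁e₂' i, hi, zpow_add, zpow_one, zpow_mul, zpow_natCast, he₁p,
      one_zpow, mul_one]
  have hF₂ : (τ₂ ^ j) e₂ = e₂ := pow_apply_fix' hτ₂e₂ j
  have hF₁ : (τ₂ ^ j) e₁ = e₁ * e₂⁻¹ := by
    rw [pow_apply_transv hτ₂e₂ hτ₂e₁' j, hj, zpow_add, zpow_neg, zpow_one, zpow_mul, zpow_natCast,
      he₂p, one_zpow, mul_one]
  obtain ⟨ω, hωdef⟩ : ∃ ω : MulAut P, ω = τ₁ ^ i * τ₂ ^ j * τ₁ ^ i := ⟨_, rfl⟩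
  have hω₁ : ω e₁ = e₂⁻¹ := by
    rw [hωdef, MulAut.mul_apply, MulAut.mul_apply, hE₁, hF₁, map_mul, map_inv, hE₁, hE₂,
      mul_inv_rev, mul_inv_cancel_left]
  have hω₂ : ω e₂ = e₁ := by
    rw [hωdef, MulAut.mul_apply, MulAut.mul_apply, hE₂, map_mul, hF₂, hF₁, map_mul, map_mul,
      map_inv, hE₂, hE₁, hcomm (e₂ * e₁), inv_mul_cancel_right]
  obtain ⟨τ, hτdef⟩ : ∃ τ : MulAut P, τ = ω * ω := ⟨_, rfl⟩
  have hτ₁ : τ e₁ = e₁⁻¹ := by rw [hτdef, MulAut.mul_apply, hω₁, map_inv, hω₂]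
  have hτ₂ : τ e₂ = e₂⁻¹ := by rw [hτdef, MulAut.mul_apply, hω₂, hω₁]
  have hτL : τ ∈ U ⊔ U' := by
    rw [hτdef, hωdef]
    have h1 : τ₁ ^ i ∈ U ⊔ U' := Subgroup.pow_mem _ (Subgroup.mem_sup_left hτ₁U) i
    have h2 : τ₂ ^ j ∈ U ⊔ U' := Subgroup.pow_mem _ (Subgroup.mem_sup_right hτ₂U') j
    exact Subgroup.mul_mem _ (Subgroup.mul_mem _ (Subgroup.mul_mem _ h1 h2) h1)
      (Subgroup.mul_mem _ (Subgroup.mul_mem _ h1 h2) h1)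
  have hτW : ∀ w ∈ W, τ w = w⁻¹ := by
    intro w hw
    obtain ⟨m, n, rfl⟩ := (hWmem _).1 hw
    rw [map_mul, map_zpow, map_zpow, hτ₁, hτ₂, mul_inv_rev, inv_zpow, inv_zpow]
    exact hcomm _ _
  have hτinvW : ∀ w ∈ W, τ⁻¹ w = w⁻¹ := by
    intro w hw
    have h1 := hτW w⁻¹ (W.inv_mem hw)
    rw [inv_inv] at h1
    have h2 : τ⁻¹ (τ w⁻¹) = w⁻¹ := by rw [MulAut.inv_apply_self]
    rwa [h1] at h2
  have hτcomm : ∀ α ∈ U ⊔ U', τ * α = α * τ := by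
    intro α hα
    have hc : τ * α * τ⁻¹ * α⁻¹ = 1 := by
      apply hK
      · exact Subgroup.mul_mem _ (Subgroup.mul_mem _ (Subgroup.mul_mem _ hτL hα)
          (Subgroup.inv_mem _ hτL)) (Subgroup.inv_mem _ hα)
      · intro w hw
        have h1 : α⁻¹ w ∈ W := hLW _ (Subgroup.inv_mem _ hα) w hw
        rw [MulAut.mul_apply, MulAut.mul_apply, MulAut.mul_apply, hτinvW _ h1, map_inv,
          MulAut.apply_inv_self, hτW _ (W.inv_mem hw), inv_inv]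
    exact mul_inv_eq_iff_eq_mul.1 (mul_inv_eq_one.1 hc)
  refine ⟨τ, hτL, ?_, ?_, ?_, ?_⟩
  · intro z hz
    have hτz : τ z ∈ Z := by
      by_contra hcon
      obtain ⟨α, hα, hαz⟩ := u3 _ hcon
      apply hαz
      have h1 := hτcomm α (Subgroup.mem_sup_left hα)
      have h2 : τ (α z) = α (τ z) := congrArg (fun f : MulAut P => f z) h1
      rw [← h2, u2 α hα z hz]
    refine ⟨hτz, ?_⟩
    obtain ⟨m, n, hmn⟩ := (hWmem _).1 ((hTmem τ).1 (hL_T hτL) z)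
    have h1 : e₂ ^ n ∈ Z := by
      have h2 : e₂ ^ n = (e₁ ^ m)⁻¹ * (z⁻¹ * τ z) := by rw [hmn]; group
      rw [h2]
      exact Z.mul_mem (Z.inv_mem (Z.zpow_mem he₁Z m)) (Z.mul_mem (Z.inv_mem hz) hτz)
    have h3 : (p : ℤ) ∣ n := by
      by_contra hcon
      exact he₂Z (mem_of_zpow_mem' he₂p hcon h1)
    rw [hmn, zpow_eq_one_of_dvd' he₂p h3, mul_one]
    exact Subgroup.zpow_mem_zpowers e₁ m
  · intro w hw
    exact hτW w (hz1W hw)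
  · intro α hα
    exact hτcomm α (Subgroup.mem_sup_left hα)
  · intro z hz
    constructor
    · intro hfix
      by_contra hcon
      obtain ⟨β, hβ, hβz⟩ := u3' _ hcon
      apply hβz
      obtain ⟨n, hn⟩ := Subgroup.mem_zpowers_iff.1 (u1' β hβ z)
      have hβz' : β z = z * e₂ ^ n := by rw [hn]; group
      have h1 := hτcomm β (Subgroup.mem_sup_right hβ)
      have h2 : τ (β z) = β (τ z) := congrArg (fun f : MulAut P => f z) h1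
      rw [hfix, hβz', map_mul, hfix, map_zpow, hτ₂] at h2
      have h4 : e₂⁻¹ ^ n = e₂ ^ n := mul_left_cancel h2
      have h3 : (e₂ ^ n) ^ 2 = 1 := by
        rw [pow_two]
        nth_rewrite 1 [← h4]
        rw [inv_zpow, inv_mul_cancel]
      have h5 : (e₂ ^ n) ^ p = 1 := zpow_pow_eq_one' he₂p n
      have h6 : e₂ ^ n = 1 := by
        have hd2 := orderOf_dvd_of_pow_eq_one h3
        have hdp := orderOf_dvd_of_pow_eq_one h5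
        have hcop : Nat.Coprime 2 p := (Nat.coprime_primes Nat.prime_two hp).2 (Ne.symm hp2)
        have h7 := Nat.dvd_gcd hd2 hdp
        rw [Nat.Coprime.gcd_eq_one hcop] at h7
        exact orderOf_eq_one_iff.1 (Nat.dvd_one.1 h7)
      rw [hβz', h6, mul_one]
    · intro hz'
      exact (hTDmem τ).1 (hL_TD hτL) z ⟨hz, hz'⟩

theorem conj_lemma [Finite P] (hcomm : ∀ a b : P, a * b = b * a) {p : ℕ} [Fact p.Prime]
    (hp2 : p ≠ 2) (Z : Subgroup P) (e₁ : P) (he₁p : e₁ ^ p = 1) (he₁Z : e₁ ∈ Z)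
    (G U : Subgroup (MulAut P)) (hUG : U ≤ G) (g : MulAut P) (hg : g ∈ G)
    (u1 : ∀ α ∈ U, ∀ y, y⁻¹ * α y ∈ Subgroup.zpowers e₁)
    (u2 : ∀ α ∈ U, ∀ z ∈ Z, α z = z)
    (u3 : ∀ y, y ∉ Z → ∃ α ∈ U, α y ≠ y)
    (hUp : IsPGroup p U)
    (hmax : ∀ Q : Subgroup (MulAut P), IsPGroup p Q → Q ≤ G → U ≤ Q → Q = U)
    (hne : ∃ α ∈ U, g * α * g⁻¹ ∉ U) (hPp : IsPGroup p P)
    (hdec : ∀ y₀, y₀ ∉ Z → ∀ y, ∃ a ∈ Z, ∃ i : ℤ, y = a * y₀ ^ i) :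
    ∃ τ ∈ G, (∀ z ∈ Z, τ z ∈ Z ∧ z⁻¹ * τ z ∈ Subgroup.zpowers e₁) ∧
      (∀ w ∈ Subgroup.zpowers e₁, τ w = w⁻¹) ∧ (∀ α ∈ U, τ * α = α * τ) ∧
      (∀ z ∈ Z, τ z = z ↔ g⁻¹ z ∈ Z) := by
  obtain ⟨U', hU'def⟩ : ∃ U' : Subgroup (MulAut P), U' = U.map (MulAut.conj g).toMonoidHom :=
    ⟨_, rfl⟩
  have hU'mem : ∀ β, β ∈ U' ↔ ∃ α ∈ U, g * α * g⁻¹ = β := by
    intro β
    rw [hU'def, Subgroup.mem_map]
    constructor
    · rintro ⟨α, hα, rfl⟩; exact ⟨α, hα, rfl⟩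
    · rintro ⟨α, hα, rfl⟩; exact ⟨α, hα, rfl⟩
  obtain ⟨Z', hZ'def⟩ : ∃ Z' : Subgroup P, Z' = Z.map g.toMonoidHom := ⟨_, rfl⟩
  have hZ'mem : ∀ z, z ∈ Z' ↔ g⁻¹ z ∈ Z := by
    intro z
    rw [hZ'def, Subgroup.mem_map]
    constructor
    · rintro ⟨z₀, hz₀, rfl⟩
      show g⁻¹ (g z₀) ∈ Z
      rw [MulAut.inv_apply_self]; exact hz₀
    · intro h
      refine ⟨g⁻¹ z, h, ?_⟩
      show g (g⁻¹ z) = z
      rw [MulAut.apply_inv_self]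
  have hcardZ' : Nat.card Z' = Nat.card Z := by
    rw [hZ'def]; exact Subgroup.card_map_of_injective g.injective
  have hZZ' : Z' ≤ Z → Z ≤ Z' := fun h => (Subgroup.eq_of_le_of_card_ge h hcardZ'.ge).ge
  have hZ'Z : Z ≤ Z' → Z' ≤ Z := fun h => (Subgroup.eq_of_le_of_card_ge h hcardZ'.le).ge
  have he₂p : (g e₁) ^ p = 1 := by rw [← map_pow, he₁p, map_one]
  have he₂Z' : g e₁ ∈ Z' := (hZ'mem _).2 (by rw [MulAut.inv_apply_self]; exact he₁Z)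
  have u1' : ∀ β ∈ U', ∀ y, y⁻¹ * β y ∈ Subgroup.zpowers (g e₁) := by
    intro β hβ y
    obtain ⟨α, hα, rfl⟩ := (hU'mem β).1 hβ
    obtain ⟨m, hm⟩ := Subgroup.mem_zpowers_iff.1 (u1 α hα (g⁻¹ y))
    rw [Subgroup.mem_zpowers_iff]
    refine ⟨m, ?_⟩
    rw [← map_zpow, hm, map_mul, map_inv, MulAut.apply_inv_self]
    rfl
  have u2' : ∀ β ∈ U', ∀ z ∈ Z', β z = z := by
    intro β hβ z hz
    obtain ⟨α, hα, rfl⟩ := (hU'mem β).1 hβ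
    show g (α (g⁻¹ z)) = z
    rw [u2 α hα _ ((hZ'mem z).1 hz), MulAut.apply_inv_self]
  have u3' : ∀ y, y ∉ Z' → ∃ β ∈ U', β y ≠ y := by
    intro y hy
    obtain ⟨α, hα, hαy⟩ := u3 (g⁻¹ y) (fun h => hy ((hZ'mem y).2 h))
    refine ⟨g * α * g⁻¹, (hU'mem _).2 ⟨α, hα, rfl⟩, fun h => hαy ?_⟩
    have h1 : g (α (g⁻¹ y)) = y := h
    have h2 : g⁻¹ (g (α (g⁻¹ y))) = g⁻¹ y := by rw [h1]
    rwa [MulAut.inv_apply_self] at h2
  have hU'G : U' ≤ G := by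
    intro β hβ
    obtain ⟨α, hα, rfl⟩ := (hU'mem β).1 hβ
    exact G.mul_mem (G.mul_mem hg (hUG hα)) (G.inv_mem hg)
  have hLG : U ⊔ U' ≤ G := sup_le hUG hU'G
  have hU'p : IsPGroup p U' := by
    rw [hU'def]; exact hUp.map _
  have hmaxU : ∀ Q : Subgroup (MulAut P), IsPGroup p Q → Q ≤ U ⊔ U' → U ≤ Q → Q = U :=
    fun Q hQ hQL hUQ => hmax Q hQ (hQL.trans hLG) hUQ
  have hmaxU' : ∀ Q : Subgroup (MulAut P), IsPGroup p Q → Q ≤ U ⊔ U' → U' ≤ Q → Q = U' := by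
    intro Q hQ hQL hU'Q
    obtain ⟨Q₁, hQ₁def⟩ : ∃ Q₁, Q₁ = Q.map (MulAut.conj g⁻¹).toMonoidHom := ⟨_, rfl⟩
    have hQ₁p : IsPGroup p Q₁ := by rw [hQ₁def]; exact hQ.map _
    have hQ₁mem : ∀ q ∈ Q, g⁻¹ * q * g ∈ Q₁ := by
      intro q hq
      rw [hQ₁def]
      refine ⟨q, hq, ?_⟩
      show g⁻¹ * q * g⁻¹⁻¹ = g⁻¹ * q * g
      rw [inv_inv]
    have hQ₁G : Q₁ ≤ G := by
      rw [hQ₁def]
      rintro _ ⟨q, hq, rfl⟩
      show g⁻¹ * q * g⁻¹⁻¹ ∈ G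
      exact G.mul_mem (G.mul_mem (G.inv_mem hg) (hLG (hQL hq))) (G.inv_mem (G.inv_mem hg))
    have hUQ₁ : U ≤ Q₁ := by
      intro α hα
      have h1 := hQ₁mem _ (hU'Q ((hU'mem _).2 ⟨α, hα, rfl⟩))
      have e : g⁻¹ * (g * α * g⁻¹) * g = α := by group
      rwa [e] at h1
    have h2 := hmax Q₁ hQ₁p hQ₁G hUQ₁
    apply le_antisymm _ hU'Q
    intro q hq
    have h3 := hQ₁mem q hq
    rw [h2] at h3
    exact (hU'mem q).2 ⟨g⁻¹ * q * g, h3, by group⟩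
  have hne' : U ≠ U' := by
    intro h
    obtain ⟨α, hα, hαn⟩ := hne
    apply hαn
    have h1 : g * α * g⁻¹ ∈ U' := (hU'mem _).2 ⟨α, hα, rfl⟩
    rwa [← h] at h1
  obtain ⟨τ, hτL, h1, h2, h3, h4⟩ := core_lemma hcomm hp2 Z Z' e₁ (g e₁) he₁p he₂p he₁Z he₂Z' U U'
    u1 u2 u3 u1' u2' u3' hUp hU'p hmaxU hmaxU' hne' hPp hZZ' hZ'Z hdec
  exact ⟨τ, hLG hτL, h1, h2, h3, fun z hz => (h4 z hz).trans (hZ'mem z)⟩

end InvCore

end Cfsg.Agent.Lib.helper26
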