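import Mathlib

set_option autoImplicit false

namespace Cfsg.Agent.Lib.helper26.K4237d

/-- If `P` is an invariant predicate on a finite `G`-set and `d` divides the length of the orbit of
every point satisfying `P`, then `d` divides the number of points satisfying `P`. -/
theorem dvd_card_of_forall_dvd {G X : Type*} [Group G] [Finite G] [MulAction G X] [Finite X]
    (P : X → Prop) (hP : ∀ (g : G) (x : X), P x → P (g • x)) (d : ℕ)
    (hd : ∀ x, P x → d ∣ Nat.card G / Nat.card (MulAction.stabilizer G x)) :
    d ∣ Nat.card {x : X // P x} := by
  classical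
  let Y : SubMulAction G X := { carrier := {x | P x}, smul_mem' := fun g x hx => hP g x hx }
  have hY : Nat.card {x : X // P x} = Nat.card Y := Nat.card_congr (Equiv.refl _)
  have : Fintype G := Fintype.ofFinite G
  have : Fintype Y := Fintype.ofFinite Y
  have : Fintype (Quotient (MulAction.orbitRel G Y)) := Fintype.ofFinite _
  have h := MulAction.card_eq_sum_card_group_div_card_stabilizer G Y
  rw [hY, Nat.card_eq_fintype_card, h]
  apply Finset.dvd_sum
  intro ω _
  have hx : P ((Quotient.out ω : Y) : X) := (Quotient.out ω : Y).2
  have h1 := hd _ hx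
  have h2 : MulAction.stabilizer G (Quotient.out ω : Y) =
      MulAction.stabilizer G ((Quotient.out ω : Y) : X) := SubMulAction.stabilizer_of_subMul _
  rw [← Nat.card_eq_fintype_card, ← Nat.card_eq_fintype_card, h2]
  exact h1

end Cfsg.Agent.Lib.helper26.K4237d
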