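import Mathlib
import Cfsg.Prelude.Def_Transfer
import Cfsg.Agent.Lib.helper1.PGroup
import Cfsg.Agent.S0016

set_option autoImplicit false

namespace Cfsg.Agent.Lib.helper26

open Cfsg
open scoped commutatorElement

universe u

/-- `R` has characteristic subgroups `L1 ≤ L2` of orders `p` and `p ^ 2`. -/
def HasCharChain (p : ℕ) (R : Type*) [Group R] : Prop :=
  ∃ L1 L2 : Subgroup R, L1.Characteristic ∧ L2.Characteristic ∧ L1 ≤ L2 ∧
    Nat.card L1 = p ∧ Nat.card L2 = p ^ 2

theorem charChain_of_comm {R : Type*} [CommGroup R] [Finite R] {p : ℕ} [Fact p.Prime]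
    (hcard : Nat.card R = p ^ 3) (hne : ¬ ∀ x : R, x ^ p = 1) : HasCharChain p R := by
  have hpp : p.Prime := Fact.out
  obtain ⟨φ, hφ⟩ : ∃ φ : R →* R, φ = powMonoidHom p := ⟨_, rfl⟩
  have hφa : ∀ x, φ x = x ^ p := by intro x; rw [hφ]; rfl
  have hK : φ.ker.Characteristic := by
    rw [Subgroup.characteristic_iff_map_le]
    rintro e _ ⟨x, hx, rfl⟩
    rw [SetLike.mem_coe, MonoidHom.mem_ker, hφa] at hx
    rw [MonoidHom.mem_ker, hφa]
    show (e x) ^ p = 1
    rw [← map_pow, hx, map_one]
  have hI : φ.range.Characteristic := by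
    rw [Subgroup.characteristic_iff_map_le]
    rintro e _ ⟨_, ⟨x, rfl⟩, rfl⟩
    refine ⟨e x, ?_⟩
    rw [hφa, hφa]
    show (e x) ^ p = e (x ^ p)
    rw [map_pow]
  have hmul : Nat.card φ.ker * Nat.card φ.range = p ^ 3 := by
    rw [← Subgroup.index_ker, Subgroup.card_mul_index, hcard]
  have hIne : φ.range ≠ ⊥ := by
    intro h
    apply hne
    intro x
    have : φ x ∈ φ.range := ⟨x, rfl⟩
    rw [h, Subgroup.mem_bot, hφa] at this
    exact this
  have hKne : φ.ker ≠ ⊥ := by
    intro h
    obtain ⟨x, hx⟩ := exists_prime_orderOf_dvd_card' (G := R) p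
      (by rw [hcard]; exact dvd_pow_self p (by norm_num))
    have h1 : x ∈ φ.ker := by
      rw [MonoidHom.mem_ker, hφa, ← hx, pow_orderOf_eq_one]
    rw [h, Subgroup.mem_bot] at h1
    rw [h1, orderOf_one] at hx
    exact hpp.one_lt.ne hx
  obtain ⟨i, hi3, hi⟩ := (Nat.dvd_prime_pow hpp).1 (Dvd.intro _ hmul)
  have hIcard : Nat.card φ.range = p ^ (3 - i) := by
    rw [hi] at hmul
    have : p ^ i * p ^ (3 - i) = p ^ 3 := by rw [← pow_add]; congr 1; omega
    exact Nat.eq_of_mul_eq_mul_left (pow_pos hpp.pos i) (hmul.trans this.symm)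
  have hi0 : i ≠ 0 := by
    rintro rfl
    rw [pow_zero] at hi
    exact hKne (Subgroup.card_eq_one.1 hi)
  have hi3' : i ≠ 3 := by
    rintro rfl
    rw [Nat.sub_self, pow_zero] at hIcard
    exact hIne (Subgroup.card_eq_one.1 hIcard)
  have hi12 : i = 1 ∨ i = 2 := by omega
  rcases hi12 with rfl | rfl
  · refine ⟨φ.ker, φ.range, hK, hI, ?_, by rw [hi, pow_one], hIcard⟩
    obtain ⟨y, hy⟩ := exists_prime_orderOf_dvd_card' (G := φ.range) p
      (by rw [hIcard]; exact dvd_pow_self p (by norm_num))
    have hyK : (y : R) ∈ φ.ker := by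
      rw [MonoidHom.mem_ker, hφa, ← Subgroup.coe_pow, ← hy, pow_orderOf_eq_one]
      rfl
    have hzle : Subgroup.zpowers (y : R) ≤ φ.ker := by rw [Subgroup.zpowers_le]; exact hyK
    have hzc : Nat.card (Subgroup.zpowers (y : R)) = p := by
      rw [Nat.card_zpowers, Subgroup.orderOf_coe, hy]
    have heq : Subgroup.zpowers (y : R) = φ.ker :=
      Subgroup.eq_of_le_of_card_ge hzle (by rw [hzc, hi, pow_one])
    rw [← heq, Subgroup.zpowers_le]
    exact y.2
  · refine ⟨φ.range, φ.ker, hI, hK, ?_, by rw [hIcard]; norm_num, hi⟩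
    rintro _ ⟨x, rfl⟩
    rw [MonoidHom.mem_ker, hφa]
    have h1 : (⟨φ x, ⟨x, rfl⟩⟩ : φ.range) ^ Nat.card φ.range = 1 := pow_card_eq_one'
    rw [hIcard] at h1
    have := congrArg Subtype.val h1
    simpa using this

theorem center_card_p3 {R : Type*} [Group R] [Finite R] {p : ℕ} [Fact p.Prime]
    (hcard : Nat.card R = p ^ 3) (hnc : ¬ ∀ a b : R, a * b = b * a) :
    Nat.card (Subgroup.center R) = p := by
  have hpp : p.Prime := Fact.out
  have hR : IsPGroup p R := IsPGroup.of_card hcard
  haveI : Nontrivial R := by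
    rw [← Finite.one_lt_card_iff_nontrivial, hcard]
    exact Nat.one_lt_pow (by norm_num) hpp.one_lt
  have hmul := Subgroup.card_eq_card_quotient_mul_card_subgroup (Subgroup.center R)
  rw [hcard] at hmul
  obtain ⟨i, hi3, hi⟩ := (Nat.dvd_prime_pow hpp).1 (Dvd.intro_left _ hmul.symm)
  have hQ : Nat.card (R ⧸ Subgroup.center R) = p ^ (3 - i) := by
    rw [hi] at hmul
    have : p ^ (3 - i) * p ^ i = p ^ 3 := by rw [← pow_add]; congr 1; omega
    exact Nat.eq_of_mul_eq_mul_right (pow_pos hpp.pos i) (hmul.symm.trans this.symm)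
  have hi0 : i ≠ 0 := by
    rintro rfl
    rw [pow_zero] at hi
    exact (hR.bot_lt_center).ne' (Subgroup.card_eq_one.1 hi)
  have hi3' : i ≠ 3 := by
    rintro rfl
    have htop : Subgroup.center R = ⊤ := (Subgroup.card_eq_iff_eq_top _).1 (by rw [hi, hcard])
    apply hnc
    intro a b
    have : b ∈ Subgroup.center R := by rw [htop]; exact Subgroup.mem_top _
    exact Subgroup.mem_center_iff.1 this a
  have hi2 : i ≠ 2 := by
    rintro rfl
    have hQp : Nat.card (R ⧸ Subgroup.center R) = p := by rw [hQ]; norm_num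
    haveI : IsCyclic (R ⧸ Subgroup.center R) := isCyclic_of_prime_card hQp
    exact hnc (MonoidHom.isMulCommutative_of_isCyclic_of_ker_le_center
      (QuotientGroup.mk' (Subgroup.center R)) (by rw [QuotientGroup.ker_mk'])).is_comm.comm
  have : i = 1 := by omega
  rw [hi, this, pow_one]

theorem quot_center_p3 {R : Type*} [Group R] [Finite R] {p : ℕ} [Fact p.Prime]
    (hcard : Nat.card R = p ^ 3) (hnc : ¬ ∀ a b : R, a * b = b * a) :
    (∀ x : R, x ^ p ∈ Subgroup.center R) ∧ commutator R ≤ Subgroup.center R := by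
  have hpp : p.Prime := Fact.out
  have hZ := center_card_p3 hcard hnc
  have hmul := Subgroup.card_eq_card_quotient_mul_card_subgroup (Subgroup.center R)
  rw [hcard, hZ] at hmul
  have hQ : Nat.card (R ⧸ Subgroup.center R) = p ^ 2 := by
    have : p ^ 2 * p = p ^ 3 := by ring
    exact Nat.eq_of_mul_eq_mul_right hpp.pos (hmul.symm.trans this.symm)
  constructor
  · intro x
    rw [← QuotientGroup.eq_one_iff, QuotientGroup.mk_pow]
    have h1 : orderOf (x : R ⧸ Subgroup.center R) ∣ p ^ 2 := by
      rw [← hQ]; exact orderOf_dvd_natCard _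
    obtain ⟨j, hj2, hj⟩ := (Nat.dvd_prime_pow hpp).1 h1
    rcases Nat.lt_or_ge j 2 with hj' | hj'
    · apply orderOf_dvd_iff_pow_eq_one.1
      rw [hj]
      have : j ≤ 1 := by omega
      exact (pow_dvd_pow p this).trans (by rw [pow_one])
    · have hj2' : j = 2 := by omega
      exfalso
      rw [hj2', ← hQ] at hj
      haveI : IsCyclic (R ⧸ Subgroup.center R) := isCyclic_of_orderOf_eq_card _ hj
      exact hnc (MonoidHom.isMulCommutative_of_isCyclic_of_ker_le_center
        (QuotientGroup.mk' (Subgroup.center R)) (by rw [QuotientGroup.ker_mk'])).is_comm.comm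
  · have hcomm := (IsPGroup.isMulCommutative_of_card_eq_prime_sq hQ).is_comm.comm
    rw [commutator_def, Subgroup.commutator_le]
    intro g₁ _ g₂ _
    rw [← QuotientGroup.eq_one_iff, commutatorElement_def]
    simp only [QuotientGroup.mk_mul, QuotientGroup.mk_inv]
    rw [hcomm (g₁ : R ⧸ Subgroup.center R) g₂]
    group

/-- A nonabelian group of order `p ^ 3` is extraspecial. -/
theorem extraspecial_p3 {R : Type u} [Group R] [Finite R] {p : ℕ} [Fact p.Prime]
    (hcard : Nat.card R = p ^ 3) (hnc : ¬ ∀ a b : R, a * b = b * a) : IsExtraspecial p R := by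
  have hpp : p.Prime := Fact.out
  have hR : IsPGroup p R := IsPGroup.of_card hcard
  have hZ := center_card_p3 hcard hnc
  obtain ⟨hpow, hcomm⟩ := quot_center_p3 hcard hnc
  have hceq : commutator R = Subgroup.center R := by
    refine Subgroup.eq_of_le_of_card_ge hcomm ?_
    have hne : commutator R ≠ ⊥ := by
      intro h
      apply hnc
      intro a b
      have : ⁅a, b⁆ ∈ commutator R := by
        rw [commutator_def]
        exact Subgroup.commutator_mem_commutator (Subgroup.mem_top _) (Subgroup.mem_top _)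
      rw [h, Subgroup.mem_bot, commutatorElement_eq_one_iff_mul_comm] at this
      exact this
    have hdvd : Nat.card (commutator R) ∣ p := by
      rw [← hZ]; exact Subgroup.card_dvd_of_le hcomm
    rcases (Nat.dvd_prime hpp).1 hdvd with h1 | h1
    · exact absurd (Subgroup.card_eq_one.1 h1) hne
    · rw [h1, hZ]
  refine ⟨⟨hR, ?_, hceq⟩, hZ⟩
  apply le_antisymm
  · exact Cfsg.Agent.Lib.helper1.frattini_le_of_elementary_quotient p (Subgroup.center R) hcomm hpow
  · rw [← hceq]
    exact Cfsg.Agent.Lib.helper1.commutator_le_frattini p hR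

theorem pow_mul_comm_aux' {G : Type*} [Group G] (x y c : G) (h : y * x = c * x * y)
    (hcy : Commute c y) (n : ℕ) : y ^ n * x = c ^ n * x * y ^ n := by
  induction n with
  | zero => simp
  | succ n ih =>
    have e : y * c ^ n = c ^ n * y := ((hcy.pow_left n).eq).symm
    calc y ^ (n + 1) * x = y * (y ^ n * x) := by rw [pow_succ']; group
      _ = y * (c ^ n * x * y ^ n) := by rw [ih]
      _ = (y * c ^ n) * x * y ^ n := by group
      _ = (c ^ n * y) * x * y ^ n := by rw [e]
      _ = c ^ n * (y * x) * y ^ n := by group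
      _ = c ^ n * (c * x * y) * y ^ n := by rw [h]
      _ = c ^ (n + 1) * x * y ^ (n + 1) := by rw [pow_succ, pow_succ]; group

theorem mul_pow_class_two' {G : Type*} [Group G] (x y c : G) (h : y * x = c * x * y)
    (hcx : Commute c x) (hcy : Commute c y) (n : ℕ) :
    (x * y) ^ n = c ^ (n.choose 2) * x ^ n * y ^ n := by
  induction n with
  | zero => simp
  | succ n ih =>
    have e1 := pow_mul_comm_aux' x y c h hcy n
    have e2 : Commute (c ^ n) (x ^ n) := (hcx.pow_left n).pow_right n
    have e3 : (n + 1).choose 2 = n.choose 2 + n := by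
      rw [Nat.choose_succ_succ, Nat.choose_one_right]; ring
    calc (x * y) ^ (n + 1) = (x * y) ^ n * (x * y) := pow_succ _ _
      _ = c ^ (n.choose 2) * x ^ n * y ^ n * (x * y) := by rw [ih]
      _ = c ^ (n.choose 2) * x ^ n * (y ^ n * x) * y := by group
      _ = c ^ (n.choose 2) * x ^ n * (c ^ n * x * y ^ n) * y := by rw [e1]
      _ = c ^ (n.choose 2) * (x ^ n * c ^ n) * x * y ^ n * y := by group
      _ = c ^ (n.choose 2) * (c ^ n * x ^ n) * x * y ^ n * y := by rw [e2.eq]
      _ = c ^ ((n + 1).choose 2) * x ^ (n + 1) * y ^ (n + 1) := by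
          rw [e3, pow_add, pow_succ, pow_succ]; group

theorem charChain_odd {R : Type*} [Group R] [Finite R] {p : ℕ} [Fact p.Prime]
    (hcard : Nat.card R = p ^ 3) (hnc : ¬ ∀ a b : R, a * b = b * a) (hodd : p ≠ 2)
    (hne : ¬ ∀ x : R, x ^ p = 1) : HasCharChain p R := by
  have hpp : p.Prime := Fact.out
  have hZ := center_card_p3 hcard hnc
  obtain ⟨hpow, hcomm⟩ := quot_center_p3 hcard hnc
  have hzp : ∀ z ∈ Subgroup.center R, z ^ p = 1 := by
    intro z hz
    have h1 : (⟨z, hz⟩ : Subgroup.center R) ^ Nat.card (Subgroup.center R) = 1 :=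
      pow_card_eq_one'
    rw [hZ] at h1
    exact congrArg Subtype.val h1
  have hmulpow : ∀ x y : R, (x * y) ^ p = x ^ p * y ^ p := by
    intro x y
    have hc : ⁅y, x⁆ ∈ Subgroup.center R := hcomm (by
      rw [commutator_def]
      exact Subgroup.commutator_mem_commutator (Subgroup.mem_top _) (Subgroup.mem_top _))
    have h1 : y * x = ⁅y, x⁆ * x * y := by rw [commutatorElement_def]; group
    have hcx : Commute ⁅y, x⁆ x := (Subgroup.mem_center_iff.1 hc x).symm
    have hcy : Commute ⁅y, x⁆ y := (Subgroup.mem_center_iff.1 hc y).symm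
    rw [mul_pow_class_two' x y _ h1 hcx hcy p]
    have h2 : p ∣ p.choose 2 :=
      hpp.dvd_choose_self (by norm_num) (by have := hpp.two_le; omega)
    obtain ⟨t, ht⟩ := h2
    rw [ht, pow_mul, hzp _ hc, one_pow, one_mul]
  obtain ⟨ψ, hψ⟩ : ∃ ψ : R →* R, ∀ x, ψ x = x ^ p :=
    ⟨MonoidHom.mk' (fun x => x ^ p) hmulpow, fun x => rfl⟩
  have hK : ψ.ker.Characteristic := by
    rw [Subgroup.characteristic_iff_map_le]
    rintro e _ ⟨x, hx, rfl⟩
    rw [SetLike.mem_coe, MonoidHom.mem_ker, hψ] at hx
    rw [MonoidHom.mem_ker, hψ]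
    show (e x) ^ p = 1
    rw [← map_pow, hx, map_one]
  have hmul : Nat.card ψ.ker * Nat.card ψ.range = p ^ 3 := by
    rw [← Subgroup.index_ker, Subgroup.card_mul_index, hcard]
  have hIle : ψ.range ≤ Subgroup.center R := by
    rintro _ ⟨x, rfl⟩
    rw [hψ]
    exact hpow x
  have hIne : ψ.range ≠ ⊥ := by
    intro h
    apply hne
    intro x
    have : ψ x ∈ ψ.range := ⟨x, rfl⟩
    rw [h, Subgroup.mem_bot, hψ] at this
    exact this
  have hIcard : Nat.card ψ.range = p := by
    have hdvd : Nat.card ψ.range ∣ p := by rw [← hZ]; exact Subgroup.card_dvd_of_le hIle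
    rcases (Nat.dvd_prime hpp).1 hdvd with h1 | h1
    · exact absurd (Subgroup.card_eq_one.1 h1) hIne
    · exact h1
  have hKcard : Nat.card ψ.ker = p ^ 2 := by
    rw [hIcard] at hmul
    have : p ^ 2 * p = p ^ 3 := by ring
    exact Nat.eq_of_mul_eq_mul_right hpp.pos (hmul.trans this.symm)
  refine ⟨Subgroup.center R, ψ.ker, inferInstance, hK, ?_, hZ, hKcard⟩
  intro z hz
  rw [MonoidHom.mem_ker, hψ]
  exact hzp z hz

theorem q8_or_chain {R : Type*} [Group R] [Finite R] (hcard : Nat.card R = 2 ^ 3)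
    (hnc : ¬ ∀ a b : R, a * b = b * a) :
    Nonempty (R ≃* QuaternionGroup 2) ∨ HasCharChain 2 R := by
  haveI : Fact (Nat.Prime 2) := ⟨Nat.prime_two⟩
  have hR : IsPGroup 2 R := IsPGroup.of_card hcard
  have hZ := center_card_p3 hcard hnc
  have hex : ∃ a : R, a * a ≠ 1 := by
    by_contra hall
    push Not at hall
    apply hnc
    intro x y
    have hx : x⁻¹ = x := inv_eq_of_mul_eq_one_left (hall x)
    have hy : y⁻¹ = y := inv_eq_of_mul_eq_one_left (hall y)
    have hxy : (x * y)⁻¹ = x * y := inv_eq_of_mul_eq_one_left (hall (x * y))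
    rw [← hxy, mul_inv_rev, hx, hy]
  obtain ⟨a, ha⟩ := hex
  have hord : orderOf a = 4 := by
    have h1 : orderOf a ∣ 2 ^ 3 := by rw [← hcard]; exact orderOf_dvd_natCard a
    obtain ⟨i, hi3, hi⟩ := (Nat.dvd_prime_pow Nat.prime_two).1 h1
    interval_cases i
    · exfalso
      rw [pow_zero, orderOf_eq_one_iff] at hi
      rw [hi, mul_one] at ha
      exact ha rfl
    · exfalso
      apply ha
      rw [← pow_two]
      have := pow_orderOf_eq_one a
      rw [hi] at this
      exact this
    · rw [hi]; norm_num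
    · exfalso
      have : orderOf a = Nat.card R := by rw [hi, hcard]
      haveI := isCyclic_of_orderOf_eq_card a this
      exact hnc (IsCyclic.isMulCommutative (α := R)).is_comm.comm
  have ha4 : a ^ 4 = 1 := by rw [← hord]; exact pow_orderOf_eq_one a
  have hcz : Nat.card (Subgroup.zpowers a) = 4 := by rw [Nat.card_zpowers, hord]
  have hidx : (Subgroup.zpowers a).index = 2 := by
    have := Subgroup.card_mul_index (Subgroup.zpowers a)
    rw [hcz, hcard] at this
    omega
  haveI hnorm : (Subgroup.zpowers a).Normal := Subgroup.normal_of_index_eq_two hidx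
  have hpows : ∀ x ∈ Subgroup.zpowers a, ∃ j < 4, a ^ j = x := by
    intro x hx
    rw [← mem_powers_iff_mem_zpowers] at hx
    obtain ⟨n, hn⟩ := hx
    refine ⟨n % 4, Nat.mod_lt _ (by norm_num), ?_⟩
    rw [← hn, ← hord, pow_mod_orderOf]
  have hclub : ∀ y, y ∉ Subgroup.zpowers a → y * a ≠ a * y := by
    intro y hy hcomm
    have hcy : Commute y a := hcomm
    have hac : a ∈ Subgroup.center R := by
      rw [Subgroup.mem_center_iff]
      intro r
      by_cases hr : r ∈ Subgroup.zpowers a
      · obtain ⟨j, _, rfl⟩ := hpows r hr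
        exact ((Commute.refl a).pow_left j).eq
      · have h1 : r * y ∈ Subgroup.zpowers a :=
          (Subgroup.mul_mem_iff_of_index_two hidx).2 (iff_of_false hr hy)
        obtain ⟨j, _, hj⟩ := hpows _ h1
        have hr' : r = a ^ j * y⁻¹ := by rw [hj]; group
        rw [hr']
        exact (((Commute.refl a).pow_left j).mul_left hcy.inv_left).eq
    have h2 : a ^ 2 = 1 := by
      have h1 : (⟨a, hac⟩ : Subgroup.center R) ^ Nat.card (Subgroup.center R) = 1 :=
        pow_card_eq_one'
      rw [hZ] at h1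
      exact congrArg Subtype.val h1
    exact ha (by rw [← pow_two]; exact h2)
  by_cases hinv : ∃ b : R, b * b = 1 ∧ b ∉ Subgroup.zpowers a
  · right
    obtain ⟨b, hb2, hbn⟩ := hinv
    have hbinv : b⁻¹ = b := inv_eq_of_mul_eq_one_left hb2
    have hconj : b * a * b⁻¹ = a ^ 3 := by
      have h1 : b * a * b⁻¹ ∈ Subgroup.zpowers a := hnorm.conj_mem a (Subgroup.mem_zpowers a) b
      obtain ⟨j, hj4, hj⟩ := hpows _ h1
      interval_cases j
      · exfalso
        rw [pow_zero] at hj
        have h2 : a = b⁻¹ * (b * a * b⁻¹) * b := by group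
        rw [← hj] at h2
        have h3 : a = 1 := by rw [h2]; group
        rw [h3, mul_one] at ha
        exact ha rfl
      · exfalso
        rw [pow_one] at hj
        apply hclub b hbn
        have h2 : b * a = (b * a * b⁻¹) * b := by group
        rw [h2, ← hj]
      · exfalso
        have h2 : (b * a * b⁻¹) ^ 2 = 1 := by rw [← hj, ← pow_mul]; exact ha4
        rw [conj_pow] at h2
        have h3 : a ^ 2 = b⁻¹ * (b * a ^ 2 * b⁻¹) * b := by group
        rw [h2] at h3
        have h4 : a ^ 2 = 1 := by rw [h3]; group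
        exact ha (by rw [← pow_two]; exact h4)
      · exact hj.symm
    have hout : ∀ x, x ∉ Subgroup.zpowers a → x * x = 1 := by
      intro x hx
      have h1 : x * b ∈ Subgroup.zpowers a :=
        (Subgroup.mul_mem_iff_of_index_two hidx).2 (iff_of_false hx hbn)
      obtain ⟨j, _, hj⟩ := hpows _ h1
      have hx' : x = a ^ j * b := by
        have h2 : x = (x * b) * b⁻¹ := by group
        rw [h2, ← hj, hbinv]
      have h2 : b * a ^ j * b⁻¹ = (a ^ 3) ^ j := by rw [← hconj, conj_pow]
      rw [hbinv] at h2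
      calc x * x = a ^ j * (b * a ^ j * b) := by rw [hx']; group
        _ = a ^ j * (a ^ 3) ^ j := by rw [h2]
        _ = (a ^ 4) ^ j := by rw [← pow_mul, ← pow_add, ← pow_mul]; congr 1; ring
        _ = 1 := by rw [ha4, one_pow]
    have hchar : (Subgroup.zpowers a).Characteristic := by
      rw [Subgroup.characteristic_iff_map_le]
      intro e
      rw [MonoidHom.map_zpowers, Subgroup.zpowers_le]
      by_contra hnot
      have h1 := hout _ hnot
      have h2 : e (a * a) = e 1 := by rw [map_mul, map_one]; exact h1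
      exact ha (e.injective h2)
    have hZle : Subgroup.center R ≤ Subgroup.zpowers a := by
      intro z hz
      by_contra hnot
      exact hclub z hnot ((Subgroup.mem_center_iff.1 hz a).symm)
    exact ⟨Subgroup.center R, Subgroup.zpowers a, inferInstance, hchar, hZle, hZ,
      by rw [hcz]; norm_num⟩
  · left
    push Not at hinv
    have ha2ne : a ^ 2 ≠ 1 := by rw [pow_two]; exact ha
    have ha22 : (a ^ 2) ^ 2 = 1 := by rw [← pow_mul]; exact ha4
    have hord2 : orderOf (a ^ 2) = 2 := orderOf_eq_prime ha22 ha2ne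
    have hkey : ∀ H : Subgroup R, Nat.card H = 2 → H = Subgroup.zpowers (a ^ 2) := by
      intro H hH
      have hne : H ≠ ⊥ := by
        intro h
        rw [h, Subgroup.card_bot] at hH
        omega
      obtain ⟨⟨b, hbH⟩, hb1⟩ := Subgroup.ne_bot_iff_exists_ne_one.1 hne
      have hb1' : b ≠ 1 := fun h => hb1 (Subtype.ext h)
      have hb2 : b * b = 1 := by
        have h1 : (⟨b, hbH⟩ : H) ^ Nat.card H = 1 := pow_card_eq_one'
        rw [hH] at h1
        have := congrArg Subtype.val h1
        rw [← pow_two]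
        exact this
      obtain ⟨j, hj4, hj⟩ := hpows b (hinv b hb2)
      have hbeq : b = a ^ 2 := by
        interval_cases j
        · exfalso
          exact hb1' (by rw [← hj, pow_zero])
        · exfalso
          rw [pow_one] at hj
          rw [← hj] at hb2
          exact ha hb2
        · exact hj.symm
        · exfalso
          rw [← hj] at hb2
          apply ha2ne
          have h6 : a ^ 3 * a ^ 3 = a ^ 4 * a ^ 2 := by rw [← pow_add, ← pow_add]
          rw [h6, ha4, one_mul] at hb2
          exact hb2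
      symm
      apply Subgroup.eq_of_le_of_card_ge
      · rw [Subgroup.zpowers_le, ← hbeq]
        exact hbH
      · rw [Nat.card_zpowers, hord2, hH]
    have huniq : ∀ H K : Subgroup R, Nat.card H = 2 → Nat.card K = 2 → H = K := by
      intro H K hH hK
      rw [hkey H hH, hkey K hK]
    rcases Cfsg.Agent.S0016.result 2 hR huniq with hc | ⟨_, n, ⟨e⟩⟩
    · exfalso
      haveI := hc
      exact hnc (IsCyclic.isMulCommutative (α := R)).is_comm.comm
    · have hn : 2 ^ n = 2 := by
        have h1 := Nat.card_congr e.toEquiv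
        rw [hcard] at h1
        haveI : NeZero (2 ^ n) := ⟨by positivity⟩
        rw [Nat.card_eq_fintype_card, QuaternionGroup.card] at h1
        omega
      exact ⟨hn ▸ e⟩

/-- The groups of order `p ^ 3`: elementary abelian, extraspecial of exponent `p` (`p` odd),
quaternion, or with a characteristic chain with factors of order `p`. -/
theorem order_p3 {R : Type u} [Group R] [Finite R] {p : ℕ} [Fact p.Prime]
    (hcard : Nat.card R = p ^ 3) :
    ((∀ a b : R, a * b = b * a) ∧ ∀ x : R, x ^ p = 1) ∨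
    (Odd p ∧ IsExtraspecial p R ∧ ∀ x : R, x ^ p = 1) ∨
    (p = 2 ∧ Nonempty (R ≃* QuaternionGroup 2)) ∨ HasCharChain p R := by
  have hpp : p.Prime := Fact.out
  by_cases hc : ∀ a b : R, a * b = b * a
  · by_cases he : ∀ x : R, x ^ p = 1
    · exact Or.inl ⟨hc, he⟩
    · right; right; right
      exact @charChain_of_comm R { (inferInstance : Group R) with mul_comm := hc } _ p _ hcard he
  · by_cases h2 : p = 2
    · subst h2
      rcases q8_or_chain hcard hc with h | h
      · exact Or.inr (Or.inr (Or.inl ⟨rfl, h⟩))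
      · exact Or.inr (Or.inr (Or.inr h))
    · by_cases he : ∀ x : R, x ^ p = 1
      · exact Or.inr (Or.inl ⟨hpp.odd_of_ne_two h2, extraspecial_p3 hcard hc, he⟩)
      · exact Or.inr (Or.inr (Or.inr (charChain_odd hcard hc h2 he)))

end Cfsg.Agent.Lib.helper26
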