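import Mathlib
import Cfsg.Agent.Lib.helper26.Chain

set_option autoImplicit false

namespace Cfsg.Agent.Lib.helper26

open Cfsg

/-- A `p`-element of `Aut R` acts trivially on an invariant factor `Y / X` of order `p`. -/
theorem pelt_factor {R : Type*} [Group R] [Finite R] {p : ℕ} [Fact p.Prime]
    (a : MulAut R) (k : ℕ) (hak : a ^ p ^ k = 1) (X Y : Subgroup R) [X.Normal] (hXY : X ≤ Y)
    (hX : ∀ x ∈ X, a x ∈ X) (hY : ∀ y ∈ Y, a y ∈ Y) (hidx : Nat.card Y = p * Nat.card X) :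
    ∀ y ∈ Y, y⁻¹ * a y ∈ X := by
  have hpp : p.Prime := Fact.out
  by_cases hex : ∃ y₀ ∈ Y, y₀ ∉ X
  swap
  · push Not at hex
    intro y hy
    exact X.mul_mem (X.inv_mem (hex y hy)) (hX y (hex y hy))
  obtain ⟨y₀, hy₀, hy₀X⟩ := hex
  obtain ⟨π, hπ⟩ : ∃ π : R →* R ⧸ X, π = QuotientGroup.mk' X := ⟨_, rfl⟩
  have hker : ∀ r : R, π r = 1 ↔ r ∈ X := by
    intro r
    rw [hπ]
    exact QuotientGroup.eq_one_iff r
  obtain ⟨f, hf⟩ : ∃ f : ↥Y →* R ⧸ X, f = π.comp Y.subtype := ⟨_, rfl⟩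
  have hfker : Nat.card f.ker = Nat.card X := by
    have h1 : f.ker = X.subgroupOf Y := by
      ext y
      rw [MonoidHom.mem_ker, Subgroup.mem_subgroupOf, hf]
      exact hker _
    rw [h1]
    exact Nat.card_congr (Subgroup.subgroupOfEquivOfLe hXY).toEquiv
  have hcardM : Nat.card f.range = p := by
    have h1 := Subgroup.card_mul_index f.ker
    rw [Subgroup.index_ker, hfker, hidx, mul_comm] at h1
    exact Nat.eq_of_mul_eq_mul_right Nat.card_pos h1
  have hfmem : ∀ y ∈ Y, π y ∈ f.range := by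
    intro y hy
    exact ⟨⟨y, hy⟩, by rw [hf]; rfl⟩
  have hg1 : π y₀ ≠ 1 := fun h => hy₀X ((hker _).1 h)
  have hpow : ∀ u ∈ f.range, ∃ n : ℕ, π y₀ ^ n = u := by
    intro u hu
    have hne : (⟨π y₀, hfmem y₀ hy₀⟩ : f.range) ≠ 1 := by
      intro h
      exact hg1 (congrArg Subtype.val h)
    have h1 := mem_powers_of_prime_card (g' := (⟨u, hu⟩ : f.range)) hcardM hne
    obtain ⟨n, hn⟩ := h1
    exact ⟨n, congrArg Subtype.val hn⟩
  have hgp : π y₀ ^ p = 1 := by
    have h1 : (⟨π y₀, hfmem y₀ hy₀⟩ : f.range) ^ Nat.card f.range = 1 := pow_card_eq_one'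
    rw [hcardM] at h1
    exact congrArg Subtype.val h1
  have hord : orderOf (π y₀) = p := orderOf_eq_prime hgp hg1
  -- a general transfer step
  have hstep : ∀ (w : R) (i : ℕ), π w = π y₀ ^ i → π (a w) = π (a y₀) ^ i := by
    intro w i hw
    have hx : (y₀ ^ i)⁻¹ * w ∈ X := by
      rw [← hker, map_mul, map_inv, map_pow, hw, inv_mul_cancel]
    have hw' : w = y₀ ^ i * ((y₀ ^ i)⁻¹ * w) := by group
    have h1 : π (a ((y₀ ^ i)⁻¹ * w)) = 1 := (hker _).2 (hX _ hx)
    rw [hw', map_mul, map_mul, h1, mul_one, map_pow, map_pow]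
  obtain ⟨b, hb⟩ := hpow _ (hfmem _ (hY y₀ hy₀))
  have hiter : ∀ n : ℕ, π ((a ^ n) y₀) = π y₀ ^ b ^ n := by
    intro n
    induction n with
    | zero => simp
    | succ n ih =>
      rw [pow_succ', MulAut.mul_apply, hstep _ _ ih, ← hb, ← pow_mul, pow_succ']
  have h1 := hiter (p ^ k)
  rw [hak, MulAut.one_apply] at h1
  have h2 : π y₀ ^ b ^ p ^ k = π y₀ ^ 1 := by rw [pow_one]; exact h1.symm
  rw [pow_eq_pow_iff_modEq, hord] at h2
  have h3 : ((b : ℕ) : ZMod p) = 1 := by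
    have h4 := (ZMod.natCast_eq_natCast_iff _ _ p).2 h2
    rw [Nat.cast_pow, ZMod.pow_card_pow, Nat.cast_one] at h4
    exact h4
  have h5 : b ≡ 1 [MOD p] := by
    rw [← ZMod.natCast_eq_natCast_iff, h3, Nat.cast_one]
  have h6 : π (a y₀) = π y₀ := by
    rw [← hb]
    have : π y₀ ^ b = π y₀ ^ 1 := by
      rw [pow_eq_pow_iff_modEq, hord]
      exact h5
    rw [this, pow_one]
  intro y hy
  obtain ⟨i, hi⟩ := hpow _ (hfmem y hy)
  have h7 := hstep y i hi.symm
  rw [h6, hi] at h7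
  rw [← hker, map_mul, map_inv, h7, inv_mul_cancel]

/-- If a group `R` of order `p ^ 3` has an `A`-invariant chain of normal subgroups of orders `p`
and `p ^ 2`, every `p`-element of `A` lies in `O_p(A)`. -/
theorem pelt_mem_pCore3 {R : Type*} [Group R] [Finite R] {p : ℕ} [Fact p.Prime]
    (hcard : Nat.card R = p ^ 3) (A : Subgroup (MulAut R)) (L1 L2 : Subgroup R)
    [L1.Normal] [L2.Normal] (h12 : L1 ≤ L2) (hc1 : Nat.card L1 = p) (hc2 : Nat.card L2 = p ^ 2)
    (hA1 : ∀ a ∈ A, ∀ x ∈ L1, a x ∈ L1) (hA2 : ∀ a ∈ A, ∀ x ∈ L2, a x ∈ L2)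
    (a : A) (k : ℕ) (hak : (a : MulAut R) ^ p ^ k = 1) : a ∈ pCore p A := by
  have hR : IsPGroup p R := IsPGroup.of_card hcard
  obtain ⟨L, hLdef⟩ : ∃ L : ℕ → Subgroup R,
      L = fun i => if i = 0 then ⊥ else if i = 1 then L1 else if i = 2 then L2 else ⊤ := ⟨_, rfl⟩
  have hL0 : L 0 = ⊥ := by rw [hLdef]; simp
  have hL1 : L 1 = L1 := by rw [hLdef]; simp
  have hL2 : L 2 = L2 := by rw [hLdef]; simp
  have hL3 : ∀ i, 3 ≤ i → L i = ⊤ := by
    intro i hi
    rw [hLdef]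
    have h0 : i ≠ 0 := by omega
    have h1 : i ≠ 1 := by omega
    have h2 : i ≠ 2 := by omega
    simp [h0, h1, h2]
  have hL : ∀ i, ∀ a ∈ A, ∀ x ∈ L i, a x ∈ L i := by
    intro i b hb x hx
    rcases Nat.lt_or_ge i 3 with hi | hi
    · interval_cases i
      · rw [hL0, Subgroup.mem_bot] at hx
        rw [hx, map_one]
        exact one_mem _
      · rw [hL1] at hx ⊢
        exact hA1 b hb x hx
      · rw [hL2] at hx ⊢
        exact hA2 b hb x hx
    · rw [hL3 i hi]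
      exact Subgroup.mem_top _
  have hmem : a ∈ chainStab A L hL := by
    intro i x hx
    rcases Nat.lt_or_ge i 3 with hi | hi
    · interval_cases i
      · rw [hL1] at hx
        rw [hL0]
        refine pelt_factor (a : MulAut R) k hak ⊥ L1 bot_le ?_ (hA1 a a.2) ?_ x hx
        · intro y hy
          rw [Subgroup.mem_bot] at hy
          rw [hy, map_one]
          exact one_mem _
        · rw [hc1, Subgroup.card_bot, mul_one]
      · rw [hL2] at hx
        rw [hL1]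
        refine pelt_factor (a : MulAut R) k hak L1 L2 h12 (hA1 a a.2) (hA2 a a.2) ?_ x hx
        rw [hc1, hc2, pow_two]
      · rw [hL2]
        refine pelt_factor (a : MulAut R) k hak L2 ⊤ le_top (hA2 a a.2) ?_ ?_ x
          (Subgroup.mem_top _)
        · intro y _
          exact Subgroup.mem_top _
        · rw [Subgroup.card_top, hcard, hc2]
          ring
    · rw [hL3 i hi]
      exact Subgroup.mem_top _
  exact le_pCore (chainStab_normal A L hL) (chainStab_isPGroup hR A L hL hL0 3 (hL3 3 le_rfl)) hmem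

/-- If `p` divides the order of `G ⧸ N`, some `p`-element of `G` lies outside `N`. -/
theorem exists_pelt_not_mem {G : Type*} [Group G] [Finite G] {p : ℕ} [Fact p.Prime]
    (N : Subgroup G) [N.Normal] (hdvd : p ∣ Nat.card (G ⧸ N)) :
    ∃ (a : G) (k : ℕ), a ^ p ^ k = 1 ∧ a ∉ N := by
  have hpp : p.Prime := Fact.out
  obtain ⟨xb, hxb⟩ := exists_prime_orderOf_dvd_card' p hdvd
  obtain ⟨x, rfl⟩ := QuotientGroup.mk_surjective xb
  have ho : orderOf x ≠ 0 := (orderOf_pos x).ne'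
  obtain ⟨j, m, hm, hjm⟩ := Nat.exists_eq_pow_mul_and_not_dvd ho p hpp.ne_one
  refine ⟨x ^ m, j, ?_, ?_⟩
  · rw [← pow_mul, mul_comm, ← hjm, pow_orderOf_eq_one]
  · intro hmem
    have h1 : ((x ^ m : G) : G ⧸ N) = 1 := (QuotientGroup.eq_one_iff _).2 hmem
    rw [QuotientGroup.mk_pow] at h1
    have h2 := orderOf_dvd_of_pow_eq_one h1
    rw [hxb] at h2
    exact hm h2

end Cfsg.Agent.Lib.helper26
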