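import Mathlib
import Cfsg.Prelude.Def_Sporadic_a

set_option autoImplicit false

namespace Cfsg.Agent.Lib.helper26.Plane4A

open Finset

/-- In a Steiner system `S(2,5,21)` (a projective plane of order 4) there are exactly `1120`
three-point sets no line meets in three points (triangles). -/
theorem ind3_count {α : Type*} [Fintype α] [DecidableEq α] (hα : Fintype.card α = 21)
    (L : Set (Finset α)) (hL : Cfsg.IsSteinerSystem 2 5 L) :
    {T : Finset α | T.card = 3 ∧ ∀ l ∈ L, (l ∩ T).card ≤ 2}.ncard = 1120 := by
  classical
  obtain ⟨hcard, huniq⟩ := hL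
  let Good : Finset (Finset α) :=
    (univ.powersetCard 3).filter (fun T => ∀ l ∈ L, (l ∩ T).card ≤ 2)
  have hGood : {T : Finset α | T.card = 3 ∧ ∀ l ∈ L, (l ∩ T).card ≤ 2} = ↑Good := by
    ext T
    simp [Good, mem_powersetCard]
  rw [hGood, Set.ncard_coe_finset]
  let E : Finset (Finset α) := univ.powersetCard 2
  have hE : E.card = 210 := by
    show (univ.powersetCard 2 : Finset (Finset α)).card = 210
    rw [card_powersetCard, card_univ, hα]
    rfl
  have key := Finset.sum_card_bipartiteAbove_eq_sum_card_bipartiteBelow (s := E) (t := Good)
    (fun e T => e ⊆ T)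
  have hR : ∀ T ∈ Good, (E.bipartiteBelow (fun e T => e ⊆ T) T).card = 3 := by
    intro T hT
    have hT3 : T.card = 3 := (mem_powersetCard.1 (mem_filter.1 hT).1).2
    have h1 : E.bipartiteBelow (fun e T => e ⊆ T) T = T.powersetCard 2 := by
      ext e
      simp only [Finset.bipartiteBelow, mem_filter, E, mem_powersetCard]
      constructor
      · rintro ⟨⟨-, h2⟩, h3⟩
        exact ⟨h3, h2⟩
      · rintro ⟨h3, h2⟩
        exact ⟨⟨subset_univ _, h2⟩, h3⟩
    rw [h1, card_powersetCard, hT3]
    rfl
  have hLft : ∀ e ∈ E, (Good.bipartiteAbove (fun e T => e ⊆ T) e).card = 16 := by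
    intro e he
    have he2 : e.card = 2 := (mem_powersetCard.1 he).2
    obtain ⟨l, ⟨hlL, hel⟩, hlu⟩ := huniq e he2
    have hl5 : l.card = 5 := hcard l hlL
    have h1 : Good.bipartiteAbove (fun e T => e ⊆ T) e = (univ \ l).image (fun r => insert r e) := by
      ext T
      simp only [Finset.bipartiteAbove, mem_filter, mem_image, mem_sdiff, mem_univ, true_and]
      constructor
      · rintro ⟨hT, heT⟩
        have hT3 : T.card = 3 := (mem_powersetCard.1 (mem_filter.1 hT).1).2
        have hTg := (mem_filter.1 hT).2
        have hc1 : (T \ e).card = 1 := by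
          rw [card_sdiff_of_subset heT, hT3, he2]
        obtain ⟨r, hr⟩ := card_eq_one.1 hc1
        have hrT : r ∈ T \ e := by rw [hr]; exact mem_singleton_self r
        refine ⟨r, ?_, ?_⟩
        · intro hrl
          have hTl : T ⊆ l := by
            intro x hx
            by_cases hxe : x ∈ e
            · exact hel hxe
            · have hx' : x ∈ T \ e := mem_sdiff.2 ⟨hx, hxe⟩
              rw [hr, mem_singleton] at hx'
              rw [hx']
              exact hrl
          have h2 := hTg l hlL
          rw [inter_eq_right.2 hTl, hT3] at h2
          omega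
        · ext x
          rw [mem_insert]
          constructor
          · rintro (rfl | hx)
            · exact (mem_sdiff.1 hrT).1
            · exact heT hx
          · intro hx
            by_cases hxe : x ∈ e
            · exact Or.inr hxe
            · have hx' : x ∈ T \ e := mem_sdiff.2 ⟨hx, hxe⟩
              rw [hr, mem_singleton] at hx'
              exact Or.inl hx'
      · rintro ⟨r, hrl, rfl⟩
        have hre : r ∉ e := fun h => hrl (hel h)
        have hc3 : (insert r e).card = 3 := by rw [card_insert_of_notMem hre, he2]
        refine ⟨?_, subset_insert r e⟩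
        rw [mem_filter, mem_powersetCard]
        refine ⟨⟨subset_univ _, hc3⟩, ?_⟩
        intro l' hl'
        by_contra hgt
        have hsub : l' ∩ insert r e = insert r e := by
          apply eq_of_subset_of_card_le inter_subset_right
          rw [hc3]
          omega
        have hTl' : insert r e ⊆ l' := by
          rw [← hsub]
          exact inter_subset_left
        have hel' : e ⊆ l' := (subset_insert r e).trans hTl'
        have hll : l' = l := hlu l' ⟨hl', hel'⟩
        rw [hll] at hTl'
        exact hrl (hTl' (mem_insert_self r e))
    rw [h1, card_image_of_injOn, card_sdiff_of_subset (subset_univ l), card_univ, hα, hl5]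
    intro r hr r' hr' heq
    have hr_ne : r ∉ e := fun h => (mem_sdiff.1 (mem_coe.1 hr)).2 (hel h)
    have hmem : r ∈ insert r' e := by
      have : r ∈ insert r e := mem_insert_self r e
      rwa [show insert r e = insert r' e from heq] at this
    rcases mem_insert.1 hmem with h | h
    · exact h
    · exact absurd h hr_ne
  rw [sum_congr rfl hLft, sum_congr rfl hR] at key
  simp only [sum_const, smul_eq_mul, hE] at key
  omega

end Cfsg.Agent.Lib.helper26.Plane4A
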