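import Mathlib
import Cfsg.Prelude.Def_Sporadic_a

set_option autoImplicit false

namespace Cfsg.Agent.Lib.helper26.Plane4B

open Finset

/-- Pure double counting: if there are `2520` good `4`-sets and each lies in exactly one good
`6`-set, there are `168` good `6`-sets. -/
theorem hyperoval_count {α : Type*} [Fintype α] [DecidableEq α] (L : Set (Finset α))
    (h4 : {S : Finset α | S.card = 4 ∧ ∀ l ∈ L, (l ∩ S).card ≤ 2}.ncard = 2520)
    (hC : ∀ S : Finset α, (S.card = 4 ∧ ∀ l ∈ L, (l ∩ S).card ≤ 2) →
      ∃! H : Finset α, (H.card = 6 ∧ ∀ l ∈ L, (l ∩ H).card ≤ 2) ∧ S ⊆ H) :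
    {H : Finset α | H.card = 6 ∧ ∀ l ∈ L, (l ∩ H).card ≤ 2}.ncard = 168 := by
  classical
  let G4 : Finset (Finset α) :=
    (univ.powersetCard 4).filter (fun T => ∀ l ∈ L, (l ∩ T).card ≤ 2)
  let G6 : Finset (Finset α) :=
    (univ.powersetCard 6).filter (fun T => ∀ l ∈ L, (l ∩ T).card ≤ 2)
  have hG4 : {S : Finset α | S.card = 4 ∧ ∀ l ∈ L, (l ∩ S).card ≤ 2} = ↑G4 := by
    ext T
    simp [G4, mem_powersetCard]
  have hG6 : {H : Finset α | H.card = 6 ∧ ∀ l ∈ L, (l ∩ H).card ≤ 2} = ↑G6 := by
    ext T
    simp [G6, mem_powersetCard]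
  rw [hG4, Set.ncard_coe_finset] at h4
  rw [hG6, Set.ncard_coe_finset]
  have m4 : ∀ S : Finset α, S ∈ G4 ↔ (S.card = 4 ∧ ∀ l ∈ L, (l ∩ S).card ≤ 2) := by
    intro S
    simp [G4, mem_powersetCard]
  have m6 : ∀ S : Finset α, S ∈ G6 ↔ (S.card = 6 ∧ ∀ l ∈ L, (l ∩ S).card ≤ 2) := by
    intro S
    simp [G6, mem_powersetCard]
  have key := Finset.sum_card_bipartiteAbove_eq_sum_card_bipartiteBelow (s := G4) (t := G6)
    (fun S H => S ⊆ H)
  have hLft : ∀ S ∈ G4, (G6.bipartiteAbove (fun S H => S ⊆ H) S).card = 1 := by
    intro S hS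
    obtain ⟨H, ⟨hH, hSH⟩, hu⟩ := hC S ((m4 S).1 hS)
    rw [card_eq_one]
    refine ⟨H, ?_⟩
    ext H'
    simp only [Finset.bipartiteAbove, mem_filter, mem_singleton]
    constructor
    · rintro ⟨h1, h2⟩
      exact hu H' ⟨(m6 H').1 h1, h2⟩
    · rintro rfl
      exact ⟨(m6 _).2 hH, hSH⟩
  have hR : ∀ H ∈ G6, (G4.bipartiteBelow (fun S H => S ⊆ H) H).card = 15 := by
    intro H hH
    obtain ⟨hH6, hHg⟩ := (m6 H).1 hH
    have h1 : G4.bipartiteBelow (fun S H => S ⊆ H) H = H.powersetCard 4 := by
      ext S
      simp only [Finset.bipartiteBelow, mem_filter, mem_powersetCard, m4]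
      constructor
      · rintro ⟨⟨h2, -⟩, h3⟩
        exact ⟨h3, h2⟩
      · rintro ⟨h3, h2⟩
        refine ⟨⟨h2, fun l hl => ?_⟩, h3⟩
        exact (card_le_card (inter_subset_inter_left h3)).trans (hHg l hl)
    rw [h1, card_powersetCard, hH6]
    rfl
  rw [sum_congr rfl hLft, sum_congr rfl hR] at key
  simp only [sum_const, smul_eq_mul, h4] at key
  omega

/-- In a Steiner system `S(2,5,21)`: from `1120` triangles to `2520` quadrangles. -/
theorem ind4_count {α : Type*} [Fintype α] [DecidableEq α] (hα : Fintype.card α = 21)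
    (L : Set (Finset α)) (hL : Cfsg.IsSteinerSystem 2 5 L)
    (h3 : {T : Finset α | T.card = 3 ∧ ∀ l ∈ L, (l ∩ T).card ≤ 2}.ncard = 1120) :
    {S : Finset α | S.card = 4 ∧ ∀ l ∈ L, (l ∩ S).card ≤ 2}.ncard = 2520 := by
  classical
  obtain ⟨hcard, huniq⟩ := hL
  let G3 : Finset (Finset α) :=
    (univ.powersetCard 3).filter (fun T => ∀ l ∈ L, (l ∩ T).card ≤ 2)
  let G4 : Finset (Finset α) :=
    (univ.powersetCard 4).filter (fun T => ∀ l ∈ L, (l ∩ T).card ≤ 2)
  have hG3 : {S : Finset α | S.card = 3 ∧ ∀ l ∈ L, (l ∩ S).card ≤ 2} = ↑G3 := by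
    ext T
    simp [G3, mem_powersetCard]
  have hG4 : {S : Finset α | S.card = 4 ∧ ∀ l ∈ L, (l ∩ S).card ≤ 2} = ↑G4 := by
    ext T
    simp [G4, mem_powersetCard]
  rw [hG3, Set.ncard_coe_finset] at h3
  rw [hG4, Set.ncard_coe_finset]
  have m3 : ∀ S : Finset α, S ∈ G3 ↔ (S.card = 3 ∧ ∀ l ∈ L, (l ∩ S).card ≤ 2) := by
    intro S
    simp [G3, mem_powersetCard]
  have m4 : ∀ S : Finset α, S ∈ G4 ↔ (S.card = 4 ∧ ∀ l ∈ L, (l ∩ S).card ≤ 2) := by
    intro S
    simp [G4, mem_powersetCard]
  -- two lines sharing two distinct points are equal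
  have hline2 : ∀ l ∈ L, ∀ l' ∈ L, ∀ x y : α, x ≠ y → x ∈ l → y ∈ l → x ∈ l' → y ∈ l' → l = l' := by
    intro l hl l' hl' x y hxy hx hy hx' hy'
    have hc : ({x, y} : Finset α).card = 2 := card_pair hxy
    obtain ⟨b, -, hb⟩ := huniq {x, y} hc
    have e1 : l = b := hb l ⟨hl, by
      intro z hz
      rcases mem_insert.1 hz with rfl | hz
      · exact hx
      · rw [mem_singleton.1 hz]; exact hy⟩
    have e2 : l' = b := hb l' ⟨hl', by
      intro z hz
      rcases mem_insert.1 hz with rfl | hz
      · exact hx'
      · rw [mem_singleton.1 hz]; exact hy'⟩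
    rw [e1, e2]
  have key := Finset.sum_card_bipartiteAbove_eq_sum_card_bipartiteBelow (s := G3) (t := G4)
    (fun T S => T ⊆ S)
  have hR : ∀ S ∈ G4, (G3.bipartiteBelow (fun T S => T ⊆ S) S).card = 4 := by
    intro S hS
    obtain ⟨hS4, hSg⟩ := (m4 S).1 hS
    have h1 : G3.bipartiteBelow (fun T S => T ⊆ S) S = S.powersetCard 3 := by
      ext T
      simp only [Finset.bipartiteBelow, mem_filter, mem_powersetCard, m3]
      constructor
      · rintro ⟨⟨h2, -⟩, h3⟩
        exact ⟨h3, h2⟩
      · rintro ⟨h3, h2⟩
        refine ⟨⟨h2, fun l hl => ?_⟩, h3⟩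
        exact (card_le_card (inter_subset_inter_left h3)).trans (hSg l hl)
    rw [h1, card_powersetCard, hS4]
    rfl
  have hLft : ∀ T ∈ G3, (G4.bipartiteAbove (fun T S => T ⊆ S) T).card = 9 := by
    intro T hT
    obtain ⟨hT3, hTg⟩ := (m3 T).1 hT
    obtain ⟨a, b, c, hab, hac, hbc, rfl⟩ := card_eq_three.1 hT3
    obtain ⟨l1, ⟨hl1, h1s⟩, -⟩ := huniq {a, b} (card_pair hab)
    obtain ⟨l2, ⟨hl2, h2s⟩, -⟩ := huniq {a, c} (card_pair hac)
    obtain ⟨l3, ⟨hl3, h3s⟩, -⟩ := huniq {b, c} (card_pair hbc)
    have ha1 : a ∈ l1 := h1s (by simp)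
    have hb1 : b ∈ l1 := h1s (by simp)
    have ha2 : a ∈ l2 := h2s (by simp)
    have hc2 : c ∈ l2 := h2s (by simp)
    have hb3 : b ∈ l3 := h3s (by simp)
    have hc3 : c ∈ l3 := h3s (by simp)
    -- no line contains a, b, c
    have hno : ∀ l ∈ L, a ∈ l → b ∈ l → c ∈ l → False := by
      intro l hl ha hb hc
      have h := hTg l hl
      have hsub : ({a, b, c} : Finset α) ⊆ l := by
        intro z hz
        simp only [mem_insert, mem_singleton] at hz
        rcases hz with rfl | rfl | rfl
        · exact ha
        · exact hb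
        · exact hc
      rw [inter_eq_right.2 hsub, hT3] at h
      omega
    have hc1 : c ∉ l1 := fun h => hno l1 hl1 ha1 hb1 h
    have hb2 : b ∉ l2 := fun h => hno l2 hl2 ha2 h hc2
    have ha3 : a ∉ l3 := fun h => hno l3 hl3 h hb3 hc3
    have i12 : l1 ∩ l2 = {a} := by
      ext x
      simp only [mem_inter, mem_singleton]
      constructor
      · rintro ⟨hx1, hx2⟩
        by_contra hxa
        have e := hline2 l1 hl1 l2 hl2 a x (fun h => hxa h.symm) ha1 hx1 ha2 hx2
        exact hc1 (e ▸ hc2)
      · rintro rfl
        exact ⟨ha1, ha2⟩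
    have i13 : l1 ∩ l3 = {b} := by
      ext x
      simp only [mem_inter, mem_singleton]
      constructor
      · rintro ⟨hx1, hx3⟩
        by_contra hxb
        have e := hline2 l1 hl1 l3 hl3 b x (fun h => hxb h.symm) hb1 hx1 hb3 hx3
        exact hc1 (e ▸ hc3)
      · rintro rfl
        exact ⟨hb1, hb3⟩
    have i23 : l2 ∩ l3 = {c} := by
      ext x
      simp only [mem_inter, mem_singleton]
      constructor
      · rintro ⟨hx2, hx3⟩
        by_contra hxc
        have e := hline2 l2 hl2 l3 hl3 c x (fun h => hxc h.symm) hc2 hx2 hc3 hx3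
        exact hb2 (e ▸ hb3)
      · rintro rfl
        exact ⟨hc2, hc3⟩
    have c12 : (l1 ∪ l2).card = 9 := by
      have h := card_union_add_card_inter l1 l2
      rw [i12, card_singleton, hcard l1 hl1, hcard l2 hl2] at h
      omega
    have i123 : (l1 ∪ l2) ∩ l3 = {b, c} := by
      rw [union_inter_distrib_right, i13, i23]
      rfl
    have cU : (l1 ∪ l2 ∪ l3).card = 12 := by
      have h := card_union_add_card_inter (l1 ∪ l2) l3
      rw [i123, card_pair hbc, c12, hcard l3 hl3] at h
      omega
    have hTU : ({a, b, c} : Finset α) ⊆ l1 ∪ l2 ∪ l3 := by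
      intro z hz
      simp only [mem_insert, mem_singleton] at hz
      simp only [mem_union]
      rcases hz with rfl | rfl | rfl
      · exact Or.inl (Or.inl ha1)
      · exact Or.inl (Or.inl hb1)
      · exact Or.inr hc3
    -- a line through two points of T is one of the three
    have hthree : ∀ l ∈ L, 2 ≤ (l ∩ ({a, b, c} : Finset α)).card → l = l1 ∨ l = l2 ∨ l = l3 := by
      intro l hl h2
      by_cases ha : a ∈ l
      · by_cases hb : b ∈ l
        · exact Or.inl (hline2 l hl l1 hl1 a b hab ha hb ha1 hb1)
        · by_cases hc : c ∈ l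
          · exact Or.inr (Or.inl (hline2 l hl l2 hl2 a c hac ha hc ha2 hc2))
          · exfalso
            have hsub : l ∩ ({a, b, c} : Finset α) ⊆ {a} := by
              intro z hz
              rw [mem_inter] at hz
              simp only [mem_insert, mem_singleton] at hz
              rcases hz.2 with rfl | rfl | rfl
              · exact mem_singleton_self _
              · exact absurd hz.1 hb
              · exact absurd hz.1 hc
            have := card_le_card hsub
            rw [card_singleton] at this
            omega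
      · by_cases hb : b ∈ l
        · by_cases hc : c ∈ l
          · exact Or.inr (Or.inr (hline2 l hl l3 hl3 b c hbc hb hc hb3 hc3))
          · exfalso
            have hsub : l ∩ ({a, b, c} : Finset α) ⊆ {b} := by
              intro z hz
              rw [mem_inter] at hz
              simp only [mem_insert, mem_singleton] at hz
              rcases hz.2 with rfl | rfl | rfl
              · exact absurd hz.1 ha
              · exact mem_singleton_self _
              · exact absurd hz.1 hc
            have := card_le_card hsub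
            rw [card_singleton] at this
            omega
        · exfalso
          have hsub : l ∩ ({a, b, c} : Finset α) ⊆ {c} := by
            intro z hz
            rw [mem_inter] at hz
            simp only [mem_insert, mem_singleton] at hz
            rcases hz.2 with rfl | rfl | rfl
            · exact absurd hz.1 ha
            · exact absurd hz.1 hb
            · exact mem_singleton_self _
          have := card_le_card hsub
          rw [card_singleton] at this
          omega
    have h1 : G4.bipartiteAbove (fun T S => T ⊆ S) ({a, b, c} : Finset α) =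
        (univ \ (l1 ∪ l2 ∪ l3)).image (fun r => insert r ({a, b, c} : Finset α)) := by
      ext S
      simp only [Finset.bipartiteAbove, mem_filter, mem_image, mem_sdiff, mem_univ, true_and, m4]
      constructor
      · rintro ⟨⟨hS4, hSg⟩, hTS⟩
        have hc1' : (S \ ({a, b, c} : Finset α)).card = 1 := by
          rw [card_sdiff_of_subset hTS, hS4, hT3]
        obtain ⟨r, hr⟩ := card_eq_one.1 hc1'
        have hrS : r ∈ S \ ({a, b, c} : Finset α) := by rw [hr]; exact mem_singleton_self r
        have hrT : r ∉ ({a, b, c} : Finset α) := (mem_sdiff.1 hrS).2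
        have hSeq : insert r ({a, b, c} : Finset α) = S := by
          ext x
          rw [mem_insert]
          constructor
          · rintro (rfl | hx)
            · exact (mem_sdiff.1 hrS).1
            · exact hTS hx
          · intro hx
            by_cases hxe : x ∈ ({a, b, c} : Finset α)
            · exact Or.inr hxe
            · have hx' : x ∈ S \ ({a, b, c} : Finset α) := mem_sdiff.2 ⟨hx, hxe⟩
              rw [hr, mem_singleton] at hx'
              exact Or.inl hx'
        refine ⟨r, ?_, hSeq⟩
        intro hrU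
        -- r on a line l_i which meets T in 2 points: then l_i ∩ S has ≥ 3 points
        have hbad : ∀ l ∈ L, r ∈ l → 2 ≤ (l ∩ ({a, b, c} : Finset α)).card → False := by
          intro l hl hrl h2
          have h := hSg l hl
          have hsub : insert r (l ∩ ({a, b, c} : Finset α)) ⊆ l ∩ S := by
            intro z hz
            rcases mem_insert.1 hz with rfl | hz
            · exact mem_inter.2 ⟨hrl, (mem_sdiff.1 hrS).1⟩
            · exact mem_inter.2 ⟨(mem_inter.1 hz).1, hTS (mem_inter.1 hz).2⟩
          have hcard' := card_le_card hsub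
          rw [card_insert_of_notMem (fun h => hrT (mem_inter.1 h).2)] at hcard'
          omega
        have two1 : 2 ≤ (l1 ∩ ({a, b, c} : Finset α)).card := by
          have hsub : ({a, b} : Finset α) ⊆ l1 ∩ ({a, b, c} : Finset α) := by
            intro z hz
            simp only [mem_insert, mem_singleton] at hz
            rcases hz with rfl | rfl
            · exact mem_inter.2 ⟨ha1, by simp⟩
            · exact mem_inter.2 ⟨hb1, by simp⟩
          have := card_le_card hsub
          rwa [card_pair hab] at this
        have two2 : 2 ≤ (l2 ∩ ({a, b, c} : Finset α)).card := by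
          have hsub : ({a, c} : Finset α) ⊆ l2 ∩ ({a, b, c} : Finset α) := by
            intro z hz
            simp only [mem_insert, mem_singleton] at hz
            rcases hz with rfl | rfl
            · exact mem_inter.2 ⟨ha2, by simp⟩
            · exact mem_inter.2 ⟨hc2, by simp⟩
          have := card_le_card hsub
          rwa [card_pair hac] at this
        have two3 : 2 ≤ (l3 ∩ ({a, b, c} : Finset α)).card := by
          have hsub : ({b, c} : Finset α) ⊆ l3 ∩ ({a, b, c} : Finset α) := by
            intro z hz
            simp only [mem_insert, mem_singleton] at hz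
            rcases hz with rfl | rfl
            · exact mem_inter.2 ⟨hb3, by simp⟩
            · exact mem_inter.2 ⟨hc3, by simp⟩
          have := card_le_card hsub
          rwa [card_pair hbc] at this
        simp only [mem_union] at hrU
        rcases hrU with (h | h) | h
        · exact hbad l1 hl1 h two1
        · exact hbad l2 hl2 h two2
        · exact hbad l3 hl3 h two3
      · rintro ⟨r, hrU, rfl⟩
        have hrT : r ∉ ({a, b, c} : Finset α) := fun h => hrU (hTU h)
        refine ⟨⟨by rw [card_insert_of_notMem hrT, hT3], ?_⟩, subset_insert _ _⟩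
        intro l hl
        by_cases hrl : r ∈ l
        · have hle1 : (l ∩ ({a, b, c} : Finset α)).card ≤ 1 := by
            by_contra hgt
            have h2 : 2 ≤ (l ∩ ({a, b, c} : Finset α)).card := by omega
            rcases hthree l hl h2 with rfl | rfl | rfl
            · exact hrU (by simp only [mem_union]; exact Or.inl (Or.inl hrl))
            · exact hrU (by simp only [mem_union]; exact Or.inl (Or.inr hrl))
            · exact hrU (by simp only [mem_union]; exact Or.inr hrl)
          have hsub : l ∩ insert r ({a, b, c} : Finset α) ⊆ insert r (l ∩ ({a, b, c} : Finset α)) := by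
            intro z hz
            rw [mem_inter] at hz
            rcases mem_insert.1 hz.2 with rfl | hz2
            · exact mem_insert_self _ _
            · exact mem_insert_of_mem (mem_inter.2 ⟨hz.1, hz2⟩)
          have h5 := card_le_card hsub
          have h6 := card_insert_le r (l ∩ ({a, b, c} : Finset α))
          omega
        · have hsub : l ∩ insert r ({a, b, c} : Finset α) ⊆ l ∩ ({a, b, c} : Finset α) := by
            intro z hz
            rw [mem_inter] at hz
            rcases mem_insert.1 hz.2 with rfl | hz2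
            · exact absurd hz.1 hrl
            · exact mem_inter.2 ⟨hz.1, hz2⟩
          exact (card_le_card hsub).trans (hTg l hl)
    rw [h1, card_image_of_injOn, card_sdiff_of_subset (subset_univ _), card_univ, hα, cU]
    intro r hr r' hr' heq
    have hrT : r ∉ ({a, b, c} : Finset α) := fun h => (mem_sdiff.1 (mem_coe.1 hr)).2 (hTU h)
    have hmem : r ∈ insert r' ({a, b, c} : Finset α) := by
      have : r ∈ insert r ({a, b, c} : Finset α) := mem_insert_self _ _
      rwa [show insert r ({a, b, c} : Finset α) = insert r' ({a, b, c} : Finset α) from heq] at this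
    rcases mem_insert.1 hmem with h | h
    · exact h
    · exact absurd h hrT
  rw [sum_congr rfl hLft, sum_congr rfl hR] at key
  simp only [sum_const, smul_eq_mul, h3] at key
  omega

end Cfsg.Agent.Lib.helper26.Plane4B
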