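import Mathlib
import Cfsg.Prelude.Def_Sporadic_a
import Cfsg.Agent.Lib.helper28.Plane4

set_option autoImplicit false

namespace Cfsg.Agent.Lib.helper26.Plane4C

open Finset Cfsg Cfsg.Agent.Lib.helper28.Plane4

/-- Through a point off a hyperoval `H` of a plane of order `4` there are at most two lines
missing `H`. -/
theorem free_lines_le_two {α : Type*} [Fintype α] [DecidableEq α] (hα : Fintype.card α = 21)
    (L : Set (Finset α)) (hL : Cfsg.IsSteinerSystem 2 5 L) (H : Finset α)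
    (hH : H.card = 6 ∧ ∀ l ∈ L, (l ∩ H).card ≤ 2) (u : α) (hu : u ∉ H)
    (m1 m2 m3 : Finset α) (h1 : m1 ∈ L) (h2 : m2 ∈ L) (h3 : m3 ∈ L)
    (hu1 : u ∈ m1) (hu2 : u ∈ m2) (hu3 : u ∈ m3)
    (f1 : ∀ x ∈ H, x ∉ m1) (f2 : ∀ x ∈ H, x ∉ m2) (f3 : ∀ x ∈ H, x ∉ m3) :
    m1 = m2 ∨ m1 = m3 ∨ m2 = m3 := by
  classical
  by_contra hne
  push Not at hne
  obtain ⟨h12, h13, h23⟩ := hne
  let Lp : Finset (Finset α) := univ.filter (fun l => l ∈ L ∧ u ∈ l)
  have hLp : ∀ l, l ∈ Lp ↔ l ∈ L ∧ u ∈ l := by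
    intro l
    simp [Lp]
  have hc5 : Lp.card = 5 := card_pencil hα hL u Lp hLp
  let R : Finset (Finset α) := Lp \ {m1, m2, m3}
  have hsub3 : ({m1, m2, m3} : Finset (Finset α)) ⊆ Lp := by
    intro l hl
    simp only [mem_insert, mem_singleton] at hl
    rcases hl with rfl | rfl | rfl
    · exact (hLp _).2 ⟨h1, hu1⟩
    · exact (hLp _).2 ⟨h2, hu2⟩
    · exact (hLp _).2 ⟨h3, hu3⟩
  have hc3 : ({m1, m2, m3} : Finset (Finset α)).card = 3 := by
    rw [card_insert_of_notMem, card_pair h23]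
    simp only [mem_insert, mem_singleton, not_or]
    exact ⟨h12, h13⟩
  have hR : R.card = 2 := by
    show (Lp \ {m1, m2, m3}).card = 2
    rw [card_sdiff_of_subset hsub3, hc5, hc3]
  have hcover : H ⊆ R.biUnion (fun l => l ∩ H) := by
    intro x hx
    have hxu : u ≠ x := fun h => hu (h ▸ hx)
    obtain ⟨l, hl, hul, hxl⟩ := exists_line hL hxu
    rw [mem_biUnion]
    refine ⟨l, ?_, mem_inter.2 ⟨hxl, hx⟩⟩
    show l ∈ Lp \ {m1, m2, m3}
    rw [mem_sdiff]
    refine ⟨(hLp l).2 ⟨hl, hul⟩, ?_⟩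
    simp only [mem_insert, mem_singleton, not_or]
    refine ⟨?_, ?_, ?_⟩
    · rintro rfl
      exact f1 x hx hxl
    · rintro rfl
      exact f2 x hx hxl
    · rintro rfl
      exact f3 x hx hxl
  have hle := card_le_card hcover
  have hle2 : (R.biUnion (fun l => l ∩ H)).card ≤ ∑ l ∈ R, (l ∩ H).card := card_biUnion_le
  have hle3 : ∑ l ∈ R, (l ∩ H).card ≤ ∑ _l ∈ R, 2 := by
    apply sum_le_sum
    intro l hl
    have hlL : l ∈ L := ((hLp l).1 (mem_sdiff.1 hl).1).1
    exact hH.2 l hlL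
  rw [sum_const, hR] at hle3
  rw [hH.1] at hle
  simp only [smul_eq_mul] at hle3
  omega

/-- Five points off a hyperoval, any two of which span a line missing the hyperoval, form a
line. -/
theorem ext_collinear {α : Type*} [Fintype α] [DecidableEq α] (hα : Fintype.card α = 21)
    (L : Set (Finset α)) (hL : Cfsg.IsSteinerSystem 2 5 L) (H : Finset α)
    (hH : H.card = 6 ∧ ∀ l ∈ L, (l ∩ H).card ≤ 2) (X : Finset α) (hX5 : X.card = 5)
    (hXH : ∀ u ∈ X, u ∉ H)
    (hX : ∀ u ∈ X, ∀ v ∈ X, u ≠ v → ∀ l ∈ L, u ∈ l → v ∈ l → ∀ x ∈ H, x ∉ l) : X ∈ L := by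
  classical
  -- any three distinct points of `X` are collinear
  have hcol : ∀ a ∈ X, ∀ b ∈ X, ∀ c ∈ X, a ≠ b → a ≠ c → b ≠ c →
      ∀ l ∈ L, a ∈ l → b ∈ l → c ∈ l := by
    intro a ha b hb c hc hab hac hbc l hl hal hbl
    by_contra hcl
    -- a fourth point
    have h4 : ∃ d ∈ X, d ≠ a ∧ d ≠ b ∧ d ≠ c := by
      by_contra hno
      push Not at hno
      have hsub : X ⊆ {a, b, c} := by
        intro d hd
        simp only [mem_insert, mem_singleton]
        by_cases h1 : d = a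
        · exact Or.inl h1
        · by_cases h2 : d = b
          · exact Or.inr (Or.inl h2)
          · exact Or.inr (Or.inr (hno d hd h1 h2))
      have := card_le_card hsub
      have h3 : ({a, b, c} : Finset α).card ≤ 3 := card_le_three
      omega
    obtain ⟨d, hd, hda, hdb, hdc⟩ := h4
    obtain ⟨lac, hlac, hac1, hac2⟩ := exists_line hL hac
    obtain ⟨lbc, hlbc, hbc1, hbc2⟩ := exists_line hL hbc
    obtain ⟨lad, hlad, had1, had2⟩ := exists_line hL (Ne.symm hda)
    obtain ⟨lbd, hlbd, hbd1, hbd2⟩ := exists_line hL (Ne.symm hdb)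
    obtain ⟨lcd, hlcd, hcd1, hcd2⟩ := exists_line hL (Ne.symm hdc)
    -- l = line ab; b ∉ lac, a ∉ lbc
    have hb_ac : b ∉ lac := by
      intro h
      have e : l = lac := line_unique hL hl hlac hab hal hbl hac1 h
      exact hcl (e ▸ hac2)
    have ha_bc : a ∉ lbc := by
      intro h
      have e : l = lbc := line_unique hL hl hlbc hab hal hbl h hbc1
      exact hcl (e ▸ hbc2)
    -- through a: l, lac, lad
    have Pa : d ∈ l ∨ d ∈ lac := by
      rcases free_lines_le_two hα L hL H hH a (hXH a ha) l lac lad hl hlac hlad hal hac1 had1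
        (hX a ha b hb hab l hl hal hbl) (hX a ha c hc hac lac hlac hac1 hac2)
        (hX a ha d hd (Ne.symm hda) lad hlad had1 had2) with e | e | e
      · exact absurd (e ▸ hbl) hb_ac
      · exact Or.inl (e ▸ had2)
      · exact Or.inr (e ▸ had2)
    -- through b: l, lbc, lbd
    have Pb : d ∈ l ∨ d ∈ lbc := by
      rcases free_lines_le_two hα L hL H hH b (hXH b hb) l lbc lbd hl hlbc hlbd hbl hbc1 hbd1
        (hX a ha b hb hab l hl hal hbl) (hX b hb c hc hbc lbc hlbc hbc1 hbc2)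
        (hX b hb d hd (Ne.symm hdb) lbd hlbd hbd1 hbd2) with e | e | e
      · exact absurd (e ▸ hal) ha_bc
      · exact Or.inl (e ▸ hbd2)
      · exact Or.inr (e ▸ hbd2)
    -- through c: lac, lbc, lcd
    have Pc : d ∈ lac ∨ d ∈ lbc := by
      rcases free_lines_le_two hα L hL H hH c (hXH c hc) lac lbc lcd hlac hlbc hlcd hac2 hbc2 hcd1
        (hX a ha c hc hac lac hlac hac1 hac2) (hX b hb c hc hbc lbc hlbc hbc1 hbc2)
        (hX c hc d hd (Ne.symm hdc) lcd hlcd hcd1 hcd2) with e | e | e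
      · exact absurd (e ▸ hac1) ha_bc
      · exact Or.inl (e ▸ hcd2)
      · exact Or.inr (e ▸ hcd2)
    -- d lies on two of the three lines: contradiction
    have k1 : d ∈ l → d ∈ lac → False := by
      intro h1 h2
      have e : l = lac := line_unique hL hl hlac (Ne.symm hda) hal h1 hac1 h2
      exact hcl (e ▸ hac2)
    have k2 : d ∈ l → d ∈ lbc → False := by
      intro h1 h2
      have e : l = lbc := line_unique hL hl hlbc (Ne.symm hdb) hbl h1 hbc1 h2
      exact hcl (e ▸ hbc2)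
    have k3 : d ∈ lac → d ∈ lbc → False := by
      intro h1 h2
      have e : lac = lbc := line_unique hL hlac hlbc (Ne.symm hdc) hac2 h1 hbc2 h2
      exact ha_bc (e ▸ hac1)
    rcases Pa with h | h
    · rcases Pb with h' | h'
      · rcases Pc with h'' | h''
        · exact k1 h h''
        · exact k2 h h''
      · exact k2 h h'
    · rcases Pb with h' | h'
      · exact k1 h' h
      · exact k3 h h'
  -- pick two points
  obtain ⟨a, ha⟩ : X.Nonempty := card_pos.1 (by omega)
  obtain ⟨b, hb, hba⟩ := exists_mem_ne (by omega : 1 < X.card) a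
  have hab : a ≠ b := Ne.symm hba
  obtain ⟨m, hm, ham, hbm⟩ := exists_line hL hab
  have hXm : X ⊆ m := by
    intro c hc
    by_cases hca : c = a
    · rw [hca]; exact ham
    · by_cases hcb : c = b
      · rw [hcb]; exact hbm
      · exact hcol a ha b hb c hc hab (Ne.symm hca) (Ne.symm hcb) m hm ham hbm
  have hm5 : m.card = 5 := hL.1 m hm
  have : X = m := eq_of_subset_of_card_le hXm (by rw [hm5, hX5])
  rw [this]
  exact hm

end Cfsg.Agent.Lib.helper26.Plane4C
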