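import Mathlib
import Cfsg.Agent.Lib.helper1.PGroup

/-!
# A fixed-point-free transfer argument (helper26)

`fpf_contra`: let `G` be a finite `p`-group, `R ⊴ G`, `Hq` a `p'`-group of automorphisms
of `R` normalized by the conjugation action of `G`, with `[R, Hq] ≤ Qg ≤ Φ(G)`, `Qg ⊴ G`,
such that no nontrivial element of `Hq` commutes with conjugation by an element outside `R`.
Then `Hq = 1`.
-/

namespace Cfsg.Agent.Lib.helper26

section Transfer

theorem transfer_of_mem_normal {G : Type*} [Group G] {H : Subgroup G} [hH : H.Normal]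
    [H.FiniteIndex] {A : Type*} [CommGroup A] (ϕ : H →* A) (T : H.LeftTransversal) (g : G)
    (hg : g ∈ H) :
    letI := H.fintypeQuotientOfFiniteIndex
    MonoidHom.transfer ϕ g = ∏ q : G ⧸ H,
      ϕ ⟨(T.2.leftQuotientEquiv q : G)⁻¹ * g * (T.2.leftQuotientEquiv q : G),
        hH.conj_mem' g hg _⟩ := by
  rw [MonoidHom.transfer_def ϕ T g]
  unfold Subgroup.leftTransversals.diff
  apply Finset.prod_congr rfl
  intro q _
  congr 1
  apply Subtype.ext
  show (T.2.leftQuotientEquiv q : G)⁻¹ * ((g • T).2.leftQuotientEquiv q : G) = _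
  rw [Subgroup.smul_apply_eq_smul_apply_inv_smul]
  have h1 : g⁻¹ • q = q := by
    induction q using QuotientGroup.induction_on with
    | H x =>
      show ((g⁻¹ * x : G) : G ⧸ H) = x
      rw [QuotientGroup.eq]
      have h2 : (g⁻¹ * x)⁻¹ * x = x⁻¹ * g * x := by group
      rw [h2]
      exact hH.conj_mem' g hg x
  rw [h1, smul_eq_mul]
  exact (mul_assoc _ _ _).symm

theorem eq_one_of_pow_coprime {M : Type*} [Monoid M] {x : M} {a b : ℕ} (ha : x ^ a = 1)
    (hb : x ^ b = 1) (hab : a.Coprime b) : x = 1 :=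
  orderOf_eq_one_iff.1 (Nat.eq_one_of_dvd_coprimes hab (orderOf_dvd_of_pow_eq_one ha)
    (orderOf_dvd_of_pow_eq_one hb))

/-- images of Frattini elements under a hom to an abelian group are `p`-th powers -/
theorem exists_pow_eq_of_mem_frattini {G : Type*} [Group G] [Finite G] (p : ℕ) [Fact p.Prime]
    {A : Type*} [CommGroup A] (τ : G →* A) (x : G) (hx : x ∈ frattini G) :
    ∃ y : A, y ^ p = τ x := by
  have hle : frattini G ≤ (powMonoidHom p : A →* A).range.comap τ := by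
    haveI : ((powMonoidHom p : A →* A).range.comap τ).Normal :=
      Subgroup.Normal.comap (Subgroup.normal_of_comm _) τ
    apply Cfsg.Agent.Lib.helper1.frattini_le_of_elementary_quotient p
    · refine le_trans ?_ (Subgroup.comap_mono (f := τ) bot_le)
      exact (Abelianization.commutator_subset_ker τ)
    · intro g
      refine ⟨τ g, ?_⟩
      simp
  obtain ⟨y, hy⟩ := hle hx
  exact ⟨y, hy⟩

end Transfer

section FPF

variable {G : Type*} [Group G] (R : Subgroup G)

/-- the commutative group structure on the center (used as a local instance) -/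
@[reducible] def cenCommGroup : CommGroup (Subgroup.center R) :=
  { (inferInstance : Group (Subgroup.center R)) with
    mul_comm := fun a b => Subtype.ext (Subgroup.mem_center_iff.1 b.2 a.1) }

attribute [local instance] cenCommGroup

/-- restriction of an automorphism to the center -/
def cenRes (α : MulAut R) : Subgroup.center R →* Subgroup.center R :=
  (α.toMonoidHom.comp (Subgroup.center R).subtype).codRestrict (Subgroup.center R) (by
    intro z
    have h := (Subgroup.centerCharacteristic (G := R)).fixed α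
    have h2 : (z : R) ∈ (Subgroup.center R).comap α.toMonoidHom := by rw [h]; exact z.2
    exact h2)

theorem cenRes_coe (α : MulAut R) (z : Subgroup.center R) :
    ((cenRes R α z : Subgroup.center R) : R) = α z := rfl

theorem cenRes_mul (α β : MulAut R) (z : Subgroup.center R) :
    cenRes R (α * β) z = cenRes R α (cenRes R β z) := rfl

theorem cenRes_one (z : Subgroup.center R) : cenRes R 1 z = z := rfl

/-- the hom `r ↦ r⁻¹ h(r)` when it lands in the center -/
def commHom (h : MulAut R) (hh : ∀ r : R, r⁻¹ * h r ∈ Subgroup.center R) :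
    R →* Subgroup.center R :=
  MonoidHom.mk' (fun r => ⟨r⁻¹ * h r, hh r⟩) (by
    intro a b
    apply Subtype.ext
    show (a * b)⁻¹ * h (a * b) = (a⁻¹ * h a) * (b⁻¹ * h b)
    have h1 : b⁻¹ * (a⁻¹ * h a) = (a⁻¹ * h a) * b⁻¹ := (Subgroup.mem_center_iff.1 (hh a) b⁻¹)
    rw [map_mul, mul_inv_rev]
    calc b⁻¹ * a⁻¹ * (h a * h b) = (b⁻¹ * (a⁻¹ * h a)) * h b := by group
      _ = _ := by rw [h1]; group)

theorem commHom_coe (h : MulAut R) (hh : ∀ r : R, r⁻¹ * h r ∈ Subgroup.center R) (r : R) :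
    ((commHom R h hh r : Subgroup.center R) : R) = r⁻¹ * h r := rfl

end FPF


section FPFMain

variable {G : Type*} [Group G] [Finite G] {p : ℕ} [Fact p.Prime] {R : Subgroup G} [R.Normal]
  {Hq : Subgroup (MulAut R)}

attribute [local instance] cenCommGroup

theorem fpf_comm_mem_center (hG : IsPGroup p G) (hcop : (Nat.card Hq).Coprime p)
    (ha : ∀ g : G, ∀ h ∈ Hq, MulAut.conjNormal g * h * (MulAut.conjNormal g)⁻¹ ∈ Hq)
    (h : MulAut R) (hh : h ∈ Hq) (r : R) : r⁻¹ * h r ∈ Subgroup.center R := by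
  have hc1 : ∀ (s : R) (z : R), MulAut.conjNormal (s : G) z = s * z * s⁻¹ := by
    intro s z
    apply Subtype.ext
    rw [MulAut.conjNormal_apply]
    rfl
  set y : R := r * (h r)⁻¹ with hy
  have hu : MulAut.conjNormal (r : G) * h * (MulAut.conjNormal (r : G))⁻¹ * h⁻¹
      = MulAut.conjNormal (y : G) := by
    apply MulEquiv.ext
    intro x
    have e1 : (MulAut.conjNormal (r : G) : MulAut R)⁻¹ = MulAut.conjNormal ((r⁻¹ : R) : G) := by
      rw [← map_inv]; rfl
    rw [e1]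
    show MulAut.conjNormal (r : G) (h (MulAut.conjNormal ((r⁻¹ : R) : G) (h⁻¹ x))) = _
    rw [hc1, hc1, hc1, map_mul, map_mul, MulAut.apply_inv_self, hy, map_inv, inv_inv]
    group
  have huH : MulAut.conjNormal (r : G) * h * (MulAut.conjNormal (r : G))⁻¹ * h⁻¹ ∈ Hq :=
    Hq.mul_mem (ha r h hh) (Hq.inv_mem hh)
  rw [hu] at huH
  have h1 : (MulAut.conjNormal (y : G) : MulAut R) ^ Nat.card Hq = 1 := by
    have := pow_card_eq_one' (G := Hq) (x := ⟨_, huH⟩)
    exact congrArg Subtype.val this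
  obtain ⟨k, hk⟩ := hG (y : G)
  have h2 : (MulAut.conjNormal (y : G) : MulAut R) ^ p ^ k = 1 := by
    rw [← map_pow, hk, map_one]
  have h3 : (MulAut.conjNormal (y : G) : MulAut R) = 1 :=
    eq_one_of_pow_coprime h1 h2 (Nat.Coprime.pow_right k hcop)
  have hycen : y ∈ Subgroup.center R := by
    rw [Subgroup.mem_center_iff]
    intro x
    have h4 : MulAut.conjNormal (y : G) x = x := by rw [h3]; rfl
    rw [hc1] at h4
    calc x * y = (y * x * y⁻¹) * y := by rw [h4]
      _ = y * x := by group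
  have h5 : r⁻¹ * h r = r⁻¹ * y⁻¹ * r := by rw [hy]; group
  rw [h5]
  have hN : (Subgroup.center R).Normal := inferInstance
  exact hN.conj_mem' _ ((Subgroup.center R).inv_mem hycen) r

variable [Fintype Hq] (hcen : ∀ h ∈ Hq, ∀ r : R, r⁻¹ * h r ∈ Subgroup.center R)

/-- `r ↦ r⁻¹ h(r)` for `h ∈ Hq` -/
def fpfDelta (h : Hq) : R →* Subgroup.center R := commHom R h.1 (hcen h.1 h.2)

/-- the product of all `fpfDelta` -/
def fpfPhi : R →* Subgroup.center R := ∏ h : Hq, fpfDelta hcen h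

/-- the norm map of `Hq` on the center -/
def fpfSigma (Hq : Subgroup (MulAut R)) [Fintype Hq] : Subgroup.center R →* Subgroup.center R :=
  ∏ h : Hq, cenRes R h.1

/-- the subgroup of the center on which the argument runs -/
def fpfV (Hq : Subgroup (MulAut R)) [Fintype Hq] (Qg : Subgroup G) :
    Subgroup (Subgroup.center R) :=
  ((Qg.subgroupOf R).subgroupOf (Subgroup.center R)) ⊓ (fpfSigma Hq).ker

theorem fpfSigma_apply (z : Subgroup.center R) : fpfSigma Hq z = ∏ h : Hq, cenRes R h.1 z :=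
  MonoidHom.finset_prod_apply _ _ _

theorem fpfPhi_apply (r : R) : fpfPhi hcen r = ∏ h : Hq, fpfDelta hcen h r :=
  MonoidHom.finset_prod_apply _ _ _

theorem mem_fpfV {Qg : Subgroup G} {z : Subgroup.center R} :
    z ∈ fpfV Hq Qg ↔ ((z : R) : G) ∈ Qg ∧ ∏ h : Hq, cenRes R h.1 z = 1 := by
  unfold fpfV
  rw [Subgroup.mem_inf, MonoidHom.mem_ker, fpfSigma_apply, Subgroup.mem_subgroupOf,
    Subgroup.mem_subgroupOf]

theorem fpfDelta_mem_V (Qg : Subgroup G)
    (hb : ∀ h ∈ Hq, ∀ r : R, ((r⁻¹ * h r : R) : G) ∈ Qg) (h : Hq) (r : R) :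
    fpfDelta hcen h r ∈ fpfV Hq Qg := by
  rw [mem_fpfV]
  refine ⟨hb h.1 h.2 r, ?_⟩
  have key : ∀ k : Hq, cenRes R k.1 (fpfDelta hcen h r)
      = (fpfDelta hcen k r)⁻¹ * fpfDelta hcen (k * h) r := by
    intro k
    apply Subtype.ext
    show k.1 (r⁻¹ * h.1 r) = (r⁻¹ * k.1 r)⁻¹ * (r⁻¹ * k.1 (h.1 r))
    rw [map_mul, map_inv]
    group
  rw [Finset.prod_congr rfl (fun k _ => key k), Finset.prod_mul_distrib, Finset.prod_inv_distrib]
  rw [Fintype.prod_equiv (Equiv.mulRight h) (fun k => fpfDelta hcen (k * h) r)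
    (fun k => fpfDelta hcen k r) (fun k => rfl)]
  exact inv_mul_cancel _

theorem cenRes_mem_V (Qg : Subgroup G)
    (hb : ∀ h ∈ Hq, ∀ r : R, ((r⁻¹ * h r : R) : G) ∈ Qg) (k : Hq) (v : Subgroup.center R)
    (hv : v ∈ fpfV Hq Qg) : cenRes R k.1 v ∈ fpfV Hq Qg := by
  rw [mem_fpfV] at hv ⊢
  refine ⟨?_, ?_⟩
  · have h1 := hb k.1 k.2 (v : R)
    have h2 : ((cenRes R k.1 v : Subgroup.center R) : R) = (v : R) * ((v : R)⁻¹ * k.1 v) := by
      rw [cenRes_coe]; group
    rw [h2]
    exact Qg.mul_mem hv.1 h1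
  · rw [← hv.2]
    exact Fintype.prod_equiv (Equiv.mulRight k) _ _ (fun h => rfl)

/-- conjugation by `g` as a permutation of `Hq` -/
def fpfConjEquiv
    (ha : ∀ g : G, ∀ h ∈ Hq, MulAut.conjNormal g * h * (MulAut.conjNormal g)⁻¹ ∈ Hq) (g : G) :
    Hq ≃ Hq where
  toFun h := ⟨MulAut.conjNormal g * h.1 * (MulAut.conjNormal g)⁻¹, ha g h.1 h.2⟩
  invFun h := ⟨(MulAut.conjNormal g)⁻¹ * h.1 * (MulAut.conjNormal g), by
    have := ha g⁻¹ h.1 h.2
    rw [map_inv, inv_inv] at this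
    exact this⟩
  left_inv h := by
    apply Subtype.ext
    show (MulAut.conjNormal g)⁻¹ * (MulAut.conjNormal g * h.1 * (MulAut.conjNormal g)⁻¹)
      * (MulAut.conjNormal g) = h.1
    group
  right_inv h := by
    apply Subtype.ext
    show (MulAut.conjNormal g) * ((MulAut.conjNormal g)⁻¹ * h.1 * (MulAut.conjNormal g))
      * (MulAut.conjNormal g)⁻¹ = h.1
    group

theorem conj_mem_V
    (ha : ∀ g : G, ∀ h ∈ Hq, MulAut.conjNormal g * h * (MulAut.conjNormal g)⁻¹ ∈ Hq)
    (Qg : Subgroup G) [hQn : Qg.Normal] (g : G) (v : Subgroup.center R)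
    (hv : v ∈ fpfV Hq Qg) : cenRes R (MulAut.conjNormal g) v ∈ fpfV Hq Qg := by
  rw [mem_fpfV] at hv ⊢
  refine ⟨?_, ?_⟩
  · rw [cenRes_coe, MulAut.conjNormal_apply]
    exact hQn.conj_mem _ hv.1 g
  · have key : ∀ h : Hq, cenRes R (fpfConjEquiv ha g h).1 (cenRes R (MulAut.conjNormal g) v)
        = cenRes R (MulAut.conjNormal g) (cenRes R h.1 v) := by
      intro h
      have e : (fpfConjEquiv ha g h).1 * MulAut.conjNormal g = MulAut.conjNormal g * h.1 := by
        show MulAut.conjNormal g * h.1 * (MulAut.conjNormal g)⁻¹ * MulAut.conjNormal g = _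
        group
      rw [← cenRes_mul, ← cenRes_mul, e]
    rw [← Fintype.prod_equiv (fpfConjEquiv ha g)
      (fun h => cenRes R (fpfConjEquiv ha g h).1 (cenRes R (MulAut.conjNormal g) v))
      (fun h => cenRes R h.1 (cenRes R (MulAut.conjNormal g) v)) (fun h => rfl)]
    rw [Finset.prod_congr rfl (fun h _ => key h), ← map_prod, hv.2, map_one]

theorem fpfPhi_of_mem_V (Qg : Subgroup G) (v : Subgroup.center R) (hv : v ∈ fpfV Hq Qg) :
    fpfPhi hcen (v : R) = (v ^ Fintype.card Hq)⁻¹ := by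
  rw [mem_fpfV] at hv
  rw [fpfPhi_apply]
  have key : ∀ h : Hq, fpfDelta hcen h (v : R) = v⁻¹ * cenRes R h.1 v :=
    fun h => Subtype.ext rfl
  rw [Finset.prod_congr rfl (fun h _ => key h), Finset.prod_mul_distrib, hv.2, mul_one,
    Finset.prod_const, Finset.card_univ, inv_pow]

theorem fpf_prod_conj
    (ha : ∀ g : G, ∀ h ∈ Hq, MulAut.conjNormal g * h * (MulAut.conjNormal g)⁻¹ ∈ Hq)
    (hc : ∀ g : G, g ∉ R → ∀ h ∈ Hq,
      MulAut.conjNormal g * h = h * MulAut.conjNormal g → h = 1)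
    (Qg : Subgroup G) [Qg.Normal] (g : G) (hg : g ∉ R) (v : Subgroup.center R)
    (hv : v ∈ fpfV Hq Qg) :
    ∏ h : Hq, cenRes R h.1 (cenRes R (MulAut.conjNormal g) (cenRes R (h⁻¹ : Hq).1 v)) = 1 := by
  let κ : Hq → Hq := fun h =>
    ⟨h.1 * (MulAut.conjNormal g * (h⁻¹ : Hq).1 * (MulAut.conjNormal g)⁻¹),
      Hq.mul_mem h.2 (ha g _ (h⁻¹ : Hq).2)⟩
  have hκ : Function.Injective κ := by
    intro h k hhk
    have h1 : h.1 * (MulAut.conjNormal g * (h.1)⁻¹ * (MulAut.conjNormal g)⁻¹)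
        = k.1 * (MulAut.conjNormal g * (k.1)⁻¹ * (MulAut.conjNormal g)⁻¹) :=
      congrArg Subtype.val hhk
    have h3 : h.1 * MulAut.conjNormal g * (h.1)⁻¹ = k.1 * MulAut.conjNormal g * (k.1)⁻¹ := by
      calc h.1 * MulAut.conjNormal g * (h.1)⁻¹
          = (h.1 * (MulAut.conjNormal g * (h.1)⁻¹ * (MulAut.conjNormal g)⁻¹))
            * MulAut.conjNormal g := by group
        _ = (k.1 * (MulAut.conjNormal g * (k.1)⁻¹ * (MulAut.conjNormal g)⁻¹))
            * MulAut.conjNormal g := by rw [h1]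
        _ = _ := by group
    have h2 : MulAut.conjNormal g * (k.1⁻¹ * h.1) = (k.1⁻¹ * h.1) * MulAut.conjNormal g := by
      calc MulAut.conjNormal g * (k.1⁻¹ * h.1)
          = k.1⁻¹ * (k.1 * MulAut.conjNormal g * k.1⁻¹) * h.1 := by group
        _ = k.1⁻¹ * (h.1 * MulAut.conjNormal g * h.1⁻¹) * h.1 := by rw [h3]
        _ = _ := by group
    have h4 := hc g hg (k.1⁻¹ * h.1) (Hq.mul_mem (Hq.inv_mem k.2) h.2) h2
    apply Subtype.ext
    exact (inv_mul_eq_one.1 h4).symm
  have hκb : Function.Bijective κ := Finite.injective_iff_bijective.1 hκ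
  have key : ∀ h : Hq,
      cenRes R h.1 (cenRes R (MulAut.conjNormal g) (cenRes R (h⁻¹ : Hq).1 v))
        = cenRes R (κ h).1 (cenRes R (MulAut.conjNormal g) v) := by
    intro h
    have e : h.1 * MulAut.conjNormal g * (h⁻¹ : Hq).1 = (κ h).1 * MulAut.conjNormal g := by
      show h.1 * MulAut.conjNormal g * (h.1)⁻¹
        = h.1 * (MulAut.conjNormal g * (h.1)⁻¹ * (MulAut.conjNormal g)⁻¹) * MulAut.conjNormal g
      group
    rw [← cenRes_mul, ← cenRes_mul, ← cenRes_mul, e]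
  rw [Finset.prod_congr rfl (fun h _ => key h)]
  rw [Fintype.prod_bijective κ hκb
    (fun h => cenRes R (κ h).1 (cenRes R (MulAut.conjNormal g) v))
    (fun h => cenRes R h.1 (cenRes R (MulAut.conjNormal g) v)) (fun h => rfl)]
  exact ((mem_fpfV).1 (conj_mem_V ha Qg g v hv)).2

theorem cenRes_conj_of_mem (g : G) (hg : g ∈ R) (z : Subgroup.center R) :
    cenRes R (MulAut.conjNormal g) z = z := by
  apply Subtype.ext
  apply Subtype.ext
  rw [cenRes_coe, MulAut.conjNormal_apply]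
  have h1 := Subgroup.mem_center_iff.1 z.2 ⟨g, hg⟩
  have h2 : g * ((z : R) : G) = ((z : R) : G) * g := congrArg Subtype.val h1
  rw [h2]
  group


theorem fpf_transfer_prod
    (ha : ∀ g : G, ∀ h ∈ Hq, MulAut.conjNormal g * h * (MulAut.conjNormal g)⁻¹ ∈ Hq)
    (hc : ∀ g : G, g ∉ R → ∀ h ∈ Hq,
      MulAut.conjNormal g * h = h * MulAut.conjNormal g → h = 1)
    (Qg : Subgroup G) [Qg.Normal]
    (hb : ∀ h ∈ Hq, ∀ r : R, ((r⁻¹ * h r : R) : G) ∈ Qg)
    (v : Subgroup.center R) (hv : v ∈ fpfV Hq Qg) :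
    ∏ h : Hq, cenRes R h.1 (MonoidHom.transfer (fpfPhi hcen)
        (((cenRes R (h⁻¹ : Hq).1 v : Subgroup.center R) : R) : G))
      = ((v ^ Fintype.card Hq) ^ Fintype.card Hq)⁻¹ := by
  classical
  letI := R.fintypeQuotientOfFiniteIndex
  let T : R.LeftTransversal := default
  let t : G ⧸ R → G := fun q => (T.2.leftQuotientEquiv q : G)
  have ht : ∀ q, (t q : G ⧸ R) = q := fun q => T.2.quotientGroupMk_leftQuotientEquiv q
  have step1 : ∀ h : Hq, cenRes R h.1 (MonoidHom.transfer (fpfPhi hcen)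
        (((cenRes R (h⁻¹ : Hq).1 v : Subgroup.center R) : R) : G))
      = ∏ q : G ⧸ R, ((cenRes R h.1 (cenRes R (MulAut.conjNormal (t q)⁻¹)
          (cenRes R (h⁻¹ : Hq).1 v))) ^ Fintype.card Hq)⁻¹ := by
    intro h
    rw [transfer_of_mem_normal (fpfPhi hcen) T _ (cenRes R (h⁻¹ : Hq).1 v : R).2, map_prod]
    apply Finset.prod_congr rfl
    intro q _
    have e1 : (⟨(t q)⁻¹ * (((cenRes R (h⁻¹ : Hq).1 v : Subgroup.center R) : R) : G) * t q,
        (inferInstance : R.Normal).conj_mem' _ (cenRes R (h⁻¹ : Hq).1 v : R).2 _⟩ : R)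
        = ((cenRes R (MulAut.conjNormal (t q)⁻¹) (cenRes R (h⁻¹ : Hq).1 v)
            : Subgroup.center R) : R) := by
      apply Subtype.ext
      show (t q)⁻¹ * _ * t q
        = ((MulAut.conjNormal (t q)⁻¹ (cenRes R (h⁻¹ : Hq).1 v : R) : R) : G)
      rw [MulAut.conjNormal_apply, inv_inv]
    show cenRes R h.1 (fpfPhi hcen ⟨(t q)⁻¹ *
      (((cenRes R (h⁻¹ : Hq).1 v : Subgroup.center R) : R) : G) * t q, _⟩) = _
    rw [e1, fpfPhi_of_mem_V hcen Qg _ (conj_mem_V ha Qg _ _ (cenRes_mem_V Qg hb _ _ hv)),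
      map_inv, map_pow]
  rw [Finset.prod_congr rfl (fun h _ => step1 h), Finset.prod_comm]
  rw [Finset.prod_eq_single ((1 : G) : G ⧸ R)]
  · have htR : (t ((1 : G) : G ⧸ R))⁻¹ ∈ R := by
      apply R.inv_mem
      have h1 := ht ((1 : G) : G ⧸ R)
      exact (QuotientGroup.eq_one_iff _).1 h1
    rw [Finset.prod_inv_distrib, Finset.prod_pow]
    congr 2
    have e2 : ∀ h : Hq, cenRes R h.1 (cenRes R (MulAut.conjNormal (t ((1 : G) : G ⧸ R))⁻¹)
        (cenRes R (h⁻¹ : Hq).1 v)) = v := by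
      intro h
      rw [cenRes_conj_of_mem _ htR, ← cenRes_mul]
      show cenRes R (h.1 * h.1⁻¹) v = v
      rw [mul_inv_cancel]
      rfl
    rw [Finset.prod_congr rfl (fun h _ => e2 h), Finset.prod_const, Finset.card_univ]
  · intro q _ hq
    have htR : (t q)⁻¹ ∉ R := by
      intro hmem
      apply hq
      rw [← ht q]
      exact (QuotientGroup.eq_one_iff _).2 (by simpa using R.inv_mem hmem)
    rw [Finset.prod_inv_distrib, Finset.prod_pow, fpf_prod_conj ha hc Qg _ htR v hv, one_pow,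
      inv_one]
  · intro h
    exact absurd (Finset.mem_univ _) h

include hcen in
theorem fpf_V_eq_bot (hG : IsPGroup p G) (hcop : (Nat.card Hq).Coprime p)
    (ha : ∀ g : G, ∀ h ∈ Hq, MulAut.conjNormal g * h * (MulAut.conjNormal g)⁻¹ ∈ Hq)
    (hc : ∀ g : G, g ∉ R → ∀ h ∈ Hq,
      MulAut.conjNormal g * h = h * MulAut.conjNormal g → h = 1)
    (Qg : Subgroup G) [Qg.Normal] (hQ : Qg ≤ frattini G)
    (hb : ∀ h ∈ Hq, ∀ r : R, ((r⁻¹ * h r : R) : G) ∈ Qg) :
    fpfV Hq Qg = ⊥ := by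
  classical
  have hn : (Fintype.card Hq).Coprime p := by
    rw [← Nat.card_eq_fintype_card]; exact hcop
  have hsurj : ∀ v ∈ fpfV Hq Qg, ∃ w ∈ fpfV Hq Qg, w ^ p = v := by
    intro v hv
    have hy : ∀ h : Hq, ∃ y : Subgroup.center R, y ^ p = MonoidHom.transfer (fpfPhi hcen)
        (((cenRes R (h⁻¹ : Hq).1 v : Subgroup.center R) : R) : G) := by
      intro h
      apply exists_pow_eq_of_mem_frattini p
      apply hQ
      exact ((mem_fpfV).1 (cenRes_mem_V Qg hb _ _ hv)).1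
    choose y hy using hy
    have hYp : (∏ h : Hq, cenRes R h.1 (y h)) ^ p
        = ((v ^ Fintype.card Hq) ^ Fintype.card Hq)⁻¹ := by
      rw [← fpf_transfer_prod hcen ha hc Qg hb v hv, ← Finset.prod_pow]
      apply Finset.prod_congr rfl
      intro h _
      rw [← map_pow, hy]
    have hϕY : fpfPhi hcen ((∏ h : Hq, cenRes R h.1 (y h) : Subgroup.center R) : R)
        ∈ fpfV Hq Qg := by
      rw [fpfPhi_apply]
      exact Subgroup.prod_mem _ (fun h _ => fpfDelta_mem_V hcen Qg hb h _)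
    have hϕv : fpfPhi hcen (v : R) = (v ^ Fintype.card Hq)⁻¹ := fpfPhi_of_mem_V hcen Qg v hv
    have h3 : (fpfPhi hcen ((∏ h : Hq, cenRes R h.1 (y h) : Subgroup.center R) : R)) ^ p
        = v ^ (Fintype.card Hq * Fintype.card Hq * Fintype.card Hq) := by
      have e1 : ((∏ h : Hq, cenRes R h.1 (y h) : Subgroup.center R) : R) ^ p
          = (((v ^ Fintype.card Hq) ^ Fintype.card Hq)⁻¹ : Subgroup.center R) := by
        rw [← hYp]; rfl
      rw [← map_pow, e1]
      have e2 : ((((v ^ Fintype.card Hq) ^ Fintype.card Hq)⁻¹ : Subgroup.center R) : R)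
          = (((v : R) ^ Fintype.card Hq) ^ Fintype.card Hq)⁻¹ := rfl
      rw [e2, map_inv, map_pow, map_pow, hϕv, inv_pow, inv_pow, inv_inv, ← pow_mul, ← pow_mul,
        mul_assoc]
    obtain ⟨k, hk⟩ := hG ((v : R) : G)
    have hvk : v ^ p ^ k = 1 := by
      apply Subtype.ext; apply Subtype.ext; simpa using hk
    have hcop2 : (Fintype.card Hq * Fintype.card Hq * Fintype.card Hq).Coprime (orderOf v) := by
      have h1 : orderOf v ∣ p ^ k := orderOf_dvd_of_pow_eq_one hvk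
      exact Nat.Coprime.coprime_dvd_right h1
        (Nat.Coprime.pow_right k (Nat.Coprime.mul_left (Nat.Coprime.mul_left hn hn) hn))
    obtain ⟨m, hm⟩ := exists_pow_eq_self_of_coprime hcop2
    refine ⟨(fpfPhi hcen ((∏ h : Hq, cenRes R h.1 (y h) : Subgroup.center R) : R)) ^ m,
      Subgroup.pow_mem _ hϕY m, ?_⟩
    rw [← pow_mul, mul_comm, pow_mul, h3, hm]
  rw [Subgroup.eq_bot_iff_forall]
  let f : fpfV Hq Qg → fpfV Hq Qg := fun w => w ^ p
  have hf : Function.Surjective f := by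
    intro v
    obtain ⟨w, hw, hwv⟩ := hsurj v.1 v.2
    exact ⟨⟨w, hw⟩, Subtype.ext hwv⟩
  have hfi : Function.Injective f := Finite.injective_iff_surjective.2 hf
  have hind : ∀ k : ℕ, ∀ v : fpfV Hq Qg, v ^ p ^ k = 1 → v = 1 := by
    intro k
    induction k with
    | zero => intro v hv; simpa using hv
    | succ k ih =>
      intro v hv
      apply ih
      apply hfi
      show (v ^ p ^ k) ^ p = 1 ^ p
      rw [← pow_mul, ← pow_succ, hv, one_pow]
  intro v hv
  obtain ⟨k, hk⟩ := hG ((v : R) : G)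
  have h1 := hind k ⟨v, hv⟩ (by
    apply Subtype.ext; apply Subtype.ext; apply Subtype.ext; simpa using hk)
  exact congrArg Subtype.val h1

end FPFMain

section FPFFinal

variable {G : Type*} [Group G] [Finite G] {p : ℕ} [Fact p.Prime] {R : Subgroup G} [R.Normal]

/-- **Fixed-point-free transfer lemma.** `G` a finite `p`-group, `R ⊴ G`, `Hq` a `p'`-group of
automorphisms of `R` normalized by the conjugation action of `G`, `[R, Hq] ≤ Qg ≤ Φ(G)` with
`Qg ⊴ G`, and no nontrivial element of `Hq` commutes with conjugation by an element outside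
`R`. Then `Hq = ⊥`. -/
theorem fpf_contra (hG : IsPGroup p G) (Hq : Subgroup (MulAut R))
    (hcop : (Nat.card Hq).Coprime p)
    (Qg : Subgroup G) [Qg.Normal] (hQ : Qg ≤ frattini G)
    (ha : ∀ g : G, ∀ h ∈ Hq, MulAut.conjNormal g * h * (MulAut.conjNormal g)⁻¹ ∈ Hq)
    (hb : ∀ h ∈ Hq, ∀ r : R, ((r⁻¹ * h r : R) : G) ∈ Qg)
    (hc : ∀ g : G, g ∉ R → ∀ h ∈ Hq,
      MulAut.conjNormal g * h = h * MulAut.conjNormal g → h = 1) :
    Hq = ⊥ := by
  classical
  haveI : Fintype Hq := Fintype.ofFinite Hq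
  have hcen : ∀ h ∈ Hq, ∀ r : R, r⁻¹ * h r ∈ Subgroup.center R :=
    fun h hh r => fpf_comm_mem_center hG hcop ha h hh r
  have hV := fpf_V_eq_bot hcen hG hcop ha hc Qg hQ hb
  rw [Subgroup.eq_bot_iff_forall]
  intro h hh
  apply MulEquiv.ext
  intro r
  have h1 := fpfDelta_mem_V hcen Qg hb ⟨h, hh⟩ r
  rw [hV, Subgroup.mem_bot] at h1
  have h2 : r⁻¹ * h r = 1 := congrArg Subtype.val h1
  show h r = r
  exact (inv_mul_eq_one.1 h2).symm

end FPFFinal

end Cfsg.Agent.Lib.helper26
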