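import Mathlib
import Cfsg.Agent.Lib.helper25.Realized
import Cfsg.Agent.Lib.helper26.FusionBasic
import Cfsg.Agent.Lib.helper26.TateAux2

set_option autoImplicit false
set_option linter.style.haveILetI false

namespace Cfsg.Agent.Lib.helper26

open Cfsg Cfsg.FusionSystem

section Realized

variable {Ω : Type*} [Group Ω] {T : Subgroup Ω} {G : Type*} [Group G]

theorem realized_inj (ι : T →* G) (hι : Function.Injective ι) {P : Subgroup Ω} {φ : P →* Ω}
    (hP : P ≤ T) (hφ : ∀ x : P, φ x ∈ T) (g : G)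
    (hg : ∀ x : P, ι ⟨φ x, hφ x⟩ = g * ι ⟨x, hP x.2⟩ * g⁻¹) : Function.Injective φ := by
  intro a b hab
  have h1 : ι ⟨φ a, hφ a⟩ = ι ⟨φ b, hφ b⟩ := congrArg ι (Subtype.ext hab)
  rw [hg a, hg b] at h1
  have h2 := hι (mul_left_cancel (mul_right_cancel h1))
  exact Subtype.ext (congrArg (fun w : T => (w : Ω)) h2)

/-- The fusion system over `T` pulled back from conjugation in `G` along an injective `ι`. -/
def realizedSystem (ι : T →* G) (hι : Function.Injective ι) : FusionSystem T where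
  Hom P := {φ | ∃ (hP : P ≤ T) (hφ : ∀ x : P, φ x ∈ T), ∃ g : G,
    ∀ x : P, ι ⟨φ x, hφ x⟩ = g * ι ⟨x, hP x.2⟩ * g⁻¹}
  le_of_mem := by
    rintro P φ ⟨hP, hφ, -⟩
    exact ⟨hP, hφ⟩
  injective_of_mem := by
    rintro P φ ⟨hP, hφ, g, hg⟩
    exact realized_inj ι hι hP hφ g hg
  conj_mem := by
    intro P g hP hg
    have hφ : ∀ x : P, conjHom P g x ∈ T := fun x =>
      T.mul_mem (T.mul_mem hg (hP x.2)) (T.inv_mem hg)
    refine ⟨hP, hφ, ι ⟨g, hg⟩, fun x => ?_⟩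
    rw [← map_inv, ← map_mul, ← map_mul]
    rfl
  comp_mem := by
    rintro P Q φ ψ ⟨hP, hφ, g₁, hg₁⟩ ⟨hQ, hψ, g₂, hg₂⟩ h
    refine ⟨hP, fun x => hψ _, g₂ * g₁, fun x => ?_⟩
    have h1 := hg₂ ⟨φ x, h x⟩
    have h2 := hg₁ x
    show ι ⟨ψ ⟨φ x, h x⟩, _⟩ = _
    rw [h1]
    have h3 : ι ⟨((⟨φ x, h x⟩ : Q) : Ω), hQ (h x)⟩ = ι ⟨φ x, hφ x⟩ := rfl
    rw [h3, h2]
    group
  inv_mem := by
    rintro P φ ⟨hP, hφ, g, hg⟩
    have hinj : Function.Injective φ := realized_inj ι hι hP hφ g hg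
    have he : ∀ x : P, (MonoidHom.ofInjective hinj).symm ⟨φ x, ⟨x, rfl⟩⟩ = x := by
      intro x
      rw [MulEquiv.symm_apply_eq]
      exact Subtype.ext rfl
    refine ⟨P.subtype.comp (MonoidHom.ofInjective hinj).symm.toMonoidHom,
      ⟨?_, ?_, g⁻¹, ?_⟩, ?_⟩
    · rintro _ ⟨x, rfl⟩; exact hφ x
    · intro y; exact hP ((MonoidHom.ofInjective hinj).symm y).2
    · rintro ⟨_, x, rfl⟩
      have h1 := hg x
      have h2 : (⟨(P.subtype.comp (MonoidHom.ofInjective hinj).symm.toMonoidHom)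
          ⟨φ x, ⟨x, rfl⟩⟩, hP ((MonoidHom.ofInjective hinj).symm ⟨φ x, ⟨x, rfl⟩⟩).2⟩ : T)
          = ⟨x, hP x.2⟩ := by
        apply Subtype.ext
        show (((MonoidHom.ofInjective hinj).symm ⟨φ x, ⟨x, rfl⟩⟩ : P) : Ω) = x
        rw [he]
      rw [h2]
      show ι ⟨x, hP x.2⟩ = g⁻¹ * ι ⟨φ x, hφ x⟩ * g⁻¹⁻¹
      rw [h1]
      group
    · intro x
      show (((MonoidHom.ofInjective hinj).symm ⟨φ x, ⟨x, rfl⟩⟩ : P) : Ω) = x
      rw [he]

theorem realizedSystem_isRealizedBy (ι : T →* G) (hι : Function.Injective ι) :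
    (realizedSystem ι hι).IsRealizedBy ι := by
  refine ⟨hι, fun P hP φ hφ => ⟨?_, ?_⟩⟩
  · rintro ⟨_, _, g, hg⟩; exact ⟨g, hg⟩
  · rintro ⟨g, hg⟩; exact ⟨hP, hφ, g, hg⟩

end Realized

section Sparse

variable {Ω : Type*} [Group Ω] {S : Subgroup Ω}

/-- The fusion system of `T ⋊ ⟨γ⟩` on `T`, for `γ ∈ Aut_F(T)` of prime order `q ≠ p`: a saturated
subsystem of `F` over `T` which is not inner. -/
theorem sparse_sub [Finite S] {p : ℕ} [Fact p.Prime] (hS : IsPGroup p S) (F : FusionSystem S)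
    {T : Subgroup Ω} (hTS : T ≤ S) (γ : MulAut T) (hγ : γ ∈ F.autGroup T) {q : ℕ} (hq : q.Prime)
    (hqp : q ≠ p) (hγq : γ ^ q = 1) (hγ1 : γ ≠ 1) :
    ∃ E : FusionSystem T, E.IsSaturated p ∧ E.IsSubsystemOf F ∧
      ¬ (∀ P : Subgroup Ω, E.Hom P = (innerFusionSystem T).Hom P) ∧
      (∀ (P : Subgroup Ω) (φ : P →* Ω), φ ∈ E.Hom P → ∃ (hP : P ≤ T), ∃ t ∈ T,
        ∃ z ∈ Subgroup.zpowers γ, ∀ x : P, φ x = t * ((z ⟨x, hP x.2⟩ : T) : Ω) * t⁻¹) := by
  have hp := (Fact.out : p.Prime)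
  haveI : Finite T := finite_of_le hTS
  have hTp : IsPGroup p T := hS.to_le hTS
  obtain ⟨Z, hZ⟩ : ∃ Z : Subgroup (MulAut T), Z = Subgroup.zpowers γ := ⟨_, rfl⟩
  haveI : Finite (T ⋊[Z.subtype] Z) := Finite.of_equiv _ SemidirectProduct.equivProd.symm
  obtain ⟨ι, hιdef⟩ : ∃ ι : T →* T ⋊[Z.subtype] Z, ι = SemidirectProduct.inl := ⟨_, rfl⟩
  have hι : Function.Injective ι := by rw [hιdef]; exact SemidirectProduct.inl_injective
  have key : ∀ (g : T ⋊[Z.subtype] Z) (x : T),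
      g * ι x * g⁻¹ = ι (g.left * (g.right : MulAut T) x * g.left⁻¹) := by
    intro g x
    rw [hιdef]
    conv_lhs => rw [← SemidirectProduct.inl_left_mul_inr_right g]
    rw [map_mul, map_mul, map_inv]
    have h1 := SemidirectProduct.inl_aut (φ := Z.subtype) g.right x
    have h2 : (SemidirectProduct.inl ((g.right : MulAut T) x) : T ⋊[Z.subtype] Z)
        = SemidirectProduct.inr g.right * SemidirectProduct.inl x
          * SemidirectProduct.inr g.right⁻¹ := h1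
    rw [h2, map_inv]
    group
  have hchar : ∀ (P : Subgroup Ω) (φ : P →* Ω), φ ∈ (realizedSystem ι hι).Hom P →
      ∃ (hP : P ≤ T), ∃ t ∈ T, ∃ z ∈ Subgroup.zpowers γ,
        ∀ x : P, φ x = t * ((z ⟨x, hP x.2⟩ : T) : Ω) * t⁻¹ := by
    rintro P φ ⟨hP, hφ, g, hg⟩
    refine ⟨hP, (g.left : Ω), g.left.2, (g.right : MulAut T), hZ ▸ g.right.2, fun x => ?_⟩
    have h1 := hg x
    rw [key] at h1
    have h2 := hι h1
    exact congrArg Subtype.val h2
  -- Sylow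
  have hcard : Nat.card (T ⋊[Z.subtype] Z) = Nat.card T * Nat.card Z := SemidirectProduct.card
  have hZq : Nat.card Z ∣ q := by
    rw [hZ, Nat.card_zpowers]
    exact orderOf_dvd_of_pow_eq_one hγq
  have hZcop : (Nat.card Z).Coprime p := by
    apply Nat.Coprime.coprime_dvd_left hZq
    exact (Nat.coprime_primes hq hp).2 hqp
  have hrp : IsPGroup p ι.range := by
    have e : T ≃* ι.range := MonoidHom.ofInjective hι
    exact hTp.of_equiv e
  obtain ⟨Q, hQ⟩ := hrp.exists_le_sylow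
  have hQeq : (Q : Subgroup (T ⋊[Z.subtype] Z)) = ι.range := by
    symm
    apply Subgroup.eq_of_le_of_card_ge hQ
    have h1 : Nat.card (Q : Subgroup (T ⋊[Z.subtype] Z)) ∣ Nat.card T * Nat.card Z :=
      hcard ▸ Subgroup.card_subgroup_dvd_card _
    obtain ⟨n, hn⟩ := (IsPGroup.iff_card).1 Q.isPGroup'
    have h2 : (Nat.card (Q : Subgroup (T ⋊[Z.subtype] Z))).Coprime (Nat.card Z) := by
      rw [hn]
      exact Nat.Coprime.pow_left n hZcop.symm
    have h3 : Nat.card (Q : Subgroup (T ⋊[Z.subtype] Z)) ∣ Nat.card T := h2.dvd_of_dvd_mul_right h1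
    have h4 : Nat.card ι.range = Nat.card T :=
      (Nat.card_congr (MonoidHom.ofInjective hι).toEquiv).symm
    rw [h4]
    exact Nat.le_of_dvd Nat.card_pos h3
  refine ⟨realizedSystem ι hι, ?_, ?_, ?_, hchar⟩
  · exact Cfsg.Agent.Lib.helper25.saturated_of_realized _ ι (realizedSystem_isRealizedBy ι hι) Q hQeq
  · intro P φ hφ
    obtain ⟨hP, t, ht, z, hz, hφx⟩ := hchar P φ hφ
    have hzA : z ∈ F.autGroup T := (Subgroup.zpowers_le.2 hγ) hz
    have h1 : T.subtype.comp z.toMonoidHom ∈ F.Hom T := (mem_autGroup_iff F hTS z).1 hzA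
    have h2 : (T.subtype.comp z.toMonoidHom).comp (Subgroup.inclusion hP) ∈ F.Hom P :=
      restrict_mem F h1 hP
    have h3 : conjHom T t ∈ F.Hom T := F.conj_mem hTS (hTS ht)
    refine comp_mem' F h2 h3 (fun x => (z ⟨x, hP x.2⟩).2) φ (fun x => ?_)
    rw [hφx]
    rfl
  · intro hinn
    have h1 : T.subtype.comp γ.toMonoidHom ∈ (realizedSystem ι hι).Hom T := by
      refine ⟨le_rfl, fun x => (γ x).2, SemidirectProduct.inr ⟨γ, hZ ▸ Subgroup.mem_zpowers γ⟩,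
        fun x => ?_⟩
      rw [key]
      simp
    rw [hinn] at h1
    obtain ⟨-, t, ht, hx⟩ := h1
    have h2 : γ = MulAut.conj (⟨t, ht⟩ : T) := by
      apply MulEquiv.ext
      intro x
      apply Subtype.ext
      rw [MulAut.conj_apply]
      exact hx x
    obtain ⟨k, hk⟩ := hTp (⟨t, ht⟩ : T)
    have h3 : γ ^ p ^ k = 1 := by rw [h2, ← map_pow, hk, map_one]
    exact hγ1 (eq_one_of_pow_coprime h3 hγq (Nat.Coprime.pow_left k ((Nat.coprime_primes hp hq).2 hqp.symm)))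

end Sparse

end Cfsg.Agent.Lib.helper26
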