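import Mathlib
import Cfsg.Agent.Lib.helper25.NormalSub
import Cfsg.Agent.Lib.helper25.Realized
import Cfsg.Agent.Lib.helper26.Realize

set_option autoImplicit false
set_option linter.style.haveILetI false

namespace Cfsg.Agent.Lib.helper26

open Cfsg Cfsg.FusionSystem

section GSide

variable {G : Type*} [Group G] [Finite G] {p : ℕ} [Fact p.Prime]

/-- Frattini argument, element form: conjugation by `g` on a subgroup of `P₀ ∩ N` factors as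
conjugation by an element of `N` followed by an element normalizing `P₀ ∩ N`. -/
theorem gside_frattini (P₀ : Sylow p G) (N : Subgroup G) [N.Normal] (P' : Subgroup G)
    (hP' : P' ≤ (P₀ : Subgroup G) ⊓ N) (g : G) (hg : ∀ x ∈ P', g * x * g⁻¹ ∈ (P₀ : Subgroup G)) :
    ∃ a : G, ∃ n ∈ N, (∀ y ∈ (P₀ : Subgroup G) ⊓ N, a * y * a⁻¹ ∈ (P₀ : Subgroup G) ⊓ N) ∧
      ∀ x ∈ P', n * x * n⁻¹ ∈ (P₀ : Subgroup G) ⊓ N ∧ g * x * g⁻¹ = a * (n * x * n⁻¹) * a⁻¹ := by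
  have hN := Cfsg.Agent.Lib.helper25.subFusion_isNormalIn P₀ N
  have hfr := hN.1.2.2.2.2.2 P' hP' (conjHom P' g)
    ⟨hP'.trans inf_le_left, fun x => hg x x.2, g, fun x => rfl⟩
  obtain ⟨α, hα, φ₀, hφ₀, hrel⟩ := hfr
  obtain ⟨-, -, a, ha⟩ := (mem_autGroup_iff _ inf_le_left α).1 hα
  obtain ⟨-, hφ₀T, n, hnN, hn⟩ := hφ₀
  refine ⟨a, n, hnN, ?_, ?_⟩
  · intro y hy
    have h1 := ha ⟨y, hy⟩
    have h2 : a * y * a⁻¹ = ((α ⟨y, hy⟩ : ↥((P₀ : Subgroup G) ⊓ N)) : G) := h1.symm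
    rw [h2]
    exact (α ⟨y, hy⟩).2
  · intro x hx
    have h1 := hφ₀T ⟨x, hx⟩
    have h2 := hn ⟨x, hx⟩
    have h3 : n * x * n⁻¹ = φ₀ ⟨x, hx⟩ := h2.symm
    refine ⟨by rw [h3]; exact h1, ?_⟩
    have h4 := hrel ⟨x, hx⟩ h1
    have h5 := ha ⟨φ₀ ⟨x, hx⟩, h1⟩
    have h6 : g * x * g⁻¹ = conjHom P' g ⟨x, hx⟩ := rfl
    rw [h6, h4, h3]
    exact h5

/-- Extension condition, element form. -/
theorem gside_ext (P₀ : Sylow p G) (N : Subgroup G) [N.Normal] (n : G) (hnN : n ∈ N)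
    (hn : ∀ y ∈ (P₀ : Subgroup G) ⊓ N, n * y * n⁻¹ ∈ (P₀ : Subgroup G) ⊓ N) :
    ∃ b : G,
      (∀ y ∈ ((P₀ : Subgroup G) ⊓ N) ⊔ centralizerIn (P₀ : Subgroup G) ((P₀ : Subgroup G) ⊓ N),
        b * y * b⁻¹ ∈
          ((P₀ : Subgroup G) ⊓ N) ⊔ centralizerIn (P₀ : Subgroup G) ((P₀ : Subgroup G) ⊓ N)) ∧
      (∀ y ∈ (P₀ : Subgroup G) ⊓ N, b * y * b⁻¹ = n * y * n⁻¹) ∧
      ∀ c ∈ centralizerIn (P₀ : Subgroup G) ((P₀ : Subgroup G) ⊓ N),
        c⁻¹ * (b * c * b⁻¹) ∈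
          ((P₀ : Subgroup G) ⊓ N) ⊓ Subgroup.centralizer (((P₀ : Subgroup G) ⊓ N : Subgroup G) : Set G) := by
  have hN := Cfsg.Agent.Lib.helper25.subFusion_isNormalIn P₀ N
  have hnn : n ∈ Subgroup.normalizer ((((P₀ : Subgroup G) ⊓ N : Subgroup G)) : Set G) :=
    Cfsg.Agent.Lib.helper25.mem_normalizer_of_forall_mem hn
  obtain ⟨α, hαdef⟩ : ∃ α : MulAut ↥((P₀ : Subgroup G) ⊓ N),
      α = ((P₀ : Subgroup G) ⊓ N).normalizerMonoidHom ⟨n, hnn⟩ := ⟨_, rfl⟩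
  have hαc : ∀ y : ↥((P₀ : Subgroup G) ⊓ N), ((α y : ↥((P₀ : Subgroup G) ⊓ N)) : G) = n * y * n⁻¹ := by
    intro y
    rw [hαdef]
    rfl
  have hα : α ∈ (fusionSystemOfSubgroup N ((P₀ : Subgroup G) ⊓ N) inf_le_right).autGroup
      ((P₀ : Subgroup G) ⊓ N) := by
    rw [mem_autGroup_iff _ le_rfl]
    exact ⟨le_rfl, fun y => (α y).2, n, hnN, fun y => hαc y⟩
  obtain ⟨β, hβ, hβ1, hβ2⟩ := hN.2 α hα
  have hQS : ((P₀ : Subgroup G) ⊓ N) ⊔ centralizerIn (P₀ : Subgroup G) ((P₀ : Subgroup G) ⊓ N) ≤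
      (P₀ : Subgroup G) := sup_le inf_le_left inf_le_left
  obtain ⟨-, -, b, hb⟩ := (mem_autGroup_iff _ hQS β).1 hβ
  refine ⟨b, ?_, ?_, ?_⟩
  · intro y hy
    have h1 := hb ⟨y, hy⟩
    have h2 : b * y * b⁻¹ = ((β ⟨y, hy⟩ : _) : G) := h1.symm
    rw [h2]
    exact (β ⟨y, hy⟩).2
  · intro y hy
    have h1 := hb (Subgroup.inclusion le_sup_left ⟨y, hy⟩)
    have h2 := hβ1 ⟨y, hy⟩
    have h3 := hαc ⟨y, hy⟩
    have h4 : b * y * b⁻¹ = ((β (Subgroup.inclusion le_sup_left ⟨y, hy⟩) : _) : G) := h1.symm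
    rw [h4, h2, h3]
  · intro c hc
    have hcQ : c ∈ ((P₀ : Subgroup G) ⊓ N) ⊔
        centralizerIn (P₀ : Subgroup G) ((P₀ : Subgroup G) ⊓ N) := le_sup_right (a := ((P₀ : Subgroup G) ⊓ N)) hc
    have h1 := hb ⟨c, hcQ⟩
    have h2 := hβ2 ⟨c, hcQ⟩ hc
    have h3 : b * c * b⁻¹ = ((β ⟨c, hcQ⟩ : _) : G) := h1.symm
    rw [h3]
    exact h2

end GSide

section OmegaSide

variable {Ω : Type*} [Group Ω] {S : Subgroup Ω} {G : Type*} [Group G]

/-- An element of `G` normalizing the image of `W` induces an automorphism of `W` in the system. -/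
theorem aut_of_conj (F : FusionSystem S) (ι : S →* G) (hr : F.IsRealizedBy ι) {W : Subgroup Ω}
    (hW : W ≤ S) [Finite W] (g : G)
    (h : ∀ x : W, ∃ y : W, ι ⟨y, hW y.2⟩ = g * ι ⟨x, hW x.2⟩ * g⁻¹) :
    ∃ β ∈ F.autGroup W, ∀ x : W, ι ⟨((β x : W) : Ω), hW (β x).2⟩ = g * ι ⟨x, hW x.2⟩ * g⁻¹ := by
  have hι := hr.1
  have hrange : ∀ x : W, g * ι ⟨x, hW x.2⟩ * g⁻¹ ∈ ι.range := by
    intro x
    obtain ⟨y, hy⟩ := h x
    exact ⟨_, hy⟩
  have hψ := Cfsg.Agent.Lib.helper25.realHom_mem F ι hr hW g hrange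
  have hψW : ∀ x : W, Cfsg.Agent.Lib.helper25.realHom ι hι hW g hrange x ∈ W := by
    intro x
    obtain ⟨y, hy⟩ := h x
    rw [Cfsg.Agent.Lib.helper25.realHom_eq ι hι hW g hrange x ⟨y, hW y.2⟩ hy]
    exact y.2
  have hinj := F.injective_of_mem hψ
  obtain ⟨ψ', hψ'⟩ : ∃ ψ' : W →* W, ∀ x, ((ψ' x : W) : Ω) =
      Cfsg.Agent.Lib.helper25.realHom ι hι hW g hrange x :=
    ⟨(Cfsg.Agent.Lib.helper25.realHom ι hι hW g hrange).codRestrict W hψW, fun x => rfl⟩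
  have hinj' : Function.Injective ψ' := by
    intro a b hab
    apply hinj
    rw [← hψ' a, ← hψ' b, hab]
  have hbij : Function.Bijective ψ' := ⟨hinj', Finite.injective_iff_surjective.1 hinj'⟩
  refine ⟨MulEquiv.ofBijective ψ' hbij, ?_, ?_⟩
  · rw [mem_autGroup_iff F hW]
    have : W.subtype.comp (MulEquiv.ofBijective ψ' hbij).toMonoidHom =
        Cfsg.Agent.Lib.helper25.realHom ι hι hW g hrange := by
      ext x
      exact hψ' x
    rw [this]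
    exact hψ
  · intro x
    have h1 := Cfsg.Agent.Lib.helper25.map_realHom ι hι hW g hrange x
    have h2 : (⟨((MulEquiv.ofBijective ψ' hbij x : W) : Ω), hW (MulEquiv.ofBijective ψ' hbij x).2⟩ : S) =
        ⟨Cfsg.Agent.Lib.helper25.realHom ι hι hW g hrange x,
          Cfsg.Agent.Lib.helper25.realHom_mem_S ι hι hW g hrange x⟩ := Subtype.ext (hψ' x)
    rw [h2]
    exact h1

/-- the preimage of `N` in `S` -/
def subT (ι : S →* G) (N : Subgroup G) : Subgroup Ω := (N.comap ι).map S.subtype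

theorem subT_le (ι : S →* G) (N : Subgroup G) : subT ι N ≤ S := by
  rintro _ ⟨x, -, rfl⟩
  exact x.2

theorem mem_subT (ι : S →* G) (N : Subgroup G) (x : S) : (x : Ω) ∈ subT ι N ↔ ι x ∈ N := by
  constructor
  · rintro ⟨y, hy, hyx⟩
    have : y = x := Subtype.ext hyx
    rw [← this]
    exact hy
  · intro h
    exact ⟨x, h, rfl⟩

theorem mem_subT' (ι : S →* G) (N : Subgroup G) (t : Ω) (ht : t ∈ subT ι N) :
    ι ⟨t, subT_le ι N ht⟩ ∈ N := (mem_subT ι N ⟨t, subT_le ι N ht⟩).1 ht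

/-- the restriction of `ι` to the preimage of `N` -/
def subι (ι : S →* G) (N : Subgroup G) : subT ι N →* ↥N :=
  (ι.comp (Subgroup.inclusion (subT_le ι N))).codRestrict N (fun t => mem_subT' ι N t t.2)

theorem subι_coe (ι : S →* G) (N : Subgroup G) (t : subT ι N) :
    ((subι ι N t : ↥N) : G) = ι ⟨t, subT_le ι N t.2⟩ := rfl

theorem subι_inj (ι : S →* G) (hι : Function.Injective ι) (N : Subgroup G) :
    Function.Injective (subι ι N) := by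
  intro a b hab
  have h1 : ι ⟨a, subT_le ι N a.2⟩ = ι ⟨b, subT_le ι N b.2⟩ := congrArg Subtype.val hab
  have h2 := hι h1
  exact Subtype.ext (congrArg (fun w : S => (w : Ω)) h2)

/-- the fusion system of `N` on the preimage of `N` in `S` -/
def subE (ι : S →* G) (hι : Function.Injective ι) (N : Subgroup G) : FusionSystem (subT ι N) :=
  realizedSystem (subι ι N) (subι_inj ι hι N)

theorem mem_subE_iff (ι : S →* G) (hι : Function.Injective ι) (N : Subgroup G) (P : Subgroup Ω)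
    (φ : P →* Ω) : φ ∈ (subE ι hι N).Hom P ↔ ∃ (hP : P ≤ subT ι N) (hφ : ∀ x, φ x ∈ subT ι N),
      ∃ n ∈ N, ∀ x : P, ι ⟨φ x, subT_le ι N (hφ x)⟩ = n * ι ⟨x, subT_le ι N (hP x.2)⟩ * n⁻¹ := by
  constructor
  · rintro ⟨hP, hφ, n, hn⟩
    exact ⟨hP, hφ, n.1, n.2, fun x => congrArg Subtype.val (hn x)⟩
  · rintro ⟨hP, hφ, n, hnN, hn⟩
    exact ⟨hP, hφ, ⟨n, hnN⟩, fun x => Subtype.ext (hn x)⟩

end OmegaSide

/-- For `N` normal in a finite group `G` realizing `F` on a Sylow subgroup, the fusion system of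
`N` on the preimage of `N` is normal in `F`. -/
theorem subE_isNormalIn {Ω : Type*} [Group Ω] {S : Subgroup Ω} [Finite S] {G : Type*} [Group G]
    [Finite G] {p : ℕ} [Fact p.Prime] (F : FusionSystem S) (hF : F.IsSaturated p) (ι : S →* G)
    (hr : F.IsRealizedBy ι) (P₀ : Sylow p G) (hP₀ : (P₀ : Subgroup G) = ι.range)
    (N : Subgroup G) [hNn : N.Normal] : (subE ι hr.1 N).IsNormalIn F p := by
  have hι := hr.1
  have hTS := subT_le ι N
  haveI : Finite (subT ι N) := finite_of_le hTS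
  have hmemP₀ : ∀ s : S, ι s ∈ (P₀ : Subgroup G) := by
    intro s
    rw [hP₀]
    exact ⟨s, rfl⟩
  have hTN : ∀ (t : Ω) (ht : t ∈ subT ι N), ι ⟨t, hTS ht⟩ ∈ (P₀ : Subgroup G) ⊓ N :=
    fun t ht => ⟨hmemP₀ _, mem_subT' ι N t ht⟩
  have hTNsurj : ∀ y ∈ (P₀ : Subgroup G) ⊓ N, ∃ t : subT ι N, ι ⟨t, hTS t.2⟩ = y := by
    rintro y ⟨hy1, hy2⟩
    have hy1' : y ∈ ι.range := by rw [← hP₀]; exact hy1
    obtain ⟨s, rfl⟩ := hy1'
    exact ⟨⟨s, (mem_subT ι N s).2 hy2⟩, rfl⟩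
  refine ⟨⟨?_, hF, ?_, ?_, ?_, ?_⟩, ?_⟩
  · -- saturation
    have hScard : Nat.card (P₀ : Subgroup G) = p ^ (Nat.card (⊤ : Subgroup G)).factorization p := by
      rw [Subgroup.card_top]
      exact P₀.card_eq_multiplicity
    have hTcard : Nat.card ↥((P₀ : Subgroup G) ⊓ N) = p ^ (Nat.card N).factorization p := by
      refine Cfsg.Agent.Lib.helper25.sylCard_inf_of_le_normalizer le_top hScard le_top ?_
      rw [Subgroup.normalizer_eq_top]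
    have hrange : (subι ι N).range = ((P₀ : Subgroup G) ⊓ N).subgroupOf N := by
      ext n
      rw [Subgroup.mem_subgroupOf]
      constructor
      · rintro ⟨t, rfl⟩
        exact hTN t t.2
      · intro hn
        obtain ⟨t, ht⟩ := hTNsurj _ hn
        exact ⟨t, Subtype.ext ht⟩
    have hcard : Nat.card (subι ι N).range = p ^ (Nat.card ↥N).factorization p := by
      rw [hrange, Nat.card_congr (Subgroup.subgroupOfEquivOfLe inf_le_right).toEquiv]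
      exact hTcard
    exact Cfsg.Agent.Lib.helper25.saturated_of_realized _ (subι ι N)
      (realizedSystem_isRealizedBy _ _) (Sylow.ofCard _ hcard) (Sylow.coe_ofCard _ _)
  · intro P φ hφ
    obtain ⟨hP, hφT, n, hnN, hn⟩ := (mem_subE_iff ι hι N P φ).1 hφ
    exact (hr.2 P (hP.trans hTS) φ (fun x => hTS (hφT x))).2 ⟨n, hn⟩
  · refine ⟨hTS, fun R hR φ hφ x => ?_⟩
    have hφS := (F.le_of_mem hφ).2
    obtain ⟨g, hg⟩ := (hr.2 R (hR.trans hTS) φ hφS).1 hφ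
    refine (mem_subT ι N ⟨φ x, hφS x⟩).2 ?_
    rw [hg x]
    exact hNn.conj_mem _ (mem_subT' ι N x (hR x.2)) g
  · intro P hPT φ hφ α hα
    obtain ⟨hP0, hφT, n, hnN, hn⟩ := (mem_subE_iff ι hι N P φ).1 hφ
    have hα' := (mem_autGroup_iff F hTS α).1 hα
    obtain ⟨g, hg⟩ := (hr.2 _ hTS _ (fun y => hTS (α y).2)).1 hα'
    have hg' : ∀ y : subT ι N, ι ⟨((α y : subT ι N) : Ω), hTS (α y).2⟩ =
        g * ι ⟨y, hTS y.2⟩ * g⁻¹ := hg
    have hP₂T : (P.subgroupOf (subT ι N)).map ((subT ι N).subtype.comp α.toMonoidHom) ≤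
        subT ι N := by
      rintro _ ⟨y, -, rfl⟩
      exact (α y).2
    have hmN : g * n * g⁻¹ ∈ N := hNn.conj_mem n hnN g
    have key : ∀ (y : subT ι N) (hy : (y : Ω) ∈ P),
        (g * n * g⁻¹) * ι ⟨((α y : subT ι N) : Ω), hTS (α y).2⟩ * (g * n * g⁻¹)⁻¹ =
          ι ⟨((α ⟨φ ⟨y, hy⟩, hφT ⟨y, hy⟩⟩ : subT ι N) : Ω), hTS (α _).2⟩ := by
      intro y hy
      rw [hg' y, hg' ⟨φ ⟨y, hy⟩, hφT ⟨y, hy⟩⟩]
      have h1 := hn ⟨y, hy⟩
      have h2 : ι ⟨((⟨φ ⟨y, hy⟩, hφT ⟨y, hy⟩⟩ : subT ι N) : Ω), hTS (hφT ⟨y, hy⟩)⟩ =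
          n * ι ⟨y, hTS y.2⟩ * n⁻¹ := h1
      rw [h2]
      group
    have hrange : ∀ z : ↥((P.subgroupOf (subT ι N)).map ((subT ι N).subtype.comp α.toMonoidHom)),
        (g * n * g⁻¹) * ι ⟨z, hTS (hP₂T z.2)⟩ * (g * n * g⁻¹)⁻¹ ∈ ι.range := by
      rintro ⟨_, y, hy, rfl⟩
      exact ⟨_, (key y (Subgroup.mem_subgroupOf.1 hy)).symm⟩
    refine ⟨Cfsg.Agent.Lib.helper25.realHom ι hι (hP₂T.trans hTS) (g * n * g⁻¹) hrange, ?_, ?_⟩
    · rw [mem_subE_iff]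
      refine ⟨hP₂T, ?_, g * n * g⁻¹, hmN,
        fun z => Cfsg.Agent.Lib.helper25.map_realHom ι hι _ _ hrange z⟩
      rintro ⟨_, y, hy, rfl⟩
      have hy' := Subgroup.mem_subgroupOf.1 hy
      have e := Cfsg.Agent.Lib.helper25.realHom_eq ι hι (hP₂T.trans hTS) (g * n * g⁻¹) hrange
        ⟨((subT ι N).subtype.comp α.toMonoidHom) y, ⟨y, hy, rfl⟩⟩
        ⟨_, hTS (α ⟨φ ⟨y, hy'⟩, hφT ⟨y, hy'⟩⟩).2⟩ (key y hy').symm
      rw [e]
      exact (α _).2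
    · intro x hφx hαx
      exact Cfsg.Agent.Lib.helper25.realHom_eq ι hι _ _ hrange _
        ⟨_, hTS (α ⟨φ x, hφx⟩).2⟩ (key ⟨x, hPT x.2⟩ x.2).symm
  · intro P hPT φ hφ
    have hφS := (F.le_of_mem hφ).2
    have hPS := hPT.trans hTS
    obtain ⟨g, hg⟩ := (hr.2 P hPS φ hφS).1 hφ
    obtain ⟨P', hP'def⟩ : ∃ P' : Subgroup G, P' = (P.subgroupOf S).map ι := ⟨_, rfl⟩
    have hP'mem : ∀ y ∈ P', ∃ x : P, ι ⟨x, hPS x.2⟩ = y := by
      intro y hy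
      rw [hP'def] at hy
      obtain ⟨s, hs, rfl⟩ := hy
      exact ⟨⟨s, Subgroup.mem_subgroupOf.1 hs⟩, rfl⟩
    have hP'le : P' ≤ (P₀ : Subgroup G) ⊓ N := by
      intro y hy
      obtain ⟨x, rfl⟩ := hP'mem y hy
      exact hTN x (hPT x.2)
    have hgP' : ∀ y ∈ P', g * y * g⁻¹ ∈ (P₀ : Subgroup G) := by
      intro y hy
      obtain ⟨x, rfl⟩ := hP'mem y hy
      rw [← hg x]
      exact hmemP₀ _
    obtain ⟨a, n, hnN, ha, hrel⟩ := gside_frattini P₀ N P' hP'le g hgP'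
    have hxP' : ∀ x : P, ι ⟨x, hPS x.2⟩ ∈ P' := by
      intro x
      rw [hP'def]
      exact ⟨⟨x, hPS x.2⟩, Subgroup.mem_subgroupOf.2 x.2, rfl⟩
    have hah : ∀ x : subT ι N, ∃ y : subT ι N, ι ⟨y, hTS y.2⟩ = a * ι ⟨x, hTS x.2⟩ * a⁻¹ :=
      fun x => hTNsurj _ (ha _ (hTN x x.2))
    obtain ⟨α, hα, hαc⟩ := aut_of_conj F ι hr hTS a hah
    have hrange : ∀ x : P, n * ι ⟨x, hPS x.2⟩ * n⁻¹ ∈ ι.range := by
      intro x
      have h1 := (hrel _ (hxP' x)).1.1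
      rw [← hP₀]
      exact h1
    refine ⟨α, hα, Cfsg.Agent.Lib.helper25.realHom ι hι hPS n hrange, ?_, ?_⟩
    · rw [mem_subE_iff]
      refine ⟨hPT, ?_, n, hnN, fun x => Cfsg.Agent.Lib.helper25.map_realHom ι hι hPS n hrange x⟩
      intro x
      refine (mem_subT ι N ⟨_, Cfsg.Agent.Lib.helper25.realHom_mem_S ι hι hPS n hrange x⟩).2 ?_
      rw [Cfsg.Agent.Lib.helper25.map_realHom]
      exact (hrel _ (hxP' x)).1.2
    · intro x hx
      have h1 := hαc ⟨_, hx⟩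
      have h2 := Cfsg.Agent.Lib.helper25.map_realHom ι hι hPS n hrange x
      have h3 : ι ⟨φ x, hφS x⟩ = ι ⟨((α ⟨_, hx⟩ : subT ι N) : Ω), hTS (α ⟨_, hx⟩).2⟩ := by
        rw [h1, hg x, (hrel _ (hxP' x)).2]
        congr 2
        exact h2.symm
      exact congrArg Subtype.val (hι h3)
  · intro α hα
    have hα' := (mem_autGroup_iff (subE ι hι N) le_rfl α).1 hα
    obtain ⟨hP0, hφ0, n, hnN, hn⟩ := (mem_subE_iff ι hι N _ _).1 hα'
    have hn' : ∀ y : subT ι N, ι ⟨((α y : subT ι N) : Ω), hTS (α y).2⟩ =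
        n * ι ⟨y, hTS y.2⟩ * n⁻¹ := hn
    have hnT : ∀ y ∈ (P₀ : Subgroup G) ⊓ N, n * y * n⁻¹ ∈ (P₀ : Subgroup G) ⊓ N := by
      intro y hy
      obtain ⟨t, rfl⟩ := hTNsurj y hy
      rw [← hn' t]
      exact hTN _ (α t).2
    obtain ⟨b, hb1, hb2, hb3⟩ := gside_ext P₀ N n hnN hnT
    have hQS : subT ι N ⊔ centralizerIn S (subT ι N) ≤ S := sup_le hTS inf_le_left
    haveI : Finite ↥(subT ι N ⊔ centralizerIn S (subT ι N)) := finite_of_le hQS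
    have hCmem : ∀ (c : Ω) (hc : c ∈ centralizerIn S (subT ι N)),
        ι ⟨c, hc.1⟩ ∈ centralizerIn (P₀ : Subgroup G) ((P₀ : Subgroup G) ⊓ N) := by
      intro c hc
      refine ⟨hmemP₀ _, Subgroup.mem_centralizer_iff.2 ?_⟩
      intro y hy
      obtain ⟨t, rfl⟩ := hTNsurj y hy
      have h1 := Subgroup.mem_centralizer_iff.1 hc.2 t t.2
      rw [← map_mul, ← map_mul]
      congr 1
      exact Subtype.ext h1
    have hA : ∀ x : ↥(subT ι N ⊔ centralizerIn S (subT ι N)), ι ⟨x, hQS x.2⟩ ∈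
        ((P₀ : Subgroup G) ⊓ N) ⊔ centralizerIn (P₀ : Subgroup G) ((P₀ : Subgroup G) ⊓ N) := by
      have hle : subT ι N ⊔ centralizerIn S (subT ι N) ≤
          ((((P₀ : Subgroup G) ⊓ N) ⊔
            centralizerIn (P₀ : Subgroup G) ((P₀ : Subgroup G) ⊓ N)).comap ι).map S.subtype := by
        apply sup_le
        · intro t ht
          exact ⟨⟨t, hTS ht⟩, Subgroup.mem_sup_left (hTN t ht), rfl⟩
        · intro c hc
          exact ⟨⟨c, hc.1⟩, Subgroup.mem_sup_right (hCmem c hc), rfl⟩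
      intro x
      obtain ⟨s, hs, hsx⟩ := hle x.2
      have : s = ⟨x, hQS x.2⟩ := Subtype.ext hsx
      rw [← this]
      exact hs
    have hB : ∀ y ∈ ((P₀ : Subgroup G) ⊓ N) ⊔
        centralizerIn (P₀ : Subgroup G) ((P₀ : Subgroup G) ⊓ N),
        ∃ x : ↥(subT ι N ⊔ centralizerIn S (subT ι N)), ι ⟨x, hQS x.2⟩ = y := by
      have hle : ((P₀ : Subgroup G) ⊓ N) ⊔
          centralizerIn (P₀ : Subgroup G) ((P₀ : Subgroup G) ⊓ N) ≤
          ((subT ι N ⊔ centralizerIn S (subT ι N)).subgroupOf S).map ι := by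
        apply sup_le
        · intro y hy
          obtain ⟨t, rfl⟩ := hTNsurj y hy
          exact ⟨⟨t, hTS t.2⟩, Subgroup.mem_subgroupOf.2 (Subgroup.mem_sup_left t.2), rfl⟩
        · rintro y ⟨hy1, hy2⟩
          have hy1' : y ∈ ι.range := by rw [← hP₀]; exact hy1
          obtain ⟨s, rfl⟩ := hy1'
          refine ⟨s, Subgroup.mem_subgroupOf.2 (Subgroup.mem_sup_right
            ⟨s.2, Subgroup.mem_centralizer_iff.2 ?_⟩), rfl⟩
          intro t ht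
          have h1 := Subgroup.mem_centralizer_iff.1 hy2 _ (hTN t ht)
          rw [← map_mul, ← map_mul] at h1
          exact congrArg Subtype.val (hι h1)
      intro y hy
      obtain ⟨s, hs, rfl⟩ := hle hy
      exact ⟨⟨s, Subgroup.mem_subgroupOf.1 hs⟩, rfl⟩
    have hbh : ∀ x : ↥(subT ι N ⊔ centralizerIn S (subT ι N)),
        ∃ y : ↥(subT ι N ⊔ centralizerIn S (subT ι N)),
          ι ⟨y, hQS y.2⟩ = b * ι ⟨x, hQS x.2⟩ * b⁻¹ := fun x => hB _ (hb1 _ (hA x))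
    obtain ⟨β, hβ, hβc⟩ := aut_of_conj F ι hr hQS b hbh
    refine ⟨β, hβ, ?_, ?_⟩
    · intro x
      have h1 := hβc (Subgroup.inclusion le_sup_left x)
      have h2 := hb2 _ (hTN x x.2)
      have h3 := hn' x
      have h4 : ι ⟨((β (Subgroup.inclusion le_sup_left x) :
          ↥(subT ι N ⊔ centralizerIn S (subT ι N))) : Ω), hQS (β _).2⟩ =
          ι ⟨((α x : subT ι N) : Ω), hTS (α x).2⟩ := by
        rw [h1, h3]
        exact h2
      exact congrArg Subtype.val (hι h4)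
    · intro c hc
      have h1 := hβc c
      have h2 := hb3 _ (hCmem c hc)
      have hwS : (c : Ω)⁻¹ * ((β c : ↥(subT ι N ⊔ centralizerIn S (subT ι N))) : Ω) ∈ S :=
        S.mul_mem (S.inv_mem (hQS c.2)) (hQS (β c).2)
      have hw : ι ⟨(c : Ω)⁻¹ * ((β c : ↥(subT ι N ⊔ centralizerIn S (subT ι N))) : Ω), hwS⟩ =
          (ι ⟨c, hc.1⟩)⁻¹ * (b * ι ⟨c, hc.1⟩ * b⁻¹) := by
        have h3 : (⟨(c : Ω)⁻¹ * ((β c : ↥(subT ι N ⊔ centralizerIn S (subT ι N))) : Ω), hwS⟩ : S) =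
            (⟨c, hQS c.2⟩ : S)⁻¹ * ⟨((β c : _) : Ω), hQS (β c).2⟩ := rfl
        rw [h3, map_mul, map_inv, h1]
      refine ⟨(mem_subT ι N ⟨_, hwS⟩).2 (by rw [hw]; exact h2.1.2),
        Subgroup.mem_centralizer_iff.2 ?_⟩
      intro t ht
      have h5 := Subgroup.mem_centralizer_iff.1 h2.2 _ (hTN t ht)
      rw [← hw, ← map_mul, ← map_mul] at h5
      exact congrArg Subtype.val (hι h5)

end Cfsg.Agent.Lib.helper26
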