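import Mathlib
import Cfsg.Prelude.Def_CaseTheorems
import Cfsg.Agent.Lib.helper15.S1454E
import Cfsg.Agent.Lib.helper14.S1454AB
import Cfsg.Agent.Lib.helper12.S1454X1
import Cfsg.Agent.Lib.helper13.S1454X2
import Cfsg.Agent.Lib.helper26.S1454NA

set_option autoImplicit false

namespace Cfsg.Agent.Lib.helper26.S1454T3b

open scoped commutatorElement

/-- (T3b) of the S1454 split: `R` of rank at most 2, non-abelian, `R = ⁅R, A⁆` with `A` of prime
order not dividing `p (p - 1)` forces `|R| = p ^ 3`. -/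
theorem part_three_b {G : Type*} [Group G] [Finite G] (p : ℕ) [Fact p.Prime] (hp : p ≠ 2)
    (R A : Subgroup G) (hR : IsPGroup p R) (hr2 : Cfsg.PRankLE p 2 R)
    (hA : A ≤ Subgroup.normalizer (R : Set G)) (hAodd : Odd (Nat.card A))
    (hfaith : A ⊓ Subgroup.centralizer (R : Set G) = ⊥) (hq : (Nat.card A).Prime)
    (hq1 : ¬ Nat.card A ∣ p * (p - 1)) (hRA : ⁅R, A⁆ = R) (hnc : ¬ IsMulCommutative R) :
    Nat.card R = p ^ 3 := by
  obtain ⟨D, hDR, hexp, hcl, hND, hcrit, hcomm⟩ :=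
    Cfsg.Agent.Lib.helper15.S1454E.exists_critical_plus p hp R hR
  by_cases hDab : ∀ x ∈ D, ∀ y ∈ D, x * y = y * x
  · exact absurd (Cfsg.Agent.Lib.helper14.S1454AB.abelian_case p hp R A D hR hr2 hA hq hq1 hRA
      hDR hexp hND hcrit hDab) hnc
  · have hnc' : ∃ x ∈ D, ∃ y ∈ D, x * y ≠ y * x := by
      by_contra h
      exact hDab (fun x hx y hy => by_contra (fun hxy => h ⟨x, hx, y, hy, hxy⟩))
    have hrel := Cfsg.Agent.Lib.helper26.S1454NA.rank_rel p R hr2
    obtain ⟨hD3, hZ⟩ := Cfsg.Agent.Lib.helper12.S1454X1.extraspecial_of_rank p D hexp hcl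
      (fun B hBD hBc => hrel B (hBD.trans hDR) hBc (fun x hx => hexp x (hBD hx))) hnc'
    have hprod := Cfsg.Agent.Lib.helper13.S1454X2.prod_centralizer p R D hR hDR hD3 hZ
      (Subgroup.le_normalizer.trans hND) hcomm
    exact Cfsg.Agent.Lib.helper26.S1454NA.nonabelian_case p hp R A D hR hr2 hA hq hq1 hRA hDR
      hexp hND hD3 hZ hprod

end Cfsg.Agent.Lib.helper26.S1454T3b
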