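import Mathlib
import Cfsg.Agent.Lib.helper26.Centric

set_option autoImplicit false
set_option linter.style.haveILetI false

namespace Cfsg.Agent.Lib.helper26

open Cfsg

section SL2gen
variable {F : Type*} [Field F]

/-- Upper elementary matrix in `SL₂`. -/
def sl2Upper (x : F) : Matrix.SpecialLinearGroup (Fin 2) F :=
  ⟨!![1, x; 0, 1], by simp [Matrix.det_fin_two]⟩

/-- Lower elementary matrix in `SL₂`. -/
def sl2Lower (y : F) : Matrix.SpecialLinearGroup (Fin 2) F :=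
  ⟨!![1, 0; y, 1], by simp [Matrix.det_fin_two]⟩

/-- `SL₂` over a field is generated by the elementary matrices. -/
theorem sl2_eq_top (N : Subgroup (Matrix.SpecialLinearGroup (Fin 2) F))
    (h1 : ∀ x : F, sl2Upper x ∈ N) (h2 : ∀ y : F, sl2Lower y ∈ N) : N = ⊤ := by
  have key : ∀ M : Matrix.SpecialLinearGroup (Fin 2) F, M.1 1 0 ≠ 0 → M ∈ N := by
    intro M hc
    have hdet : M.1 0 0 * M.1 1 1 - M.1 0 1 * M.1 1 0 = 1 := by
      rw [← Matrix.det_fin_two]; exact M.2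
    have hM : M.1 = !![1, (M.1 0 0 - 1) / M.1 1 0; 0, 1] * !![1, 0; M.1 1 0, 1] *
        !![1, (M.1 1 1 - 1) / M.1 1 0; 0, 1] := by
      ext i j
      fin_cases i <;> fin_cases j
      · simp [Matrix.mul_apply, Fin.sum_univ_two]
        field_simp
        ring
      · simp [Matrix.mul_apply, Fin.sum_univ_two]
        field_simp
        linear_combination -hdet
      · simp [Matrix.mul_apply, Fin.sum_univ_two]
      · simp [Matrix.mul_apply, Fin.sum_univ_two]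
        field_simp
        ring
    have : M = sl2Upper ((M.1 0 0 - 1) / M.1 1 0) * sl2Lower (M.1 1 0) *
        sl2Upper ((M.1 1 1 - 1) / M.1 1 0) := by
      apply Subtype.ext
      rw [Matrix.SpecialLinearGroup.coe_mul, Matrix.SpecialLinearGroup.coe_mul]
      exact hM
    rw [this]
    exact N.mul_mem (N.mul_mem (h1 _) (h2 _)) (h1 _)
  rw [eq_top_iff]
  intro M _
  by_cases hc : M.1 1 0 = 0
  · have hdet : M.1 0 0 * M.1 1 1 - M.1 0 1 * M.1 1 0 = 1 := by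
      rw [← Matrix.det_fin_two]; exact M.2
    have ha : M.1 0 0 ≠ 0 := by
      intro h0; rw [h0, hc] at hdet; simp at hdet
    have h3 : sl2Lower 1 * M ∈ N := by
      apply key
      rw [Matrix.SpecialLinearGroup.coe_mul]
      have : (sl2Lower (1 : F)).1 = !![1, 0; 1, 1] := rfl
      rw [this]
      simp [Matrix.mul_apply, Fin.sum_univ_two, hc, ha]
    have := N.mul_mem (N.inv_mem (h2 1)) h3
    simpa using this
  · exact key M hc

end SL2gen

/-- The automorphism group of a cyclic group is commutative. -/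
theorem mulAut_comm_of_cyclic {H : Type*} [Group H] [IsCyclic H] (α β : MulAut H) :
    α * β = β * α := by
  obtain ⟨g, hg⟩ := IsCyclic.exists_generator (α := H)
  obtain ⟨m, hm⟩ := Subgroup.mem_zpowers_iff.1 (hg (α g))
  obtain ⟨n, hn⟩ := Subgroup.mem_zpowers_iff.1 (hg (β g))
  apply MulEquiv.ext
  intro x
  obtain ⟨k, rfl⟩ := Subgroup.mem_zpowers_iff.1 (hg x)
  simp only [MulAut.mul_apply, map_zpow, ← hm, ← hn, ← zpow_mul]
  congr 1
  ring

section AutP2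
variable {H : Type*} [CommGroup H] [Finite H] {p : ℕ} [Fact p.Prime]

theorem sup_zpowers_eq_top (hcard : Nat.card H = p ^ 2) {e h : H} (he : e ≠ 1)
    (hh : h ∉ Subgroup.zpowers e) : Subgroup.zpowers e ⊔ Subgroup.zpowers h = ⊤ := by
  have hp := (Fact.out : p.Prime)
  have h1 : Nat.card ↥(Subgroup.zpowers e ⊔ Subgroup.zpowers h) ∣ p ^ 2 :=
    hcard ▸ Subgroup.card_subgroup_dvd_card _
  obtain ⟨i, hi, hiM⟩ := (Nat.dvd_prime_pow hp).1 h1
  have h2 : Nat.card (Subgroup.zpowers e) ∣ p ^ 2 := hcard ▸ Subgroup.card_subgroup_dvd_card _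
  obtain ⟨j, hj, hje⟩ := (Nat.dvd_prime_pow hp).1 h2
  have hj0 : j ≠ 0 := by
    rintro rfl
    rw [pow_zero, Nat.card_zpowers] at hje
    exact he (orderOf_eq_one_iff.1 hje)
  have hlt : Nat.card (Subgroup.zpowers e) < Nat.card ↥(Subgroup.zpowers e ⊔ Subgroup.zpowers h) := by
    by_contra hcon
    push Not at hcon
    have := Subgroup.eq_of_le_of_card_ge
      (le_sup_left : Subgroup.zpowers e ≤ Subgroup.zpowers e ⊔ Subgroup.zpowers h) hcon
    exact hh (this ▸ (le_sup_right : Subgroup.zpowers h ≤ Subgroup.zpowers e ⊔ Subgroup.zpowers h)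
      (Subgroup.mem_zpowers h))
  rw [hje, hiM] at hlt
  have hij : j < i := (Nat.pow_lt_pow_iff_right hp.one_lt).1 hlt
  have hi2 : i = 2 := by omega
  apply Subgroup.eq_top_of_card_eq
  rw [hiM, hi2, hcard]

theorem aut_ext_of_gens (hcard : Nat.card H = p ^ 2) {e h : H} (he : e ≠ 1)
    (hh : h ∉ Subgroup.zpowers e) {α β : MulAut H} (h1 : α e = β e) (h2 : α h = β h) : α = β := by
  have htop := sup_zpowers_eq_top hcard he hh
  apply MulEquiv.ext
  intro x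
  have hx : x ∈ Subgroup.zpowers e ⊔ Subgroup.zpowers h := htop ▸ Subgroup.mem_top x
  obtain ⟨y, hy, z, hz, rfl⟩ := Subgroup.mem_sup.1 hx
  obtain ⟨a, rfl⟩ := Subgroup.mem_zpowers_iff.1 hy
  obtain ⟨b, rfl⟩ := Subgroup.mem_zpowers_iff.1 hz
  simp only [map_mul, map_zpow, h1, h2]

theorem mem_of_zpow_mem (hexp : ∀ a : H, a ^ p = 1) {K : Subgroup H} {x : H} {m : ℤ}
    (hm : ¬ (p : ℤ) ∣ m) (hx : x ^ m ∈ K) : x ∈ K := by
  have hp := (Fact.out : p.Prime)
  have hco : IsCoprime (p : ℤ) m :=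
    (Nat.prime_iff_prime_int.1 hp).irreducible.coprime_iff_not_dvd.2 hm
  obtain ⟨u, v, huv⟩ := hco
  have : x = (x ^ (p : ℤ)) ^ u * (x ^ m) ^ v := by
    rw [← zpow_mul, ← zpow_mul, ← zpow_add, mul_comm (p : ℤ) u, mul_comm m v, huv, zpow_one]
  rw [this, zpow_natCast, hexp, one_zpow, one_mul]
  exact Subgroup.zpow_mem _ hx _

theorem zpow_eq_one_of_dvd (hexp : ∀ a : H, a ^ p = 1) (x : H) {m : ℤ} (hm : (p : ℤ) ∣ m) :
    x ^ m = 1 := by
  obtain ⟨k, rfl⟩ := hm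
  rw [zpow_mul, zpow_natCast, hexp, one_zpow]

theorem aut_stab (hcard : Nat.card H = p ^ 2) (hexp : ∀ a : H, a ^ p = 1) {α : MulAut H} {n : ℕ}
    (hα : α ^ (p ^ n) = 1) {e : H} (he : e ≠ 1) (hαe : α e = e) (h : H) :
    h⁻¹ * α h ∈ Subgroup.zpowers e := by
  have hfix : ∀ l ∈ Subgroup.zpowers e, α l = l := by
    intro l hl
    obtain ⟨a, rfl⟩ := Subgroup.mem_zpowers_iff.1 hl
    rw [map_zpow, hαe]
  by_cases hh : h ∈ Subgroup.zpowers e
  · rw [hfix h hh, inv_mul_cancel]; exact Subgroup.one_mem _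
  · have htop := sup_zpowers_eq_top hcard he hh
    have hx : α h ∈ Subgroup.zpowers e ⊔ Subgroup.zpowers h := htop ▸ Subgroup.mem_top _
    obtain ⟨y, hy, z, hz, hyz⟩ := Subgroup.mem_sup.1 hx
    obtain ⟨b, rfl⟩ := Subgroup.mem_zpowers_iff.1 hz
    have hind : ∀ k : ℕ, (α ^ k) h * (h ^ (b ^ k))⁻¹ ∈ Subgroup.zpowers e := by
      intro k
      induction k with
      | zero => simp
      | succ k ih =>
        have h1 : (α ^ k) h = ((α ^ k) h * (h ^ (b ^ k))⁻¹) * h ^ (b ^ k) := by group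
        have h2 : (α ^ (k + 1)) h = α ((α ^ k) h) := by rw [pow_succ']; rfl
        have h3 : (α ^ (k + 1)) h * (h ^ (b ^ (k + 1)))⁻¹ =
            ((α ^ k) h * (h ^ (b ^ k))⁻¹) * y ^ (b ^ k) := by
          rw [h2, h1, map_mul, hfix _ ih, map_zpow, ← hyz, mul_zpow, ← zpow_mul, pow_succ,
            mul_comm (b ^ k) b]
          group
        rw [h3]
        exact Subgroup.mul_mem _ ih (Subgroup.zpow_mem _ hy _)
    have h3 := hind (p ^ n)
    rw [hα] at h3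
    have h4 : h ^ (1 - b ^ (p ^ n)) ∈ Subgroup.zpowers e := by
      have : h ^ (1 - b ^ (p ^ n)) = h * (h ^ (b ^ (p ^ n)))⁻¹ := by
        rw [zpow_sub, zpow_one]
      rw [this]; exact h3
    have h5 : (p : ℤ) ∣ 1 - b ^ (p ^ n) := by
      by_contra hnd
      exact hh (mem_of_zpow_mem hexp hnd h4)
    have h6 : ((b : ℤ) : ZMod p) = 1 := by
      have : ((1 - b ^ (p ^ n) : ℤ) : ZMod p) = 0 := (ZMod.intCast_zmod_eq_zero_iff_dvd _ p).2 h5
      push_cast at this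
      rw [ZMod.pow_card_pow] at this
      exact (sub_eq_zero.1 this).symm
    have h7 : (p : ℤ) ∣ b - 1 := by
      rw [← ZMod.intCast_zmod_eq_zero_iff_dvd]; push_cast; rw [h6]; ring
    have h8 : h ^ b = h := by
      have : h ^ b = h ^ (b - 1) * h := by rw [← zpow_add_one]; ring_nf
      rw [this, zpow_eq_one_of_dvd hexp h h7, one_mul]
    rw [← hyz, h8]
    have : h⁻¹ * (y * h) = y := by rw [mul_comm y h, inv_mul_cancel_left]
    rw [this]; exact hy

theorem exists_fixed (hcard : Nat.card H = p ^ 2) (P : Subgroup (MulAut H)) (hP : IsPGroup p P) :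
    ∃ e : H, e ≠ 1 ∧ ∀ α ∈ P, α e = e := by
  have hdvd : p ∣ Nat.card H := by rw [hcard]; exact dvd_pow_self p two_ne_zero
  have h1 : (1 : H) ∈ MulAction.fixedPoints P H := by
    intro α; rw [Subgroup.smul_def, MulAut.smul_def, map_one]
  obtain ⟨b, hb, hne⟩ := hP.exists_fixed_point_of_prime_dvd_card_of_fixed_point H hdvd h1
  exact ⟨b, fun h => hne h.symm, fun α hα => by
    have := hb ⟨α, hα⟩
    rwa [Subgroup.smul_def, MulAut.smul_def] at this⟩

/-- The automorphisms fixing `e` and acting trivially modulo `⟨e⟩`. -/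
def stabU (e : H) : Subgroup (MulAut H) where
  carrier := {α | α e = e ∧ ∀ h, h⁻¹ * α h ∈ Subgroup.zpowers e}
  one_mem' := ⟨rfl, fun h => by simp⟩
  mul_mem' := by
    rintro α β ⟨ha, ha'⟩ ⟨hb, hb'⟩
    refine ⟨by rw [MulAut.mul_apply, hb, ha], fun h => ?_⟩
    have : h⁻¹ * (α * β) h = (h⁻¹ * β h) * ((β h)⁻¹ * α (β h)) := by
      rw [MulAut.mul_apply]; group
    rw [this]; exact Subgroup.mul_mem _ (hb' h) (ha' (β h))
  inv_mem' := by
    rintro α ⟨ha, ha'⟩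
    refine ⟨?_, fun h => ?_⟩
    · have : α⁻¹ (α e) = e := MulAut.inv_apply_self _ _ _
      rwa [ha] at this
    · have := ha' (α⁻¹ h)
      rw [MulAut.apply_inv_self] at this
      have h2 := Subgroup.inv_mem _ this
      rwa [mul_inv_rev, inv_inv] at h2

theorem mem_stabU {e : H} {α : MulAut H} :
    α ∈ stabU e ↔ α e = e ∧ ∀ h, h⁻¹ * α h ∈ Subgroup.zpowers e := Iff.rfl

theorem stabU_isPGroup (hexp : ∀ a : H, a ^ p = 1) (e : H) : IsPGroup p (stabU e) := by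
  rintro ⟨α, ha, ha'⟩
  refine ⟨1, Subtype.ext ?_⟩
  rw [pow_one]
  have hfix : ∀ l ∈ Subgroup.zpowers e, α l = l := by
    intro l hl
    obtain ⟨a, rfl⟩ := Subgroup.mem_zpowers_iff.1 hl
    rw [map_zpow, ha]
  have hind : ∀ (h l : H), α h = h * l → l ∈ Subgroup.zpowers e → ∀ (k : ℕ), (α ^ k) h = h * l ^ k := by
    intro h l hl hlm k
    induction k with
    | zero => simp
    | succ k ih =>
      have h2 : (α ^ (k + 1)) h = α ((α ^ k) h) := by rw [pow_succ']; rfl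
      rw [h2, ih, map_mul, map_pow, hfix _ hlm, hl, pow_succ, mul_assoc, mul_comm l]
  change α ^ p = 1
  apply MulEquiv.ext
  intro h
  rw [hind h (h⁻¹ * α h) (by group) (ha' h) p, hexp, mul_one]; rfl

theorem orderOf_eq_of_exp (hexp : ∀ a : H, a ^ p = 1) {e : H} (he : e ≠ 1) : orderOf e = p :=
  orderOf_eq_prime (hexp e) he

theorem zpowers_eq_of_mem (hexp : ∀ a : H, a ^ p = 1) {e₁ e₂ : H} (he₂ : e₂ ≠ 1)
    (hmem : e₂ ∈ Subgroup.zpowers e₁) : Subgroup.zpowers e₂ = Subgroup.zpowers e₁ := by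
  have he₁ : e₁ ≠ 1 := by
    rintro rfl
    rw [Subgroup.zpowers_one_eq_bot, Subgroup.mem_bot] at hmem
    exact he₂ hmem
  apply Subgroup.eq_of_le_of_card_ge (Subgroup.zpowers_le.2 hmem)
  rw [Nat.card_zpowers, Nat.card_zpowers, orderOf_eq_of_exp hexp he₁, orderOf_eq_of_exp hexp he₂]

theorem exists_transvections (hcard : Nat.card H = p ^ 2) (hexp : ∀ a : H, a ^ p = 1)
    (A : Subgroup (MulAut H)) (P₁ P₂ : Sylow p A) (hne : P₁ ≠ P₂)
    (hP₁ : (P₁ : Subgroup A) ≠ ⊥) (hP₂ : (P₂ : Subgroup A) ≠ ⊥) :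
    ∃ (e₁ e₂ : H) (τ₁ τ₂ : MulAut H) (a b : ℤ), τ₁ ∈ A ∧ τ₂ ∈ A ∧ e₁ ≠ 1 ∧
      e₂ ∉ Subgroup.zpowers e₁ ∧ τ₁ e₁ = e₁ ∧ τ₂ e₂ = e₂ ∧
      τ₁ e₂ = e₂ * e₁ ^ a ∧ τ₂ e₁ = e₁ * e₂ ^ b ∧ ¬ (p : ℤ) ∣ a ∧ ¬ (p : ℤ) ∣ b := by
  have hpel : ∀ P : Sylow p A, ∀ α : A, α ∈ P → ∃ n : ℕ, (α : MulAut H) ^ (p ^ n) = 1 := by
    intro P α hα
    obtain ⟨n, hn⟩ := P.isPGroup' ⟨α, hα⟩
    refine ⟨n, ?_⟩
    have := congrArg (fun x : (P : Subgroup A) => ((x : A) : MulAut H)) hn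
    simpa using this
  have hfixS : ∀ P : Sylow p A, ∃ e : H, e ≠ 1 ∧ ∀ α : A, α ∈ P → (α : MulAut H) e = e := by
    intro P
    obtain ⟨e, he, hfix⟩ := exists_fixed hcard ((P : Subgroup A).map A.subtype)
      (P.isPGroup'.map A.subtype)
    exact ⟨e, he, fun α hα => hfix _ ⟨α, hα, rfl⟩⟩
  obtain ⟨e₁, he₁, hf₁⟩ := hfixS P₁
  obtain ⟨e₂, he₂, hf₂⟩ := hfixS P₂
  have hU : ∀ (P : Sylow p A) (e : H), e ≠ 1 → (∀ α : A, α ∈ P → (α : MulAut H) e = e) →
      (P : Subgroup A) ≤ (stabU e).subgroupOf A := by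
    intro P e he hf α hα
    rw [Subgroup.mem_subgroupOf, mem_stabU]
    obtain ⟨n, hn⟩ := hpel P α hα
    exact ⟨hf α hα, fun h => aut_stab hcard hexp hn he (hf α hα) h⟩
  have hmax : ∀ (P : Sylow p A) (e : H), e ≠ 1 → (∀ α : A, α ∈ P → (α : MulAut H) e = e) →
      (stabU e).subgroupOf A = (P : Subgroup A) := by
    intro P e he hf
    exact P.is_maximal' ((stabU_isPGroup hexp e).comap_subtype) (hU P e he hf)
  have hnot : e₂ ∉ Subgroup.zpowers e₁ := by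
    intro hmem
    have hz := zpowers_eq_of_mem hexp he₂ hmem
    have hf₂' : ∀ α : A, α ∈ P₂ → (α : MulAut H) e₁ = e₁ := by
      intro α hα
      have h1 : e₁ ∈ Subgroup.zpowers e₂ := hz ▸ Subgroup.mem_zpowers e₁
      obtain ⟨c, rfl⟩ := Subgroup.mem_zpowers_iff.1 h1
      rw [map_zpow, hf₂ α hα]
    apply hne
    apply Sylow.ext
    rw [← hmax P₁ e₁ he₁ hf₁, ← hmax P₂ e₁ he₁ hf₂']
  have hnot' : e₁ ∉ Subgroup.zpowers e₂ := by
    intro hmem
    have hz := zpowers_eq_of_mem hexp he₁ hmem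
    exact hnot (hz ▸ Subgroup.mem_zpowers e₂)
  obtain ⟨τ₁, hτ₁1⟩ := (Subgroup.ne_bot_iff_exists_ne_one).1 hP₁
  obtain ⟨τ₂, hτ₂1⟩ := (Subgroup.ne_bot_iff_exists_ne_one).1 hP₂
  have hτ₁U := hU P₁ e₁ he₁ hf₁ τ₁.2
  have hτ₂U := hU P₂ e₂ he₂ hf₂ τ₂.2
  rw [Subgroup.mem_subgroupOf, mem_stabU] at hτ₁U hτ₂U
  obtain ⟨a, ha⟩ := Subgroup.mem_zpowers_iff.1 (hτ₁U.2 e₂)
  obtain ⟨b, hb⟩ := Subgroup.mem_zpowers_iff.1 (hτ₂U.2 e₁)
  refine ⟨e₁, e₂, ((τ₁ : A) : MulAut H), ((τ₂ : A) : MulAut H), a, b, (τ₁ : A).2, (τ₂ : A).2,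
    he₁, hnot, hτ₁U.1, hτ₂U.1, ?_, ?_, ?_, ?_⟩
  · rw [ha]; group
  · rw [hb]; group
  · intro hdvd
    apply hτ₁1
    have h1 : ((τ₁ : A) : MulAut H) e₂ = e₂ := by
      have : e₂⁻¹ * ((τ₁ : A) : MulAut H) e₂ = 1 := by
        rw [← ha]; exact zpow_eq_one_of_dvd hexp e₁ hdvd
      exact (inv_mul_eq_one.1 this).symm
    have : ((τ₁ : A) : MulAut H) = 1 := aut_ext_of_gens hcard he₁ hnot hτ₁U.1 h1
    exact Subtype.ext (Subtype.ext this)
  · intro hdvd
    apply hτ₂1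
    have h1 : ((τ₂ : A) : MulAut H) e₁ = e₁ := by
      have : e₁⁻¹ * ((τ₂ : A) : MulAut H) e₁ = 1 := by
        rw [← hb]; exact zpow_eq_one_of_dvd hexp e₂ hdvd
      exact (inv_mul_eq_one.1 this).symm
    have : ((τ₂ : A) : MulAut H) = 1 := aut_ext_of_gens hcard he₂ hnot' hτ₂U.1 h1
    exact Subtype.ext (Subtype.ext this)

theorem pow_apply_of_fix {α : MulAut H} {e f : H} {a : ℤ} (h1 : α e = e) (h2 : α f = f * e ^ a)
    (k : ℕ) : (α ^ k) f = f * e ^ ((k : ℤ) * a) := by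
  induction k with
  | zero => simp
  | succ k ih =>
    have h3 : (α ^ (k + 1)) f = α ((α ^ k) f) := by rw [pow_succ']; rfl
    rw [h3, ih, map_mul, map_zpow, h1, h2, mul_assoc, ← zpow_add]
    congr 2
    push_cast
    ring

theorem pow_apply_of_fix' {α : MulAut H} {e : H} (h1 : α e = e) (k : ℕ) : (α ^ k) e = e := by
  induction k with
  | zero => simp
  | succ k ih =>
    have h3 : (α ^ (k + 1)) e = α ((α ^ k) e) := by rw [pow_succ']; rfl
    rw [h3, ih, h1]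

theorem exists_sl2_aux [Module (ZMod p) (Additive H)]
    (hcard : Nat.card H = p ^ 2) (hexp : ∀ a : H, a ^ p = 1)
    (A : Subgroup (MulAut H)) (e₁ e₂ : H) (τ₁ τ₂ : MulAut H) (a b : ℤ) (h₁ : τ₁ ∈ A) (h₂ : τ₂ ∈ A)
    (he₁ : e₁ ≠ 1) (he₂ : e₂ ∉ Subgroup.zpowers e₁) (hτ₁ : τ₁ e₁ = e₁) (hτ₂ : τ₂ e₂ = e₂)
    (hτ₁' : τ₁ e₂ = e₂ * e₁ ^ a) (hτ₂' : τ₂ e₁ = e₁ * e₂ ^ b) (ha : ¬ (p : ℤ) ∣ a)
    (hb : ¬ (p : ℤ) ∣ b) :
    ∃ K : Subgroup A, Nonempty (K ≃* Matrix.SpecialLinearGroup (Fin 2) (ZMod p)) := by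
  have hp := (Fact.out : p.Prime)
  have he₂1 : e₂ ≠ 1 := fun h => he₂ (h ▸ Subgroup.one_mem _)
  have he₁' : e₁ ∉ Subgroup.zpowers e₂ := by
    intro hmem
    have hz := zpowers_eq_of_mem hexp he₁ hmem
    exact he₂ (hz ▸ Subgroup.mem_zpowers e₂)
  have hsm : ∀ (m : ℤ) (e : H), ((m : ZMod p)) • Additive.ofMul e = Additive.ofMul (e ^ m) := by
    intro m e
    rw [Int.cast_smul_eq_zsmul]; rfl
  have hli : LinearIndependent (ZMod p) ![Additive.ofMul e₁, Additive.ofMul e₂] := by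
    rw [LinearIndependent.pair_iff]
    intro s t hst
    obtain ⟨m, rfl⟩ := ZMod.intCast_surjective s
    obtain ⟨n, rfl⟩ := ZMod.intCast_surjective t
    rw [hsm, hsm] at hst
    have hst' : e₁ ^ m * e₂ ^ n = 1 := hst
    have h1 : e₂ ^ n ∈ Subgroup.zpowers e₁ := by
      have : e₂ ^ n = (e₁ ^ m)⁻¹ := eq_inv_of_mul_eq_one_right hst'
      rw [this]
      exact Subgroup.inv_mem _ (Subgroup.zpow_mem _ (Subgroup.mem_zpowers e₁) _)
    have hn : (p : ℤ) ∣ n := by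
      by_contra hnd
      exact he₂ (mem_of_zpow_mem hexp hnd h1)
    have h2 : e₁ ^ m = 1 := by
      rw [zpow_eq_one_of_dvd hexp e₂ hn, mul_one] at hst'
      exact hst'
    have hm : (p : ℤ) ∣ m := by
      by_contra hnd
      have : e₁ ∈ (⊥ : Subgroup H) := mem_of_zpow_mem hexp hnd (by rw [h2]; exact Subgroup.one_mem _)
      exact he₁ (Subgroup.mem_bot.1 this)
    exact ⟨(ZMod.intCast_zmod_eq_zero_iff_dvd _ p).2 hm, (ZMod.intCast_zmod_eq_zero_iff_dvd _ p).2 hn⟩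
  have hfr : Module.finrank (ZMod p) (Additive H) = 2 := by
    haveI : Fintype (Additive H) := Fintype.ofFinite _
    have h1 := Module.card_eq_pow_finrank (K := ZMod p) (V := Additive H)
    have h2 : Nat.card (Additive H) = p ^ 2 := hcard
    rw [← Nat.card_eq_fintype_card, h2, ZMod.card] at h1
    exact (Nat.pow_right_injective hp.two_le h1).symm
  let bs : Module.Basis (Fin 2) (ZMod p) (Additive H) :=
    basisOfLinearIndependentOfCardEqFinrank hli (by rw [hfr]; rfl)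
  have hbs0 : bs 0 = Additive.ofMul e₁ := by
    simp only [bs, coe_basisOfLinearIndependentOfCardEqFinrank]; rfl
  have hbs1 : bs 1 = Additive.ofMul e₂ := by
    simp only [bs, coe_basisOfLinearIndependentOfCardEqFinrank]; rfl
  let θ : Additive H ≃ₗ[ZMod p] (Fin 2 → ZMod p) := bs.equivFun
  let ρf : Matrix.SpecialLinearGroup (Fin 2) (ZMod p) → H → H :=
    fun M h => Additive.toMul (θ.symm (M.1.mulVec (θ (Additive.ofMul h))))
  have ρf_mul : ∀ M N h, ρf (M * N) h = ρf M (ρf N h) := by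
    intro M N h
    simp only [ρf, ofMul_toMul, LinearEquiv.apply_symm_apply, Matrix.SpecialLinearGroup.coe_mul,
      Matrix.mulVec_mulVec]
  have ρf_one : ∀ h, ρf 1 h = h := by
    intro h
    simp only [ρf, Matrix.SpecialLinearGroup.coe_one, Matrix.one_mulVec,
      LinearEquiv.symm_apply_apply, toMul_ofMul]
  have ρf_map : ∀ M h k, ρf M (h * k) = ρf M h * ρf M k := by
    intro M h k
    simp only [ρf, ofMul_mul, map_add, Matrix.mulVec_add, toMul_add]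
  let ρ : Matrix.SpecialLinearGroup (Fin 2) (ZMod p) →* MulAut H :=
    { toFun := fun M =>
        { toFun := ρf M, invFun := ρf M⁻¹,
          left_inv := fun h => by rw [← ρf_mul, inv_mul_cancel, ρf_one],
          right_inv := fun h => by rw [← ρf_mul, mul_inv_cancel, ρf_one],
          map_mul' := ρf_map M },
      map_one' := by ext h; exact ρf_one h,
      map_mul' := fun M N => by ext h; exact ρf_mul M N h }
  have hρ : ∀ M h, ρ M h = ρf M h := fun M h => rfl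
  have hinj : Function.Injective ρ := by
    rw [injective_iff_map_eq_one]
    intro M hM
    have h1 : ∀ v : Fin 2 → ZMod p, M.1.mulVec v = v := by
      intro v
      have := congrArg (fun f : MulAut H => f (Additive.toMul (θ.symm v))) hM
      simp only [hρ, ρf, MulAut.one_apply, ofMul_toMul, LinearEquiv.apply_symm_apply] at this
      exact θ.symm.injective (Additive.toMul.injective this)
    apply Subtype.ext
    apply Matrix.toLin'.injective
    apply LinearMap.ext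
    intro v
    rw [Matrix.toLin'_apply, h1]
    simp
  have hcol1 : ∀ M : Matrix.SpecialLinearGroup (Fin 2) (ZMod p),
      ρf M e₁ = Additive.toMul (M.1 0 0 • Additive.ofMul e₁ + M.1 1 0 • Additive.ofMul e₂) := by
    intro M
    simp [ρf, θ, ← hbs0, ← hbs1, Module.Basis.equivFun_symm_apply, Fin.sum_univ_two]
  have hcol2 : ∀ M : Matrix.SpecialLinearGroup (Fin 2) (ZMod p),
      ρf M e₂ = Additive.toMul (M.1 0 1 • Additive.ofMul e₁ + M.1 1 1 • Additive.ofMul e₂) := by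
    intro M
    simp [ρf, θ, ← hbs0, ← hbs1, Module.Basis.equivFun_symm_apply, Fin.sum_univ_two]
  have ha' : ((a : ℤ) : ZMod p) ≠ 0 := fun h => ha ((ZMod.intCast_zmod_eq_zero_iff_dvd _ p).1 h)
  have hb' : ((b : ℤ) : ZMod p) ≠ 0 := fun h => hb ((ZMod.intCast_zmod_eq_zero_iff_dvd _ p).1 h)
  have hup : ∀ x : ZMod p, ρ (sl2Upper x) ∈ A := by
    intro x
    obtain ⟨k, hk⟩ : ∃ k : ℕ, (((k : ℤ) * a : ℤ) : ZMod p) = x :=
      ⟨(x / (a : ZMod p)).val, by push_cast; rw [ZMod.natCast_zmod_val, div_mul_cancel₀ _ ha']⟩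
    have : ρ (sl2Upper x) = τ₁ ^ k := by
      apply aut_ext_of_gens hcard he₁ he₂
      · rw [hρ, hcol1, pow_apply_of_fix' hτ₁]
        have h1 : (sl2Upper x).1 0 0 = 1 := rfl
        have h2 : (sl2Upper x).1 1 0 = 0 := rfl
        rw [h1, h2, one_smul, zero_smul, add_zero]; rfl
      · rw [hρ, hcol2, pow_apply_of_fix hτ₁ hτ₁']
        have h1 : (sl2Upper x).1 0 1 = x := rfl
        have h2 : (sl2Upper x).1 1 1 = 1 := rfl
        rw [h1, h2, one_smul, ← hk, hsm, add_comm]; rfl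
    rw [this]; exact A.pow_mem h₁ k
  have hlo : ∀ y : ZMod p, ρ (sl2Lower y) ∈ A := by
    intro y
    obtain ⟨k, hk⟩ : ∃ k : ℕ, (((k : ℤ) * b : ℤ) : ZMod p) = y :=
      ⟨(y / (b : ZMod p)).val, by push_cast; rw [ZMod.natCast_zmod_val, div_mul_cancel₀ _ hb']⟩
    have : ρ (sl2Lower y) = τ₂ ^ k := by
      apply aut_ext_of_gens hcard he₂1 he₁'
      · rw [hρ, hcol2, pow_apply_of_fix' hτ₂]
        have h1 : (sl2Lower y).1 0 1 = 0 := rfl
        have h2 : (sl2Lower y).1 1 1 = 1 := rfl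
        rw [h1, h2, one_smul, zero_smul, zero_add]; rfl
      · rw [hρ, hcol1, pow_apply_of_fix hτ₂ hτ₂']
        have h1 : (sl2Lower y).1 0 0 = 1 := rfl
        have h2 : (sl2Lower y).1 1 0 = y := rfl
        rw [h1, h2, one_smul, ← hk, hsm]; rfl
    rw [this]; exact A.pow_mem h₂ k
  have htop : A.comap ρ = ⊤ := sl2_eq_top _ hup hlo
  have hle : ρ.range ≤ A := by
    rintro _ ⟨M, rfl⟩
    have : M ∈ A.comap ρ := htop ▸ Subgroup.mem_top M
    exact this
  exact ⟨ρ.range.subgroupOf A,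
    ⟨(Subgroup.subgroupOfEquivOfLe hle).trans (MonoidHom.ofInjective hinj).symm⟩⟩

theorem exists_sl2 (hcard : Nat.card H = p ^ 2) (hexp : ∀ a : H, a ^ p = 1)
    (A : Subgroup (MulAut H)) (e₁ e₂ : H) (τ₁ τ₂ : MulAut H) (a b : ℤ) (h₁ : τ₁ ∈ A) (h₂ : τ₂ ∈ A)
    (he₁ : e₁ ≠ 1) (he₂ : e₂ ∉ Subgroup.zpowers e₁) (hτ₁ : τ₁ e₁ = e₁) (hτ₂ : τ₂ e₂ = e₂)
    (hτ₁' : τ₁ e₂ = e₂ * e₁ ^ a) (hτ₂' : τ₂ e₁ = e₁ * e₂ ^ b) (ha : ¬ (p : ℤ) ∣ a)
    (hb : ¬ (p : ℤ) ∣ b) :
    ∃ K : Subgroup A, Nonempty (K ≃* Matrix.SpecialLinearGroup (Fin 2) (ZMod p)) := by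
  letI : Module (ZMod p) (Additive H) := AddCommGroup.zmodModule (n := p) (fun x => by
    change Additive.ofMul ((Additive.toMul x) ^ p) = 0
    rw [hexp]; rfl)
  exact exists_sl2_aux hcard hexp A e₁ e₂ τ₁ τ₂ a b h₁ h₂ he₁ he₂ hτ₁ hτ₂ hτ₁' hτ₂' ha hb

end AutP2

/-- A subgroup `A` of the automorphism group of a group of order `p²`, of order divisible by `p`
and with trivial `O_p`: the group is elementary abelian and `A` contains `SL₂(p)`. -/
theorem sl2_of_aut {H : Type*} [Group H] [Finite H] (p : ℕ) [Fact p.Prime]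
    (hcard : Nat.card H = p ^ 2) (A : Subgroup (MulAut H)) (hdvd : p ∣ Nat.card A)
    (hcore : pCore p A = ⊥) :
    (∀ a b : H, a * b = b * a) ∧ (∀ a : H, a ^ p = 1) ∧
      ∃ K : Subgroup A, Nonempty (K ≃* Matrix.SpecialLinearGroup (Fin 2) (ZMod p)) := by
  have hp := (Fact.out : p.Prime)
  have hcomm : ∀ a b : H, a * b = b * a :=
    (IsPGroup.isMulCommutative_of_card_eq_prime_sq hcard).is_comm.comm
  letI : CommGroup H := { ‹Group H› with mul_comm := hcomm }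
  obtain ⟨P₁⟩ : Nonempty (Sylow p A) := inferInstance
  have hP₁ : (P₁ : Subgroup A) ≠ ⊥ := P₁.ne_bot_of_dvd_card hdvd
  have hnn : ¬ (P₁ : Subgroup A).Normal := fun hn =>
    hP₁ (le_bot_iff.1 (hcore ▸ le_pCore hn P₁.isPGroup'))
  obtain ⟨P₂, hne⟩ : ∃ P₂ : Sylow p A, P₁ ≠ P₂ := by
    by_contra hcon
    push Not at hcon
    haveI : Subsingleton (Sylow p A) := ⟨fun a b => (hcon a).symm.trans (hcon b)⟩
    exact hnn (Sylow.normal_of_subsingleton P₁)
  have hP₂ : (P₂ : Subgroup A) ≠ ⊥ := P₂.ne_bot_of_dvd_card hdvd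
  have hexp : ∀ a : H, a ^ p = 1 := by
    intro a
    have h1 : orderOf a ∣ p ^ 2 := hcard ▸ orderOf_dvd_natCard a
    obtain ⟨i, hi, hia⟩ := (Nat.dvd_prime_pow hp).1 h1
    have hi2 : i ≠ 2 := by
      rintro rfl
      haveI hcyc : IsCyclic H := isCyclic_of_orderOf_eq_card a (hia.trans hcard.symm)
      apply hnn
      refine ⟨fun n hn g => ?_⟩
      have : g * n * g⁻¹ = n := by
        apply Subtype.ext
        have := mulAut_comm_of_cyclic (g : MulAut H) (n : MulAut H)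
        simp only [Subgroup.coe_mul, Subgroup.coe_inv]
        rw [this, mul_inv_cancel_right]
      rwa [this]
    have hi1 : i ≤ 1 := by omega
    have h2 : orderOf a ∣ p := by
      rw [hia]
      exact (pow_dvd_pow p hi1).trans (by rw [pow_one])
    exact orderOf_dvd_iff_pow_eq_one.1 h2
  obtain ⟨e₁, e₂, τ₁, τ₂, a, b, h1, h2, h3, h4, h5, h6, h7, h8, h9, h10⟩ :=
    exists_transvections hcard hexp A P₁ P₂ hne hP₁ hP₂
  exact ⟨hcomm, hexp, exists_sl2 hcard hexp A e₁ e₂ τ₁ τ₂ a b h1 h2 h3 h4 h5 h6 h7 h8 h9 h10⟩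

end Cfsg.Agent.Lib.helper26
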